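import Mathlib
import Cfsg.Agent.Tr8.NzData
import Cfsg.Agent.F4T.Nw

/-!
Letters for the groups `3⁴ : (W(D₄).3)` and `3⁴ : W(F₄)`: `e₁, …, e₄` is a basis of `J`, the involutions `a₁, a₂, m` are the
reflections in `e₁ - e₂`, `e₂ - e₃`, `e₃ - e₄`, `y` is a triality, `w` inverts `J`, and `t` is `1` or the reflection in `e₄`.
-/

set_option autoImplicit false
set_option synthInstance.maxSize 100000
set_option synthInstance.maxHeartbeats 1000000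
set_option linter.unusedSectionVars false
set_option maxRecDepth 100000

namespace Cfsg.Agent.Tr8

open Cfsg.Agent.Spor Cfsg.Agent.Rec Cfsg.Agent.Inv.Fz Cfsg.Agent.T16 Cfsg.Agent.T3 Subgroup
open Cfsg.Agent.F4L (Ac mem_eq Pre Nw)

universe u

variable {G : Type u} [Group G]

/-- A self-centralising elementary abelian group of order 81 and elements acting on it. -/
structure Pz (e1 e2 e3 e4 a1 a2 m y t w : G) : Prop where
  comm : ∀ x ∈ clos [e1, e2, e3, e4], ∀ y ∈ clos [e1, e2, e3, e4], x * y = y * x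
  exp : ∀ x ∈ clos [e1, e2, e3, e4], x ^ 3 = 1
  card : Nat.card (clos [e1, e2, e3, e4]) = 81
  cent : centralizer (clos [e1, e2, e3, e4] : Set G) ≤ clos [e1, e2, e3, e4]
  ha1 : Ac a1 e1 e2 e3 e4 e2 e1 e3 e4
  ha2 : Ac a2 e1 e2 e3 e4 e1 e3 e2 e4
  hm : Ac m e1 e2 e3 e4 e1 e2 e4 e3
  hy : Ac y e1 e2 e3 e4 (e1 * (e1 * e2 * e3 * e4)) (e2 * (e1 * e2 * e3 * e4)) (e3 * (e1 * e2 * e3 * e4))
    (e4 * (e1 * e2 * e3 * e4))⁻¹
  ht : t = 1 ∨ Ac t e1 e2 e3 e4 e1 e2 e3 e4⁻¹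
  hw : Ac w e1 e2 e3 e4 e1⁻¹ e2⁻¹ e3⁻¹ e4⁻¹

/-- The letters. -/
structure Nz (G : Type u) [Group G] where
  e1 : G
  e2 : G
  e3 : G
  e4 : G
  a1 : G
  a2 : G
  m : G
  y : G
  t : G
  w : G
  pre : Pz e1 e2 e3 e4 a1 a2 m y t w
  cw : a1 * w = w * a1 ∧ a2 * w = w * a2 ∧ m * w = w * m ∧ y * w = w * y ∧ t * w = w * t

namespace Pz

variable {e1 e2 e3 e4 a1 a2 m y t w : G} (h : Pz e1 e2 e3 e4 a1 a2 m y t w)
include h

theorem mem {g : G} (hg : Ac g e1 e2 e3 e4 e1 e2 e3 e4) : g ∈ clos [e1, e2, e3, e4] :=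
  h.cent fun x hx => (commute_clos (by
    simp only [List.forall_mem_cons, List.not_mem_nil, false_imp_iff, implies_true, and_true]
    exact ⟨mem_cen.1 (mem_cen'.2 hg.1), mem_cen.1 (mem_cen'.2 hg.2.1), mem_cen.1 (mem_cen'.2 hg.2.2.1),
      mem_cen.1 (mem_cen'.2 hg.2.2.2)⟩) x hx).symm

theorem inv {x : G} (hx : x ∈ clos [e1, e2, e3, e4]) : w * x * w⁻¹ = x⁻¹ := by
  induction hx using closure_induction with
  | mem y hy =>
    simp only [List.mem_cons, List.not_mem_nil, or_false, Set.mem_ofPred_eq] at hy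
    rcases hy with rfl | rfl | rfl | rfl
    exacts [h.hw.1, h.hw.2.1, h.hw.2.2.1, h.hw.2.2.2]
  | one => simp
  | mul x y hx hy a b => rw [← conj_mul, a, b, ← mul_inv_rev, h.comm x hx y hy]
  | inv x _ a => rw [← conj_inv, a]

theorem fpf {x : G} (hx : x ∈ clos [e1, e2, e3, e4]) (e : x * w = w * x) : x = 1 := by
  have h1 : x = x⁻¹ := by rw [← h.inv hx, ← e]; group
  calc x = x ^ 3 * (x⁻¹ * x⁻¹) := by group
    _ = 1 := by rw [h.exp x hx, one_mul]; nth_rw 1 [← h1]; group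

/-- Two elements commuting with `w` and acting alike are equal. -/
theorem ext {g k : G} (hg : g * w = w * g) (hk : k * w = w * k) (e : g * k⁻¹ ∈ clos [e1, e2, e3, e4]) : g = k :=
  mul_inv_eq_one.1 (h.fpf e ((show Commute g w from hg).mul_left (show Commute k w from hk).inv_left))

theorem sq {g y1 y2 y3 y4 : G} (hg : g * w = w * g) (h1 : Ac g e1 e2 e3 e4 y1 y2 y3 y4)
    (h2 : Ac g y1 y2 y3 y4 e1 e2 e3 e4) : g * g = 1 :=
  h.fpf (h.mem (h2.mul h1)) ((show Commute g w from hg).mul_left hg)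

end Pz

namespace Nz

variable (n : Nz G)

/-- The 3-central element. -/
def z : G := n.e1 * n.e2 * n.e3
/-- A root. -/
def u : G := n.e1 * n.e2⁻¹
/-- The rotation `e₁ ↦ e₂ ↦ e₃`. -/
def v : G := n.a1 * n.a2
/-- The three roots centralised by `a₁`; `y : k₁ ↦ k₂ ↦ k₃ ↦ k₁`, `t : k₁ ↔ k₂`, `k₁ k₂ k₃ = z⁻¹`. -/
def k1 : G := n.e3 * n.e4
def k2 : G := n.e3 * n.e4⁻¹
def k3 : G := (n.e1 * n.e2)⁻¹
/-- The reflection in `k₃` (the one in `k₂` is `m`). -/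
def s3 : G := n.y * n.m * n.y⁻¹
/-- The reflection in `k₁`. -/
def s1 : G := n.y * (n.y * n.m * n.y⁻¹) * n.y⁻¹
/-- The letters without `t`. -/
abbrev e0 : List G :=
  [n.e1, n.e2, n.e3, n.e4, n.a1, n.a2, n.m, n.y, n.w, n.z, n.u, n.v, n.k1, n.k2, n.k3, n.s1, n.s3, n.y⁻¹]
/-- All letters. -/
abbrev e : List G :=
  [n.e1, n.e2, n.e3, n.e4, n.a1, n.a2, n.m, n.y, n.w, n.z, n.u, n.v, n.k1, n.k2, n.k3, n.s1, n.s3, n.y⁻¹, n.t]
abbrev eW : List G := [n.a1, n.a2, n.m, n.y]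

def J : Subgroup G := clos [n.e1, n.e2, n.e3, n.e4]
/-- `W(D₄).3`, order 576. -/
def W0 : Subgroup G := clos [n.a1, n.a2, n.m, n.y, n.y⁻¹, n.w]
def J0 : Subgroup G := clos [n.e1, n.e2, n.e3]
/-- `C_J(a₁)`. -/
def J1 : Subgroup G := clos [n.k1, n.k2, n.k3]
/-- The Sylow 3-subgroup. -/
def S : Subgroup G := clos [n.e1, n.e2, n.e3, n.e4, n.v, n.y]
def Q : Subgroup G := clos [n.z, n.u, n.v, n.e4, n.y]
def R1 : Subgroup G := clos [n.z, n.u, n.v]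
def R2 : Subgroup G := clos [n.z, n.e4, n.y]
/-- `C_S(a₁)`, order 81. -/
def T : Subgroup G := clos [n.k1, n.k2, n.k3, n.y]
/-- `C_{W₀}(a₁)`, order 48. -/
def WK : Subgroup G := clos [n.a1, n.y, n.m]
/-- Elementary abelian of order 16. -/
def U0 : Subgroup G := clos [n.a1, n.s1, n.m, n.s3]
def S0 : Subgroup G := clos [n.e1, n.e2, n.e3, n.v]
def A9 : Subgroup G := clos [n.e1 * n.e2, n.e3]
def S1 : Subgroup G := clos [n.z, n.u]
def V9 : Subgroup G := clos [n.z, n.e4]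
def B9 : Subgroup G := clos [n.k1, n.k2]
/-- The 32 singular vectors. -/
def Om : Set G := cls n.eW n.z
/-- The 24 short vectors. -/
def Sh : Set G := cls n.eW n.e4
/-- The 24 roots. -/
def Lg : Set G := cls n.eW n.u

theorem sqs : n.a1 * n.a1 = 1 ∧ n.a2 * n.a2 = 1 ∧ n.m * n.m = 1 ∧ n.t * n.t = 1 ∧ n.w * n.w = 1 := by
  obtain ⟨c1, c2, c3, -, c5⟩ := n.cw
  have p := n.pre
  refine ⟨p.sq c1 p.ha1 ⟨p.ha1.2.1, p.ha1.1, p.ha1.2.2⟩, p.sq c2 p.ha2 ⟨p.ha2.1, p.ha2.2.2.1, p.ha2.2.1, p.ha2.2.2.2⟩,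
    p.sq c3 p.hm ⟨p.hm.1, p.hm.2.1, p.hm.2.2.2, p.hm.2.2.1⟩, ?_, p.sq rfl p.hw ?_⟩
  · rcases p.ht with e | e
    · rw [e, one_mul]
    · exact p.sq c5 e ⟨e.1, e.2.1, e.2.2.1, by rw [← conj_inv, e.2.2.2, inv_inv]⟩
  · refine ⟨?_, ?_, ?_, ?_⟩ <;> rw [← conj_inv]
    exacts [by rw [p.hw.1, inv_inv], by rw [p.hw.2.1, inv_inv], by rw [p.hw.2.2.1, inv_inv], by rw [p.hw.2.2.2, inv_inv]]

theorem satZ : Sat (F4L.relJ4 ++ actZ)
    [n.e1, n.e1⁻¹, n.e2, n.e2⁻¹, n.e3, n.e3⁻¹, n.e4, n.e4⁻¹, n.a1, n.a2, n.m, n.y, n.y⁻¹, n.w] := by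
  have p := n.pre
  have m : ∀ i, nth 1 [n.e1, n.e2, n.e3, n.e4] i ∈ clos [n.e1, n.e2, n.e3, n.e4] := nth_mem_clos _
  have c : ∀ i j, nth 1 [n.e1, n.e2, n.e3, n.e4] i * (nth 1 [n.e1, n.e2, n.e3, n.e4] j *
      ((nth 1 [n.e1, n.e2, n.e3, n.e4] i)⁻¹ * (nth 1 [n.e1, n.e2, n.e3, n.e4] j)⁻¹)) = 1 := fun i j => by
    rw [← mul_assoc, p.comm _ (m i) _ (m j)]; group
  have t : ∀ i, nth 1 [n.e1, n.e2, n.e3, n.e4] i * (nth 1 [n.e1, n.e2, n.e3, n.e4] i * nth 1 [n.e1, n.e2, n.e3, n.e4] i) = 1 :=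
    fun i => by rw [← pow_two, ← pow_succ']; exact p.exp _ (m i)
  have k : ∀ {g x y : G}, g * g = 1 → g * x * g⁻¹ = y → (∀ r, g * (x * (g * r)) = y * r) ∧ ∀ r, g * (x⁻¹ * (g * r)) = y⁻¹ * r :=
    fun {g x y} h e => by
      have i := inv_eq_of_mul_eq_one_right h
      refine ⟨fun r => ?_, fun r => ?_⟩ <;> rw [← e] <;> nth_rw 2 [← i] <;> group
  have k' : ∀ {g x y : G}, g * x * g⁻¹ = y → (∀ r, g * (x * (g⁻¹ * r)) = y * r) ∧ ∀ r, g * (x⁻¹ * (g⁻¹ * r)) = y⁻¹ * r :=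
    fun {g x y} e => by
      refine ⟨fun r => ?_, fun r => ?_⟩ <;> rw [← e] <;> group
  obtain ⟨s1, s2, s3, -, s6⟩ := n.sqs
  refine sat_append.2 ⟨?_, ?_⟩
  · simp only [F4L.relJ4, sat_cons, sat_nil, evalW_cons, evalW_nil, nth_zero, nth_succ, mul_one, and_true, mul_inv_cancel,
      inv_mul_cancel, true_and]
    exact ⟨t 0, t 1, t 2, t 3, c 0 1, c 0 2, c 0 3, c 1 2, c 1 3, c 2 3⟩
  · simp only [actZ, sat_cons, sat_nil, evalW_cons, evalW_nil, nth_zero, nth_succ, mul_one, and_true,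
      k s1 p.ha1.1, k s1 p.ha1.2.1, k s1 p.ha1.2.2.1, k s1 p.ha1.2.2.2, k s2 p.ha2.1, k s2 p.ha2.2.1, k s2 p.ha2.2.2.1,
      k s2 p.ha2.2.2.2, k s3 p.hm.1, k s3 p.hm.2.1, k s3 p.hm.2.2.1, k s3 p.hm.2.2.2, k' p.hy.1, k' p.hy.2.1,
      k' p.hy.2.2.1, k' p.hy.2.2.2,
      k s6 p.hw.1, k s6 p.hw.2.1, k s6 p.hw.2.2.1, k s6 p.hw.2.2.2, s1, s2, s3, s6, inv_inv, mul_inv_cancel,
      inv_mul_cancel, true_and]
    refine ⟨?_, ?_, ?_, ?_, ?_, ?_, ?_, ?_⟩ <;> group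

theorem model {G₀ : Type} [Group G₀] {C : Cod B24.A G₀} {e₀ : List G₀} (h₀ : C.RepL lZ e₀) :
    e₀.length = 14 ∧ 81 ≤ Nat.card (clos (e₀.take 8)) ∧ (∀ a ∈ e₀.take 8, ∀ b ∈ e₀.take 8, a * b = b * a) ∧
    ∀ k ∈ clos (e₀.drop 8), (∀ x ∈ e₀.take 8, k * x = x * k) → k = 1 := by
  have hl₀ : e₀.length = 14 := h₀.length_eq.symm
  match e₀, hl₀, h₀ with
  | [x1, y1, x2, y2, x3, y3, x4, y4, a1, a2, m, b1, b2, w], hl₀, h₀ =>
  have g8 : C.Lists F4L.J8_t.dom (clos [x1, y1, x2, y2, x3, y3, x4, y4]) ∧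
      Nat.card (clos [x1, y1, x2, y2, x3, y3, x4, y4]) = 81 := (h₀.pick [0, 1, 2, 3, 4, 5, 6, 7]).gen F4L.J8_ok
  have g6 : C.Lists W0_t.dom (clos [a1, a2, m, b1, b2, w]) ∧ Nat.card (clos [a1, a2, m, b1, b2, w]) = 576 :=
    (h₀.pick [8, 9, 10, 11, 12, 13]).gen W0_ok
  have hL := g6.1.cons (g8.1.cons Cod.listsL_nil)
  have k1 : ∀ a ∈ clos [x1, y1, x2, y2, x3, y3, x4, y4], ∀ b ∈ clos [x1, y1, x2, y2, x3, y3, x4, y4],
      a * b = b * a := hL.decide h₀ (by decide +kernel)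
  have k2 : ∀ k ∈ clos [a1, a2, m, b1, b2, w], k * x1 = x1 * k → k * x2 = x2 * k → k * x3 = x3 * k → k * x4 = x4 * k →
      k = 1 := hL.decide h₀ (by decide +kernel)
  exact ⟨rfl, g8.2.ge, fun a ha b hb => k1 a (mem_clos ha) b (mem_clos hb),
    fun k hk h => k2 k hk (h _ (by simp)) (h _ (by simp)) (h _ (by simp)) (h _ (by simp))⟩

theorem exists_cod0 : ∃ C : Cod B24.A G,
    C.RepL lZ [n.e1, n.e1⁻¹, n.e2, n.e2⁻¹, n.e3, n.e3⁻¹, n.e4, n.e4⁻¹, n.a1, n.a2, n.m, n.y, n.y⁻¹, n.w] := by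
  obtain ⟨e₀, h₀⟩ : ∃ e₀, B24.C.RepL lZ e₀ := ⟨_, B24.repL lZ_ok⟩
  obtain ⟨hl₀, h1, h2, h3⟩ := model h₀
  have eJ : clos ([n.e1, n.e1⁻¹, n.e2, n.e2⁻¹, n.e3, n.e3⁻¹, n.e4, n.e4⁻¹, n.a1, n.a2, n.m, n.y, n.y⁻¹, n.w].take 8) =
      clos [n.e1, n.e2, n.e3, n.e4] := by
    refine le_antisymm (clos_le.2 ?_) (clos_le.2 fun x hx => mem_clos (by simp at hx ⊢; tauto))
    have m : ∀ i, nth 1 [n.e1, n.e2, n.e3, n.e4] i ∈ clos [n.e1, n.e2, n.e3, n.e4] := nth_mem_clos _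
    simp only [List.take_succ_cons, List.take_zero, List.forall_mem_cons, List.not_mem_nil, false_imp_iff, implies_true,
      and_true]
    exact ⟨m 0, inv_mem (m 0), m 1, inv_mem (m 1), m 2, inv_mem (m 2), m 3, inv_mem (m 3)⟩
  refine F4L.presJ4.cod_of_sim (n := 14) (iv := fun i => if i = 12 then 11 else i) (as := F4L.relJ4 ++ actZ)
    (by decide +kernel) h₀ (h₀.sat relZ_ok) n.satZ hl₀ rfl (by norm_num) h1 ?_ h2 h3 (y := n.w) ?_ ?_ ?_ fun x hx => ?_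
  · rw [eJ, n.pre.card]
  · rw [eJ]; exact fun r hr => mem_eq (n.pre.inv hr) (inv_mem hr)
  · rw [eJ]; exact fun r hr => n.pre.fpf hr
  · rw [eJ]; exact fun g hg => n.pre.cent fun x hx => (hg x hx).symm
  · obtain ⟨c1, c2, c3, c4, -⟩ := n.cw
    simp only [List.drop_succ_cons, List.drop_zero, List.mem_cons, List.not_mem_nil, or_false] at hx
    rcases hx with rfl | rfl | rfl | rfl | rfl | rfl
    exacts [mem_pm_of_comm c1, mem_pm_of_comm c2, mem_pm_of_comm c3, mem_pm_of_comm c4,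
      inv_mem (mem_pm_of_comm c4), mem_pm_of_comm rfl]

/-- The letters of `3⁴ : W(F₄)` when `t ≠ 1`. -/
def nw (h : Ac n.t n.e1 n.e2 n.e3 n.e4 n.e1 n.e2 n.e3 n.e4⁻¹) : Nw G where
  e1 := n.e1
  e2 := n.e2
  e3 := n.e3
  e4 := n.e4
  a1 := n.a1
  a2 := n.a2
  m := n.m
  b1 := n.t
  b2 := n.y * n.t
  w := n.w
  pre := ⟨n.pre.comm, n.pre.exp, n.pre.card, n.pre.cent, n.pre.ha1, n.pre.ha2, n.pre.hm, h,
    (show Ac n.y n.e1 n.e2 n.e3 n.e4⁻¹ _ _ _ _ from ⟨n.pre.hy.1, n.pre.hy.2.1, n.pre.hy.2.2.1,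
      by rw [← conj_inv, n.pre.hy.2.2.2, inv_inv]⟩).mul h, n.pre.hw⟩
  cw := ⟨n.cw.1, n.cw.2.1, n.cw.2.2.1, n.cw.2.2.2.2,
    (show Commute n.y n.w from n.cw.2.2.2.1).mul_left n.cw.2.2.2.2⟩

theorem repL_of {C : Cod B24.A G} {τ : ℕ}
    (hC : C.RepL lZ [n.e1, n.e1⁻¹, n.e2, n.e2⁻¹, n.e3, n.e3⁻¹, n.e4, n.e4⁻¹, n.a1, n.a2, n.m, n.y, n.y⁻¹, n.w])
    (ht : C.Rep τ n.t) : C.RepL (c0 ++ [τ]) n.e := by
  unfold c0
  exact (hC.term n.e1 (by decide +kernel)).cons <|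
    (hC.term n.e2 (by decide +kernel)).cons <|
    (hC.term n.e3 (by decide +kernel)).cons <|
    (hC.term n.e4 (by decide +kernel)).cons <|
    (hC.term n.a1 (by decide +kernel)).cons <|
    (hC.term n.a2 (by decide +kernel)).cons <|
    (hC.term n.m (by decide +kernel)).cons <|
    (hC.term n.y (by decide +kernel)).cons <|
    (hC.term n.w (by decide +kernel)).cons <|
    (hC.term (n.e1 * n.e2 * n.e3) (by decide +kernel)).cons <|
    (hC.term (n.e1 * n.e2⁻¹) (by decide +kernel)).cons <|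
    (hC.term (n.a1 * n.a2) (by decide +kernel)).cons <|
    (hC.term (n.e3 * n.e4) (by decide +kernel)).cons <|
    (hC.term (n.e3 * n.e4⁻¹) (by decide +kernel)).cons <|
    (hC.term (n.e1 * n.e2)⁻¹ (by decide +kernel)).cons <|
    (hC.term (n.y * (n.y * n.m * n.y⁻¹) * n.y⁻¹) (by decide +kernel)).cons <|
    (hC.term (n.y * n.m * n.y⁻¹) (by decide +kernel)).cons <|
    (hC.term n.y⁻¹ (by decide +kernel)).cons <| ht.cons Cod.repL_nil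

theorem exists_cod : ∃ C : Cod B24.A G, (n.t = 1 ∧ C.RepL cA n.e) ∨ C.RepL cB n.e := by
  rcases n.pre.ht with h | h
  · obtain ⟨C, hC⟩ := n.exists_cod0
    exact ⟨C, Or.inl ⟨h, n.repL_of hC (h ▸ C.rep_one)⟩⟩
  · have hC : (n.nw h).C.RepL F4L.cN [n.e1, n.e2, n.e3, n.e4, n.a1, n.a2, n.m, n.t, n.y * n.t, n.w, (n.nw h).z, (n.nw h).u,
        (n.nw h).v, (n.nw h).v2, (n.nw h).d1, (n.nw h).d2, (n.nw h).d3] := (n.nw h).rep
    have e : n.y * n.t * n.t = n.y := by rw [mul_assoc, n.sqs.2.2.2.1, mul_one]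
    have hy : (n.nw h).C.Rep (nth 0 lZ 11) n.y := e ▸ hC.term (n.y * n.t * n.t) (by decide +kernel)
    have h2 := hy.cons hC
    refine ⟨(n.nw h).C, Or.inr (n.repL_of ?_ (h2.term n.t (by decide +kernel)))⟩
    unfold lZ
    exact (h2.term n.e1 (by decide +kernel)).cons <|
      (h2.term n.e1⁻¹ (by decide +kernel)).cons <|
      (h2.term n.e2 (by decide +kernel)).cons <|
      (h2.term n.e2⁻¹ (by decide +kernel)).cons <|
      (h2.term n.e3 (by decide +kernel)).cons <|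
      (h2.term n.e3⁻¹ (by decide +kernel)).cons <|
      (h2.term n.e4 (by decide +kernel)).cons <|
      (h2.term n.e4⁻¹ (by decide +kernel)).cons <|
      (h2.term n.a1 (by decide +kernel)).cons <|
      (h2.term n.a2 (by decide +kernel)).cons <|
      (h2.term n.m (by decide +kernel)).cons <|
      (h2.term n.y (by decide +kernel)).cons <|
      (h2.term n.y⁻¹ (by decide +kernel)).cons <|
      (h2.term n.w (by decide +kernel)).cons Cod.repL_nil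

/-- The codes. -/
noncomputable def C : Cod B24.A G := n.exists_cod.choose

theorem rep' : (n.t = 1 ∧ n.C.RepL cA n.e) ∨ n.C.RepL cB n.e := n.exists_cod.choose_spec

/-- Facts involving `t`: `rcases n.rep with h | h <;> exact n.hL.decide h (by decide +kernel)`. -/
theorem rep : n.C.RepL cA n.e ∨ n.C.RepL cB n.e := n.rep'.imp_left And.right

/-- Facts not involving `t`: `n.hL.decide n.rep0 (by decide +kernel)`. -/
theorem rep0 : n.C.RepL c0 n.e0 := by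
  rcases n.rep with h | h <;> exact h.pick [0, 1, 2, 3, 4, 5, 6, 7, 8, 9, 10, 11, 12, 13, 14, 15, 16, 17]

/-- Facts in the case `t ≠ 1`: `n.hL.decide (n.repB h) (by decide +kernel)`. -/
theorem repB (h : n.t ≠ 1) : n.C.RepL cB n.e := n.rep'.resolve_left fun k => h k.1

theorem gJ : n.C.Lists F4L.J_t.dom n.J ∧ Nat.card n.J = 81 := (n.rep0.pick [0, 1, 2, 3]).gen F4L.J_ok
theorem gW0 : n.C.Lists W0_t.dom n.W0 ∧ Nat.card n.W0 = 576 := (n.rep0.pick [4, 5, 6, 7, 17, 8]).gen W0_ok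
theorem gJ0 : n.C.Lists F4L.J0_t.dom n.J0 ∧ Nat.card n.J0 = 27 := (n.rep0.pick [0, 1, 2]).gen F4L.J0_ok
theorem gJ1 : n.C.Lists J1_t.dom n.J1 ∧ Nat.card n.J1 = 27 := (n.rep0.pick [12, 13, 14]).gen J1_ok
theorem gS : n.C.Lists F4L.S_t.dom n.S ∧ Nat.card n.S = 729 := (n.rep0.pick [0, 1, 2, 3, 11, 7]).gen F4L.S_ok
theorem gQ : n.C.Lists F4L.Q_t.dom n.Q ∧ Nat.card n.Q = 243 := (n.rep0.pick [9, 10, 11, 3, 7]).gen F4L.Q_ok
theorem gR1 : n.C.Lists F4L.R1_t.dom n.R1 ∧ Nat.card n.R1 = 27 := (n.rep0.pick [9, 10, 11]).gen F4L.R1_ok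
theorem gR2 : n.C.Lists F4L.R2_t.dom n.R2 ∧ Nat.card n.R2 = 27 := (n.rep0.pick [9, 3, 7]).gen F4L.R2_ok
theorem gT : n.C.Lists T_t.dom n.T ∧ Nat.card n.T = 81 := (n.rep0.pick [12, 13, 14, 7]).gen T_ok
theorem gWK : n.C.Lists WK_t.dom n.WK ∧ Nat.card n.WK = 48 := (n.rep0.pick [4, 7, 6]).gen WK_ok
theorem gU0 : n.C.Lists U0_t.dom n.U0 ∧ Nat.card n.U0 = 16 := (n.rep0.pick [4, 15, 6, 16]).gen U0_ok
theorem gS0 : n.C.Lists S0_t.dom n.S0 ∧ Nat.card n.S0 = 81 := (n.rep0.pick [0, 1, 2, 11]).gen S0_ok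
theorem gA9 : n.C.Lists A9_t.dom n.A9 ∧ Nat.card n.A9 = 9 :=
  ((n.rep0.term (n.e1 * n.e2) (by decide +kernel)).cons ((n.rep0.term n.e3 (by decide +kernel)).cons Cod.repL_nil)).gen A9_ok
theorem gS1 : n.C.Lists S1_t.dom n.S1 ∧ Nat.card n.S1 = 9 := (n.rep0.pick [9, 10]).gen S1_ok
theorem gV9 : n.C.Lists V9_t.dom n.V9 ∧ Nat.card n.V9 = 9 := (n.rep0.pick [9, 3]).gen V9_ok
theorem gB9 : n.C.Lists B9_t.dom n.B9 ∧ Nat.card n.B9 = 9 := (n.rep0.pick [12, 13]).gen B9_ok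
theorem gOm : n.C.Lists Om_t.dom n.Om ∧ n.Om.ncard = 32 := (n.rep0.pick [4, 5, 6, 7]).orb (n.rep0.nth 9) Om_ok
theorem gSh : n.C.Lists Sh_t.dom n.Sh ∧ n.Sh.ncard = 24 := (n.rep0.pick [4, 5, 6, 7]).orb (n.rep0.nth 3) Sh_ok
theorem gLg : n.C.Lists Lg_t.dom n.Lg ∧ n.Lg.ncard = 24 := (n.rep0.pick [4, 5, 6, 7]).orb (n.rep0.nth 10) Lg_ok

/-- The listed sets. -/
theorem hL : n.C.ListsL [F4L.J_t.dom, W0_t.dom, F4L.J0_t.dom, J1_t.dom, F4L.S_t.dom, F4L.Q_t.dom, F4L.R1_t.dom, F4L.R2_t.dom,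
    T_t.dom, WK_t.dom, U0_t.dom, S0_t.dom, A9_t.dom, S1_t.dom, V9_t.dom, B9_t.dom, Om_t.dom, Sh_t.dom, Lg_t.dom]
    [n.J, n.W0, n.J0, n.J1, n.S, n.Q, n.R1, n.R2, n.T, n.WK, n.U0, n.S0, n.A9, n.S1, n.V9, n.B9, n.Om, n.Sh, n.Lg] :=
  n.gJ.1.cons <| n.gW0.1.cons <| n.gJ0.1.cons <| n.gJ1.1.cons <| n.gS.1.cons <| n.gQ.1.cons <| n.gR1.1.cons <|
    n.gR2.1.cons <| n.gT.1.cons <| n.gWK.1.cons <| n.gU0.1.cons <| n.gS0.1.cons <| n.gA9.1.cons <| n.gS1.1.cons <|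
    n.gV9.1.cons <| n.gB9.1.cons <| n.gOm.1.cons <| n.gSh.1.cons <| n.gLg.1.cons Cod.listsL_nil

/-- The frame in the centraliser of `e₄`. -/
@[reducible] def f : Fr G where
  c1 := n.e1
  c2 := n.e2
  c3 := n.e3
  v := n.v
  t := n.a1
  c1_3 := n.hL.decide n.rep0 (by decide +kernel)
  c12 := n.hL.decide n.rep0 (by decide +kernel)
  v3 := n.hL.decide n.rep0 (by decide +kernel)
  t2 := n.hL.decide n.rep0 (by decide +kernel)
  tv := n.hL.decide n.rep0 (by decide +kernel)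
  vc1 := n.hL.decide n.rep0 (by decide +kernel)
  vc2 := n.hL.decide n.rep0 (by decide +kernel)
  tc1 := n.hL.decide n.rep0 (by decide +kernel)
  tc3 := n.hL.decide n.rep0 (by decide +kernel)
  card := n.gJ0.2

theorem f_a : n.f.a = n.z := rfl
theorem f_J : n.f.J = n.J0 := rfl
theorem f_S : n.f.S = n.S0 := rfl
theorem f_R : n.f.R = n.R1 := rfl
theorem f_A : n.f.A = n.A9 := rfl
theorem f_S1 : n.f.S1 = n.S1 := rfl

/-- The frame in the centraliser of `a₁` when `t ≠ 1`. -/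
@[reducible] def fK (h : n.t ≠ 1) : Fr G where
  c1 := n.k1
  c2 := n.k2
  c3 := n.k3
  v := n.y
  t := n.t
  c1_3 := n.hL.decide n.rep0 (by decide +kernel)
  c12 := n.hL.decide n.rep0 (by decide +kernel)
  v3 := n.hL.decide n.rep0 (by decide +kernel)
  t2 := n.sqs.2.2.2.1
  tv := n.hL.decide (n.repB h) (by decide +kernel)
  vc1 := n.hL.decide n.rep0 (by decide +kernel)
  vc2 := n.hL.decide n.rep0 (by decide +kernel)
  tc1 := n.hL.decide (n.repB h) (by decide +kernel)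
  tc3 := n.hL.decide (n.repB h) (by decide +kernel)
  card := n.gJ1.2

theorem J_cases : ∀ x ∈ n.J, x = 1 ∨ x ∈ n.Om ∨ x ∈ n.Sh ∨ x ∈ n.Lg := n.hL.decide n.rep0 (by decide +kernel)

theorem eW_le : clos n.eW ≤ n.W0 := clos_le.2 fun x hx => mem_clos (by simp at hx ⊢; tauto)

variable [Finite G]

theorem W0_le : n.W0 ≤ normalizer (n.J : Set G) := fun g hg =>
  mem_normalizer_of_conj_mem (by
    have h : ∀ x ∈ n.J, n.a1 * x * n.a1⁻¹ ∈ n.J ∧ n.a2 * x * n.a2⁻¹ ∈ n.J ∧ n.m * x * n.m⁻¹ ∈ n.J ∧ n.y * x * n.y⁻¹ ∈ n.J ∧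
        n.w * x * n.w⁻¹ ∈ n.J := n.hL.decide n.rep0 (by decide +kernel)
    have : n.W0 ≤ normalizer (n.J : Set G) := clos_le.2 (by
      have hy := mem_normalizer_of_conj_mem fun x hx => (h x hx).2.2.2.1
      simp only [List.forall_mem_cons, List.not_mem_nil, false_imp_iff, implies_true, and_true]
      exact ⟨mem_normalizer_of_conj_mem fun x hx => (h x hx).1, mem_normalizer_of_conj_mem fun x hx => (h x hx).2.1,
        mem_normalizer_of_conj_mem fun x hx => (h x hx).2.2.1, hy, inv_mem hy,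
        mem_normalizer_of_conj_mem fun x hx => (h x hx).2.2.2.2⟩)
    exact fun x hx => conj_mem_of_mem_norm (this hg) hx)

theorem t_norm : n.t ∈ normalizer (n.J : Set G) := mem_normalizer_of_conj_mem (by
  rcases n.rep with h | h <;> exact n.hL.decide h (by decide +kernel))

end Nz

end Cfsg.Agent.Tr8
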