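import Mathlib
import Cfsg.Agent.Tr8.Nz
import Cfsg.Agent.T3.LocB4
import Cfsg.Agent.F4T.LocC1

/-!
Recognition of `Ω₈⁺(2).3` and `Ω₈⁺(2).Sym(3)` from the centraliser of a 3-central element: the stages of the proof
(see `stubs/Cfsg/Agent/Tr8/PLAN.md`).
-/

set_option autoImplicit false
set_option linter.unusedSectionVars false

namespace Cfsg.Agent.Tr8

open Cfsg.Agent.Spor Cfsg.Agent.Rec Cfsg.Agent.Inv.Fz Cfsg.Agent.T16 Cfsg.Agent.T3 Cfsg.Agent.T3.LB Subgroup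

universe u

variable {G : Type u} [Group G]

/-- `Q3 a = P₁ P₂`; `C(a)` acts on `P₁ / ⟨a⟩` through `ψ`, the quaternion group `R` centralises `P₂`, and the kernel of `ψ`
acts on `P₂ / ⟨a⟩` as `±1`. -/
structure Hx (a : G) where
  P1 : Subgroup G
  P2 : Subgroup G
  R : Subgroup G
  r : G
  x1 : G
  y1 : G
  ψ : centralizer ({a} : Set G) →* S3
  ex : Ex a
  exp : ∀ q ∈ Q3 a, q ^ 3 = 1
  idx : ¬ 3 ∣ (centralizer ({a} : Set G)).index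
  sp : Sp2 (Q3 a) P1 P2 a
  fac : Fac a (centralizer {a}) P1 R r x1 y1 ψ
  comm : ∀ g ∈ R, ∀ p ∈ P2, g * p = p * g
  ker : ∀ g, ψ g = 1 → (g : G) ∈ Q3 a ∨ ∀ p ∈ P2, Iz a g p

/-- First stage: `x₁ x₂` generates a conjugate of `⟨a⟩`, and `d` has type `(1, -1)`. -/
structure Lb (a : G) extends Hx a where
  x2 : G
  y2 : G
  d : centralizer ({a} : Set G)
  p2 : P27 P2 a x2 y2
  pd : ψ d = tv 1
  dy : d * (x1 * x2) = x1 * x2 * d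
  d2 : d * y2 * (d : G)⁻¹ * y2⁻¹ * x2 ∈ zpowers a
  cy : ZE a (x1 * x2)
  nP : ∀ u, u ∈ P1 ∨ u ∈ P2 → ZE a u → u ∈ zpowers a
  ab : ∀ s ∈ Q3 (x1 * x2), s ∈ clos [a, x1, x2] → s ∈ zpowers a ⊔ zpowers (x1 * x2)

/-- Second stage: the Thompson subgroup is `⟨c, x₁, x₂, a⟩`, and `C(a) = Q R ⟨c⟩ ⟨t⟩`. -/
structure Lc (a : G) extends Hx a where
  x2 : G
  y2 : G
  c : centralizer ({a} : Set G)
  t : G
  p2 : P27 P2 a x2 y2
  pc : ψ c = tv 1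
  c3 : (c : G) ^ 3 = 1
  cr : c * r = r * c
  cx1 : c * x1 = x1 * c
  cx2 : c * x2 = x2 * c
  yc : y2 * c * y2⁻¹ = c * x2 * a
  ta : t * a = a * t
  tc : t * c = c * t
  tP : ∀ g ∈ P1 ⊔ R, t * g = g * t
  ht : t = 1 ∨ (t * t = 1 ∧ t * x2 * t⁻¹ = x2⁻¹ ∧ t * y2 * t⁻¹ = y2⁻¹)
  dec : ∀ g, g * a = a * g → ∃ k ∈ R, ∃ i : ZMod 3, ∃ p ∈ Q3 a, g = k * (c : G) ^ i.val * p ∨ g = k * (c : G) ^ i.val * p * t
  cy : ZE a (x1 * x2)
  nP : ∀ u, u ∈ P1 ∨ u ∈ P2 → ZE a u → u ∈ zpowers a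
  J_eq : centralizer (clos [a, x1, x2] : Set G) = clos [(c : G), x1, x2, a]
  card : Nat.card (clos [(c : G), x1, x2, a]) = 81
  syl : IsSylIn 3 (Q3 a ⊔ clos [(c : G), x1, x2, a]) ⊤
  wc : ∀ g, cj g (clos [(c : G), x1, x2, a]) ≤ Q3 a ⊔ clos [(c : G), x1, x2, a] →
    cj g (clos [(c : G), x1, x2, a]) = clos [(c : G), x1, x2, a]
  hh : ∃ h ∈ normalizer (clos [(c : G), x1, x2, a] : Set G), h * x1 * h⁻¹ ∉ Q3 a

/-- `ρ` acts on the Thompson subgroup as the reflection in `c a⁻¹`. -/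
def Lc.Rho {a : G} (D : Lc a) (ρ : G) : Prop :=
  ρ * D.c * ρ⁻¹ = D.c ∧ ρ * D.x1 * ρ⁻¹ = D.x1 ∧ ρ * D.x2 * ρ⁻¹ = D.x2 ∧ ρ * a * ρ⁻¹ = a⁻¹ * (D.c : G)⁻¹

/-- The result of the local analysis. -/
structure Lo (G : Type u) [Group G] extends Nz G where
  q : G
  car : toNz.f.CaR q
  ex : Ex toNz.z
  Q_eq : Q3 toNz.z = toNz.Q
  qe : q * e4 = e4 * q
  qy : q * y = y * q
  qt : q * t = t * q
  cz : ∀ g, g * toNz.z = toNz.z * g → ∃ k ∈ toNz.f.Q1 q, ∃ s ∈ toNz.S, g = k * s ∨ g = k * s * t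
  nzu : ¬ ZE toNz.z toNz.u
  nze : ¬ ZE toNz.z e4
  syl : IsSylIn 3 toNz.S ⊤
  wc : ∀ g, cj g toNz.J ≤ toNz.S → cj g toNz.J = toNz.J

namespace Lo

variable (s : Lo G)

/-- The involution whose centraliser is determined. -/
abbrev r : G := s.a1
abbrev K : Subgroup G := centralizer {s.a1}
/-- The quaternion group centralised by `z`. -/
abbrev R : Subgroup G := s.f.Q1 s.q
/-- Elements permuting the four quaternion groups regularly. -/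
def sn : Fin 4 → G := ![1, s.s1, s.m, s.s3]
/-- The four quaternion groups. -/
def Rn (i : Fin 4) : Subgroup G := cj (s.sn i) s.R
/-- The four conjugates of `⟨z⟩` in `J₁`. -/
def zn (i : Fin 4) : G := s.sn i * s.z * (s.sn i)⁻¹
/-- The extraspecial group of order `2^9`. -/
def E : Subgroup G := s.Rn 0 ⊔ s.Rn 1 ⊔ s.Rn 2 ⊔ s.Rn 3
def NK : Subgroup G := s.K ⊓ normalizer (s.J1 : Set G)
def M : Subgroup G := s.E ⊔ s.NK
/-- `M` without `t`. -/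
def K0 : Subgroup G := s.E ⊔ (s.J1 ⊔ s.WK)

/-- The group `E`. -/
structure Ek : Prop where
  comm : ∀ i j, i ≠ j → ∀ x ∈ s.Rn i, ∀ y ∈ s.Rn j, x * y = y * x
  es : ES2 s.E s.r
  card : Nat.card s.E = 512
  nE : s.NK ≤ normalizer (s.E : Set G)
  fpf : Fpf s.E s.r s.k1 ∧ Fpf s.E s.r s.k2 ∧ Fpf s.E s.r s.k3
  cz : ∀ i, ∀ x ∈ s.E, x * s.zn i = s.zn i * x → x ∈ s.Rn i
  sig : ∀ X ≤ s.K, (Nat.card X).Coprime 3 → s.J1 ≤ normalizer (X : Set G) → X ≤ s.E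
  good : ∀ j ∈ s.J1, j ≠ 1 → GoodIn s.K s.M j
  cen : centralizer (s.E : Set G) ≤ s.E

/-- `i` inverts modulo `E` an element of order three without fixed points on `E / ⟨r⟩`. -/
def Fre (i : G) : Prop := ∃ k ∈ s.M, k ^ 3 = 1 ∧ Fpf s.E s.r k ∧ i * k * i⁻¹ * k ∈ s.E

/-- `t` is not conjugate into `E`. -/
def Te : Prop := s.t = 1 ∨ ∀ v ∈ s.E, ¬ IsConj s.t v

end Lo

end Cfsg.Agent.Tr8
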