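import Mathlib
import Cfsg.Agent.Tr8.Defs
import Cfsg.Agent.T3.Sec

/-! Basic consequences of the local analysis: the group `R`, the normaliser of `J`, fusion in `J`, the centraliser `K` of `r`. -/

set_option autoImplicit false
set_option linter.unusedSectionVars false
set_option synthInstance.maxSize 100000
set_option synthInstance.maxHeartbeats 1000000
set_option maxRecDepth 100000

namespace Cfsg.Agent.Tr8

open Cfsg.Agent.Spor Cfsg.Agent.Rec Cfsg.Agent.Inv.Fz Cfsg.Agent.T16 Cfsg.Agent.T3 Cfsg.Agent.T3.LB Subgroup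
open Cfsg.Agent.F4L (mem_eq)

universe u

variable {G : Type u} [Group G] [Finite G]

theorem ba_one {x : G} {n : ℕ} (h3 : x ^ 3 ^ n = 1) (h4 : x ^ 4 = 1) : x = 1 :=
  orderOf_eq_one_iff.1 (Nat.eq_one_of_dvd_coprimes (Nat.Coprime.pow_left n (by norm_num : Nat.Coprime 3 4))
    (orderOf_dvd_of_pow_eq_one h3) (orderOf_dvd_of_pow_eq_one h4))

theorem ba_cen {x z : G} {n : ℕ} (h3 : x ^ 3 ^ n = 1) (hz : z ^ 3 = 1) (h : x * z * x⁻¹ ∈ zpowers z) : x * z = z * x := by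
  rcases mem_zpowers_three hz h with e | e | e
  · rw [conj_eq_one.1 e]; simp
  · exact mul_inv_eq_iff_eq_mul.1 e
  · have h2 : Commute (x * x) z := mul_inv_eq_iff_eq_mul.1 (by
      calc _ = x * (x * z * x⁻¹) * x⁻¹ := by group
        _ = x * z⁻¹ * x⁻¹ := by rw [e]
        _ = (x * z * x⁻¹)⁻¹ := by group
        _ = z := by rw [e, inv_inv])
    obtain ⟨m, hm⟩ : Odd (3 ^ n) := Odd.pow (by decide)
    have h4 : (x * x) ^ (m + 1) = x := by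
      rw [← pow_two, ← pow_mul, show 2 * (m + 1) = 3 ^ n + 1 by omega, pow_succ, h3, one_mul]
    exact h4 ▸ (h2.pow_left (m + 1)).eq

theorem ba_pow {N : Subgroup G} {e x : G} (he : e ∈ N) (hx : x ∈ normalizer (N : Set G)) (k : ℕ) :
    (x ^ k)⁻¹ * (x * e) ^ k ∈ N := by
  induction k with
  | zero => simp
  | succ k ih =>
    exact mem_eq (by rw [pow_succ, pow_succ]; group) (mul_mem (conj_mem_of_mem_norm (inv_mem hx) ih) he)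

theorem ba_pg {X : Subgroup G} (h : IsPGroup 3 X) {x : G} (hx : x ∈ X) : ∃ n, x ^ 3 ^ n = 1 :=
  let ⟨n, e⟩ := h ⟨x, hx⟩; ⟨n, congrArg Subtype.val e⟩

namespace Lo

variable (s : Lo G)

theorem ba_cod : (∀ k ∈ s.R, k ^ 4 = 1) ∧ (∀ k ∈ s.R, s.e3 * k * s.e3⁻¹ ∈ s.R) ∧
    (∀ k ∈ s.R, s.e3 * k = k * s.e3 → k = 1 ∨ k = s.a1) ∧
    (∀ k ∈ s.R, k * (s.e1 * s.e2⁻¹) * k⁻¹ ∈ s.f.S1 → k = 1 ∨ k = s.a1) ∧ s.R ≤ s.f.CC s.q ∧ s.f.S ≤ s.f.CC s.q := by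
  obtain ⟨C, hC⟩ := s.car.cod
  exact (Fr.hL6 hC).decide hC (by decide +kernel)

theorem q_mem : s.q ∈ s.R := mem_clos (by simp)

theorem cR2 : ∀ k ∈ s.R, ∀ p ∈ s.R2, k * p = p * k := by
  have h1 : ∀ p ∈ s.R2, s.q * p = p * s.q := commute_clos (by
    simp only [List.forall_mem_cons, List.not_mem_nil, false_imp_iff, implies_true, and_true]
    exact ⟨s.car.qa, s.qe, s.qy⟩)
  have h2 : ∀ p ∈ s.R2, s.e3⁻¹ * p * s.e3 ∈ s.R2 := s.hL.decide s.rep0 (by decide +kernel)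
  refine fun k hk p hp => (commute_clos ?_ k hk).symm
  simp only [List.forall_mem_cons, List.not_mem_nil, false_imp_iff, implies_true, and_true]
  refine ⟨(h1 p hp).symm, ?_⟩
  calc _ = s.e3 * (s.e3⁻¹ * p * s.e3 * s.q) * s.e3⁻¹ := by group
    _ = _ := by rw [← h1 _ (h2 p hp)]; group

theorem cRt : ∀ k ∈ s.R, k * s.t = s.t * k := by
  have h : Commute s.t s.e3 := by rcases s.rep with h | h <;> exact s.hL.decide h (by decide +kernel)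
  refine fun k hk => (commute_clos ?_ k hk).symm
  simp only [List.forall_mem_cons, List.not_mem_nil, false_imp_iff, implies_true, and_true]
  exact ⟨s.qt.symm, (h.mul_right s.qt.symm).mul_right h.inv_right⟩

theorem cRz : ∀ k ∈ s.R, k * s.z = s.z * k := fun k hk => s.cR2 k hk _ (mem_clos (by simp))

theorem cRe : ∀ k ∈ s.R, k * s.e4 = s.e4 * k := fun k hk => s.cR2 k hk _ (mem_clos (by simp))

theorem esR : ES2 s.R s.r := by
  obtain ⟨C, hC⟩ := s.car.cod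
  have hL := Fr.hL6 hC
  exact ⟨hL.decide hC (by decide +kernel), hL.decide hC (by decide +kernel), s.f.t2, hL.decide hC (by decide +kernel),
    hL.decide hC (by decide +kernel), hL.decide hC (by decide +kernel), hL.decide hC (by decide +kernel)⟩

theorem R_le : s.R ≤ s.K := fun k hk => mem_cen.2 (s.esR.z_comm k hk).symm

theorem cardR : Nat.card s.R = 8 := let ⟨_, hC⟩ := s.car.cod; (Fr.gQ6 hC).2

theorem invR : ∀ k ∈ s.R, k * k = 1 → k = 1 ∨ k = s.r := by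
  obtain ⟨C, hC⟩ := s.car.cod
  exact (Fr.hL6 hC).decide hC (by decide +kernel)

theorem sn_mem (i : Fin 4) : s.sn i ∈ s.WK := by
  have h : s.s1 ∈ s.WK ∧ s.m ∈ s.WK ∧ s.s3 ∈ s.WK := s.hL.decide s.rep0 (by decide +kernel)
  fin_cases i
  exacts [one_mem _, h.1, h.2.1, h.2.2]

theorem ba_WK : ∀ k ∈ s.WK, k * s.a1 = s.a1 * k ∧ ∀ j ∈ s.J1, k * j * k⁻¹ ∈ s.J1 :=
  s.hL.decide s.rep0 (by decide +kernel)

theorem ba_T : ∀ k ∈ s.T, k * s.a1 = s.a1 * k ∧ ∀ j ∈ s.J1, k * j * k⁻¹ ∈ s.J1 :=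
  s.hL.decide s.rep0 (by decide +kernel)

theorem ba_le : s.J1 ≤ s.T ∧ s.J1 ≤ s.J ∧ s.T ≤ s.S ∧ s.J ≤ s.S ∧ s.Q ≤ s.S ∧ s.R2 ≤ s.Q ∧ s.V9 ≤ s.R2 ∧ s.J0 ≤ s.J ∧
    s.WK ≤ s.W0 ∧ s.z ∈ s.J1 ∧ s.z ∈ s.Om ∧ s.u ∈ s.J ∧ s.e4 ∈ s.J ∧ orderOf s.z = 3 ∧ s.e3 ∉ s.Q :=
  s.hL.decide s.rep0 (by decide +kernel)

theorem z3 : s.z ^ 3 = 1 := s.ex.ord ▸ pow_orderOf_eq_one _

theorem z_mem_J : s.z ∈ s.J := s.ba_le.2.1 s.ba_le.2.2.2.2.2.2.2.2.2.1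

theorem J1_le_J : s.J1 ≤ s.J := s.ba_le.2.1

theorem J_le_S : s.J ≤ s.S := s.ba_le.2.2.2.1

theorem zn_mem (i : Fin 4) : s.zn i ∈ s.J1 := (s.ba_WK _ (s.sn_mem i)).2 _ s.ba_le.2.2.2.2.2.2.2.2.2.1

theorem Rn_le (i : Fin 4) : s.Rn i ≤ s.E := by
  fin_cases i
  exacts [le_sup_of_le_left (le_sup_of_le_left le_sup_left), le_sup_of_le_left (le_sup_of_le_left le_sup_right),
    le_sup_of_le_left le_sup_right, le_sup_right]

theorem esRn (i : Fin 4) : ES2 (s.Rn i) s.r := by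
  have := s.esR.conj (s.sn i)
  rwa [(s.ba_WK _ (s.sn_mem i)).1, mul_inv_cancel_right] at this

theorem E_le : s.E ≤ s.K := by
  have h : ∀ i, s.Rn i ≤ s.K := fun i k hk => mem_cen.2 ((s.esRn i).z_comm k hk).symm
  exact sup_le (sup_le (sup_le (h 0) (h 1)) (h 2)) (h 3)

theorem cenJ {g : G} (h : ∀ x ∈ s.J, g * x = x * g) : g ∈ s.J := s.pre.cent fun x hx => (h x hx).symm

theorem ze {x : G} (hx : x ∈ s.J) (h : ZE s.z x) : x ∈ s.Om := by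
  have z1 := s.ex.ord
  rcases s.J_cases x hx with rfl | e | e | e
  · rcases h with h | h <;> rw [isConj_one_left] at h
    · simp [h] at z1
    · simp [inv_eq_one.1 h] at z1
  · exact e
  · exact (s.nze (ze_conj h (isConj_of_mem_cls e).symm)).elim
  · exact (s.nzu (ze_conj h (isConj_of_mem_cls e).symm)).elim

theorem S_le_JW : s.S ≤ s.J ⊔ s.W0 := clos_le.2 (by
  have m := nth_mem_clos [s.e1, s.e2, s.e3, s.e4]
  have k := nth_mem_clos [s.a1, s.a2, s.m, s.y, s.y⁻¹, s.w]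
  simp only [List.forall_mem_cons, List.not_mem_nil, false_imp_iff, implies_true, and_true]
  exact ⟨mem_sup_left (m 0), mem_sup_left (m 1), mem_sup_left (m 2), mem_sup_left (m 3),
    mem_sup_right (mul_mem (k 0) (k 1)), mem_sup_right (k 3)⟩)

theorem S_norm : s.S ≤ normalizer (s.J : Set G) := s.S_le_JW.trans (sup_le le_normalizer s.W0_le)

theorem a1_mem : s.a1 ∈ s.W0 := mem_clos (by simp)

/-- An element of `R` moving `u` inside `J` is `1` or `r`. -/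
theorem ba_Ru {k : G} (hk : k ∈ s.R) (h : k * s.u * k⁻¹ ∈ s.J) : k = 1 ∨ k = s.a1 := by
  obtain ⟨C, hC⟩ := s.car.cod
  have h1 : ∀ k ∈ s.R, k * (s.e1 * s.e2⁻¹) * k⁻¹ ∈ s.f.R := (Fr.hL6 hC).decide hC (by decide +kernel)
  have h2 : ∀ x ∈ s.R1, x ∈ s.J → x ∈ s.S1 := s.hL.decide s.rep0 (by decide +kernel)
  exact s.ba_cod.2.2.2.1 k hk (h2 _ (h1 k hk) h)

theorem nj {g : G} (hg : g ∈ normalizer (s.J : Set G)) : ∃ j ∈ s.J, ∃ k ∈ s.W0, g = j * k ∨ g = j * k * s.t := by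
  obtain ⟨w, hw, e⟩ := s.ze (conj_mem_of_mem_norm hg s.z_mem_J) (ze_cj (ze_refl _) g)
  replace hw := s.eW_le hw
  have hn := mul_mem (inv_mem (s.W0_le hw)) hg
  obtain ⟨k, hk, x, hx, e1⟩ := s.cz (w⁻¹ * g) (by
    calc _ = w⁻¹ * (g * s.z * g⁻¹) * g := by group
      _ = _ := by rw [← e]; group)
  have h1 : k ∈ normalizer (s.J : Set G) := by
    rcases e1 with e1 | e1 <;> rw [e1] at hn
    exacts [(mul_mem_cancel_right (s.S_norm hx)).1 hn,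
      (mul_mem_cancel_right (s.S_norm hx)).1 ((mul_mem_cancel_right s.t_norm).1 hn)]
  have h2 : k ∈ s.W0 := by
    rcases s.ba_Ru hk (conj_mem_of_mem_norm h1 s.ba_le.2.2.2.2.2.2.2.2.2.2.2.1) with rfl | rfl
    exacts [one_mem _, s.a1_mem]
  obtain ⟨j, hj, k', hk', e2⟩ := (GT.CopAct.mem_sup_iff_of_le_normalizer s.W0_le).1
    (mul_mem (mem_sup_right (mul_mem hw h2)) (s.S_le_JW hx))
  refine ⟨j, hj, k', hk', e1.imp (fun e1 => ?_) fun e1 => ?_⟩ <;> rw [e2, inv_mul_eq_iff_eq_mul.1 e1] <;> group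

theorem pJ : IsPGroup 3 s.J := IsPGroup.of_card (n := 4) s.gJ.2

theorem fuse2 {g x x' : G} (hx : x ∈ s.J) (hx' : x' ∈ s.J) (h : g * x * g⁻¹ ∈ s.J) (h' : g * x' * g⁻¹ ∈ s.J) :
    ∃ n ∈ normalizer (s.J : Set G), n * x * n⁻¹ = g * x * g⁻¹ ∧ n * x' * n⁻¹ = g * x' * g⁻¹ := by
  have c : ∀ {a}, a ∈ s.J → s.J ≤ centralizer {a} := fun ha j hj => mem_cen.2 (s.pre.comm j hj _ ha)
  obtain ⟨P, hP, h1⟩ := exists_isSylIn s.pJ (le_inf (c h) (c h'))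
  obtain ⟨k, hk, h2⟩ := hP.exists_cj_le (isPGroup_cj s.pJ g) (le_inf
    (cj_centralizer_singleton g x ▸ cj_mono (c hx)) (cj_centralizer_singleton g x' ▸ cj_mono (c hx')))
  obtain ⟨m, -, h3⟩ := s.syl.exists_cj_le hP.isPGroup le_top
  have h4 := cj_eq_iff.1 (s.wc m ((cj_mono h1).trans h3))
  have h5 := (cj_mono (g := m) h2).trans h3
  rw [cj_cj, cj_cj, mul_assoc] at h5
  refine ⟨k * g, (mul_mem_cancel_left h4).1 (cj_eq_iff.1 (s.wc _ h5)), ?_, ?_⟩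
  · rw [← mem_cen'.1 hk.1]; group
  · rw [← mem_cen'.1 hk.2]; group

theorem cls_Om {x y : G} (hx : x ∈ s.Om) (hy : y ∈ s.J) (h : IsConj x y) : y ∈ s.Om :=
  s.ze hy (.inl ((isConj_of_mem_cls hx).trans h))

theorem ba_cls {X : Set G} (h1 : ∀ x ∈ X, x ∈ s.J) (h2 : ∀ k ∈ s.W0, ∀ x ∈ X, k * x * k⁻¹ ∈ X)
    (h3 : ∀ x ∈ X, s.t * x * s.t⁻¹ ∈ X) {x y : G} (hx : x ∈ X) (hy : y ∈ s.J) (h : IsConj x y) : y ∈ X := by
  obtain ⟨g, rfl⟩ := isConj_iff.1 h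
  obtain ⟨n, hn, e, -⟩ := s.fuse2 (h1 x hx) (h1 x hx) hy hy
  have h4 : ∀ j ∈ s.J, ∀ k ∈ s.W0, ∀ x ∈ X, j * k * x * (j * k)⁻¹ ∈ X := fun j hj k hk x hx => by
    have := h2 k hk x hx
    rwa [show j * k * x * (j * k)⁻¹ = j * (k * x * k⁻¹) * j⁻¹ by group, s.pre.comm j hj _ (h1 _ this),
      mul_inv_cancel_right]
  obtain ⟨j, hj, k, hk, rfl | rfl⟩ := s.nj hn <;> rw [← e]
  · exact h4 j hj k hk x hx
  · convert h4 j hj k hk _ (h3 x hx) using 1; group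

theorem cls_Sh {x y : G} (hx : x ∈ s.Sh) (hy : y ∈ s.J) (h : IsConj x y) : y ∈ s.Sh :=
  s.ba_cls (s.hL.decide s.rep0 (by decide +kernel)) (s.hL.decide s.rep0 (by decide +kernel))
    (by rcases s.rep with h | h <;> exact s.hL.decide h (by decide +kernel)) hx hy h

theorem cls_Lg {x y : G} (hx : x ∈ s.Lg) (hy : y ∈ s.J) (h : IsConj x y) : y ∈ s.Lg :=
  s.ba_cls (s.hL.decide s.rep0 (by decide +kernel)) (s.hL.decide s.rep0 (by decide +kernel))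
    (by rcases s.rep with h | h <;> exact s.hL.decide h (by decide +kernel)) hx hy h

/-- The centraliser of `z` and of an element of `R₂` inverted by `t`. -/
theorem ba_dec {g p : G} (hp : p ∈ s.R2) (ht : ∀ x ∈ s.S, x * s.t * p = p * (x * s.t) → s.t = 1)
    (hz : g * s.z = s.z * g) (h : g * p = p * g) : ∃ k ∈ s.R, ∃ x ∈ s.S, x * p = p * x ∧ g = k * x := by
  obtain ⟨k, hk, x, hx, e⟩ := s.cz g hz
  have c : ∀ {x}, g = k * x → x * p = p * x := fun {x} e => mem_cen.1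
    ((mul_mem_cancel_left (mem_cen.2 (s.cR2 k hk p hp))).1 (e ▸ mem_cen.2 h))
  rcases e with e | e
  · exact ⟨k, hk, x, hx, c e, e⟩
  · rw [ht x hx (c (e.trans (mul_assoc _ _ _))), mul_one] at e
    exact ⟨k, hk, x, hx, c e, e⟩

theorem dec_e4 {g : G} (hz : g * s.z = s.z * g) (h : g * s.e4 = s.e4 * g) :
    ∃ k ∈ s.R, ∃ x ∈ s.S, x * s.e4 = s.e4 * x ∧ g = k * x :=
  s.ba_dec (mem_clos (by simp)) (by rcases s.rep with h | h <;> exact s.hL.decide h (by decide +kernel)) hz h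

theorem dec_y {g : G} (hz : g * s.z = s.z * g) (h : g * s.y = s.y * g) : ∃ k ∈ s.R, ∃ x ∈ s.Q, g = k * x := by
  obtain ⟨k, hk, x, hx, h1, e⟩ := s.ba_dec (mem_clos (by simp))
    (by rcases s.rep with h | h <;> exact s.hL.decide h (by decide +kernel)) hz h
  have h2 : ∀ x ∈ s.S, x * s.y = s.y * x → x ∈ s.Q := s.hL.decide s.rep0 (by decide +kernel)
  exact ⟨k, hk, x, h2 x hx h1, e⟩

/-- `C(z, u, e₄) = J`. -/
theorem cB {g : G} (hz : g * s.z = s.z * g) (hu : g * s.u = s.u * g) (h : g * s.e4 = s.e4 * g) : g ∈ s.J := by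
  obtain ⟨k, hk, x, hx, h1, rfl⟩ := s.dec_e4 hz h
  have h2 : ∀ x ∈ s.S, s.a1 * x * s.u ≠ s.u * (s.a1 * x) ∧ (x * s.e4 = s.e4 * x → x * s.u = s.u * x → x ∈ s.J) :=
    s.hL.decide s.rep0 (by decide +kernel)
  rcases s.ba_Ru (inv_mem hk) (mem_eq (y := x * s.u * x⁻¹) (by
      calc _ = k⁻¹ * (s.u * (k * x)) * x⁻¹ := by group
        _ = _ := by rw [← hu]; group)
    (conj_mem_of_mem_norm (s.S_norm hx) s.ba_le.2.2.2.2.2.2.2.2.2.2.2.1)) with e | e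
  · rw [inv_eq_one.1 e, one_mul] at hu ⊢
    exact (h2 x hx).2 h1 hu
  · rw [inv_eq_iff_eq_inv.1 e, inv_eq_of_mul_eq_one_left s.sqs.1] at hu
    exact absurd hu (h2 x hx).1

theorem sig0 {X : Subgroup G} (hX : (Nat.card X).Coprime 3) (hn : s.J ≤ normalizer (X : Set G)) {x : G}
    (hx : x ∈ X) (e : x * s.z = s.z * x) : x = 1 := by
  have k0 : ∀ y ∈ X, y ^ 3 ^ 5 = 1 → y = 1 := fun y hy h => orderOf_eq_one_iff.1
    (((hX.coprime_dvd_left (orderOf_dvd_natCard _ hy)).pow_right 5).eq_one_of_dvd (orderOf_dvd_of_pow_eq_one h))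
  have k1 : ∀ b ∈ s.J, b ∈ s.Q → x * b = b * x := fun b hb hb' => by
    have := k0 (x * b * x⁻¹ * b⁻¹) (by
      simpa only [mul_assoc] using mul_mem hx (conj_mem_of_mem_norm (hn hb) (inv_mem hx)))
      (orderOf_dvd_iff_pow_eq_one.1 ((show 3 ^ 5 = Nat.card s.Q from s.gQ.2.symm) ▸ orderOf_dvd_natCard _
        (mul_mem (conj_mem_of_mem_norm (s.Q_eq ▸ norm_Q3 e) hb') (inv_mem hb')) :))
    rwa [mul_inv_eq_one, mul_inv_eq_iff_eq_mul] at this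
  refine k0 x hx ?_
  rw [pow_succ', pow_mul, s.pre.exp x (s.cB e (k1 _ s.ba_le.2.2.2.2.2.2.2.2.2.2.2.1 (mem_clos (by simp)))
    (k1 _ s.ba_le.2.2.2.2.2.2.2.2.2.2.2.2.1 (mem_clos (by simp)))), one_pow]

theorem sig {X : Subgroup G} (h3 : (Nat.card X).Coprime 3) (hn : s.J ≤ normalizer (X : Set G)) : X = ⊥ := by
  have f : (∀ x ∈ s.J, s.v * s.y⁻¹ * x = x * (s.v * s.y⁻¹) → x = 1 ∨ x ∈ s.Om) ∧
      orderOf (s.u * s.e4) = 3 ∧ s.u * s.e4 ∈ s.J ∧ s.z * (s.v * s.y⁻¹) = s.v * s.y⁻¹ * s.z ∧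
      s.u * s.e4 * (s.v * s.y⁻¹) = s.v * s.y⁻¹ * (s.u * s.e4) ∧ s.u * s.e4 * s.v ≠ s.v * (s.u * s.e4) ∧
      s.v * s.z = s.z * s.v := s.hL.decide s.rep0 (by decide +kernel)
  obtain ⟨f1, f3, f5, f6, f7, f8, f9⟩ := f
  have f4 := s.z_mem_J
  have hA : zpowers (s.u * s.e4) ⊔ zpowers s.z ≤ s.J ⊓ centralizer {s.v * s.y⁻¹} :=
    sup_le (zpowers_le.2 ⟨f5, mem_cen.2 f7⟩) (zpowers_le.2 ⟨f4, mem_cen.2 f6⟩)
  refine le_bot_iff.1 (le_of_nine (by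
    rw [card_sup_zp f3 (fun y hy => s.pre.comm _ f5 _ (zpowers_le.2 f4 hy)) fun e => f8 (zc f9 e).symm,
      Nat.card_zpowers, s.ex.ord]) (fun x hx => s.pre.exp x (hA hx).1) (fun x hx y hy => s.pre.comm x (hA hx).1 y (hA hy).1)
    (fun x hx => hn (hA hx).1) h3 fun x hx x1 y hy e => ?_)
  obtain ⟨w, hw, rfl⟩ := (f1 x (hA hx).1 (mem_cen.1 (hA hx).2).symm).resolve_left x1
  refine conj_eq_one.1 (s.sig0 (X := cj w⁻¹ X) (by rwa [card_cj]) ?_ (conj_mem_cj.2 hy) ?_)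
  · rw [← cj_normalizer, ← cj_eq_iff.2 (inv_mem (s.W0_le (s.eW_le hw)))]
    exact cj_mono hn
  · calc _ = w⁻¹ * (y * (w * s.z * w⁻¹)) * w := by group
      _ = _ := by rw [e]; group

theorem pQ : IsPGroup 3 s.Q := IsPGroup.of_card (n := 5) s.gQ.2

theorem ba_sylY : IsSylIn 3 (s.Q ⊓ centralizer {s.y}) (centralizer {s.y}) := by
  refine isSylIn_of_normalizer (H := centralizer {s.y} ⊓ normalizer (zpowers s.z : Set G))
    ⟨le_inf inf_le_right fun x hx => GT.PG.mem_normalizer_zpowers ?_, s.pQ.to_inf_left,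
      fun X hX h1 h2 => le_antisymm (fun x hx => ⟨?_, (h1 hx).1⟩) h2⟩ inf_le_right fun g hg h => ⟨hg, ?_⟩
  · rw [s.ex.comm_a (s.Q_eq.symm ▸ hx.1), mul_inv_cancel_right]; exact mem_zpowers _
  · have f : s.u * s.v * s.u⁻¹ * s.v⁻¹ = s.z ∧ s.u * s.y = s.y * s.u ∧ s.v * s.y = s.y * s.v :=
      s.hL.decide s.rep0 (by decide +kernel)
    have h1 := s.ex.comm _ (s.Q_eq.symm ▸ (conj_mem_of_mem_norm h ⟨mem_clos (by simp), mem_cen.2 f.2.1⟩).1) _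
      (s.Q_eq.symm ▸ (conj_mem_of_mem_norm h ⟨mem_clos (by simp), mem_cen.2 f.2.2⟩).1)
    refine GT.PG.mem_normalizer_zpowers (mem_eq ?_ h1)
    rw [← f.1]; group
  · obtain ⟨n, hn⟩ := ba_pg hX hx
    obtain ⟨k, hk, p, hp, rfl⟩ := s.dec_y (ba_cen hn s.z3 (conj_mem_of_mem_norm (h1 hx).2 (mem_zpowers _)))
      (mem_cen.1 (h1 hx).1)
    have h3 := ba_pow hp (s.Q_eq ▸ norm_Q3 (s.cRz k hk)) (3 ^ n)
    rw [hn, mul_one, inv_mem_iff] at h3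
    obtain ⟨m, hm⟩ := ba_pg s.pQ h3
    rw [← pow_mul, ← pow_add] at hm
    rwa [ba_one hm (s.ba_cod.1 k hk), one_mul]

theorem ba_y {g : G} : g * s.y * g⁻¹ ∉ s.J := fun h => by
  obtain ⟨k, -, h1⟩ := s.ba_sylY.exists_cj_le (isPGroup_cj s.pJ g⁻¹) (by
    rw [← cj_le_cj (g := g), cj_cj_inv, cj_centralizer_singleton]
    exact fun j hj => mem_cen.2 (s.pre.comm j hj _ h))
  rw [cj_cj] at h1
  rw [s.wc _ ((h1.trans inf_le_left).trans s.ba_le.2.2.2.2.1)] at h1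
  exact s.ba_le.2.2.2.2.2.2.2.2.2.2.2.2.2.2 (h1 (mem_clos (by simp))).1

/-- Elements of `T` outside `J₁` are not conjugate into `J`. -/
theorem pearl {x g : G} (hx : x ∈ s.T) (h : g * x * g⁻¹ ∈ s.J) : x ∈ s.J1 := by
  have f : ∀ x ∈ s.T, x ^ 3 = 1 → x ∈ s.J1 ∨ ∃ k ∈ s.J1, x = k * s.y * k⁻¹ ∨ x⁻¹ = k * s.y * k⁻¹ :=
    s.hL.decide s.rep0 (by decide +kernel)
  have h3 := s.pre.exp _ h
  rw [conj_pow, conj_eq_one] at h3
  refine (f x hx h3).resolve_right ?_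
  rintro ⟨k, -, e | e⟩
  · exact s.ba_y (g := g * k) (mem_eq (by rw [e]; group) h)
  · exact s.ba_y (g := g * k) (mem_eq (by rw [conj_inv, e]; group) (inv_mem h))

theorem ba_J1 : ∀ j ∈ s.J1, j ∈ s.V9 ∨ j * s.e3⁻¹ ∈ s.V9 ∨ j * s.e3 ∈ s.V9 := s.hL.decide s.rep0 (by decide +kernel)

theorem cV9 {k p : G} (hk : k ∈ s.R) (hp : p ∈ s.V9) : Commute p k := (s.cR2 k hk p (s.ba_le.2.2.2.2.2.2.1 hp)).symm

/-- An element of `J₁` centralises `R` or acts without fixed points on `R / ⟨r⟩`. -/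
theorem fpfR {j : G} (hj : j ∈ s.J1) : j ∈ s.V9 ∨ Fpf s.R s.r j := by
  refine (s.ba_J1 j hj).imp_right fun h k hk e => s.ba_cod.2.2.1 k hk ?_
  rcases h with h | h
  · simpa using ((s.cV9 hk h).inv_left.mul_left e).eq
  · simpa [mul_assoc] using ((show Commute j k from e).inv_left.mul_left (s.cV9 hk h)).eq

theorem R2_norm : s.R2 ≤ normalizer (s.R : Set G) := fun p hp =>
  mem_normalizer_of_conj_mem fun k hk => by rwa [← s.cR2 k hk p hp, mul_inv_cancel_right]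

theorem J1_norm : s.J1 ≤ normalizer (s.R : Set G) := fun j hj => by
  have h3 := mem_normalizer_of_conj_mem s.ba_cod.2.1
  have hV := s.ba_le.2.2.2.2.2.2.1.trans s.R2_norm
  rcases s.ba_J1 j hj with h | h | h
  exacts [hV h, (mul_mem_cancel_right (inv_mem h3)).1 (hV h), (mul_mem_cancel_right h3).1 (hV h)]

theorem cJ1 {g : G} (h1 : g * s.k1 = s.k1 * g) (h2 : g * s.k2 = s.k2 * g) (h3 : g * s.k3 = s.k3 * g) :
    g ∈ s.J ∨ g * s.r ∈ s.J := by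
  have f : (s.k1 * s.k2 * s.k3)⁻¹ = s.z ∧ s.k2 * s.k1⁻¹ = s.e4 ∧ s.k1 ∈ s.J1 ∧ s.k1 ∉ s.V9 ∧
      (∀ x ∈ s.S, x * s.k1 = s.k1 * x → x * s.k2 = s.k2 * x → x * s.k3 = s.k3 * x → x ∈ s.J) ∧
      ∀ x ∈ s.S, s.a1 * x * s.k1 = s.k1 * (s.a1 * x) → s.a1 * x * s.k2 = s.k2 * (s.a1 * x) →
        s.a1 * x * s.k3 = s.k3 * (s.a1 * x) → s.a1 * x * s.a1 ∈ s.J := s.hL.decide s.rep0 (by decide +kernel)
  obtain ⟨f1, f2, f3, f4, f5, f6⟩ := f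
  obtain ⟨k, hk, x, hx, -, rfl⟩ := s.dec_e4
    (f1 ▸ (((show Commute g s.k1 from h1).mul_right h2).mul_right h3).inv_right.eq)
    (f2 ▸ ((show Commute g s.k2 from h2).mul_right (show Commute g s.k1 from h1).inv_right).eq)
  have h4 : k⁻¹ * (s.k1 * k * s.k1⁻¹) = x * s.k1 * x⁻¹ * s.k1⁻¹ := by
    calc _ = k⁻¹ * (s.k1 * (k * x)) * x⁻¹ * s.k1⁻¹ := by group
      _ = _ := by rw [← h1]; group
  have h5 := ba_one (n := 1) (x := k⁻¹ * (s.k1 * k * s.k1⁻¹))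
    (h4 ▸ s.pre.exp _ (mul_mem (conj_mem_of_mem_norm (s.S_norm hx) (s.J1_le_J f3)) (inv_mem (s.J1_le_J f3))))
    (s.ba_cod.1 _ (mul_mem (inv_mem hk) (conj_mem_of_mem_norm (s.J1_norm f3) hk)))
  rcases (s.fpfR f3).resolve_left f4 k hk (mul_inv_eq_iff_eq_mul.1 (inv_mul_eq_one.1 h5).symm) with rfl | rfl
  · rw [one_mul] at h1 h2 h3 ⊢
    exact .inl (f5 x hx h1 h2 h3)
  · exact .inr (f6 x hx h1 h2 h3)

theorem nJ1 : normalizer (s.J1 : Set G) ≤ normalizer (s.J : Set G) := fun g hg => mem_normalizer_of_conj_mem fun x hx => by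
  have f : ∀ j ∈ s.J, (j * s.a1) ^ 3 ≠ 1 := s.hL.decide s.rep0 (by decide +kernel)
  have c : ∀ k ∈ s.J1, g * x * g⁻¹ * k = k * (g * x * g⁻¹) := fun k hk => by
    have := s.pre.comm x hx _ (s.J1_le_J (conj_mem_of_mem_norm (inv_mem hg) hk))
    calc _ = g * (x * (g⁻¹ * k * g⁻¹⁻¹)) * g⁻¹ := by group
      _ = _ := by rw [this]; group
  have m := nth_mem_clos [s.k1, s.k2, s.k3]
  refine (s.cJ1 (c _ (m 0)) (c _ (m 1)) (c _ (m 2))).resolve_right fun h => f _ h ?_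
  rw [mul_assoc, s.sqs.1, mul_one, conj_pow, s.pre.exp x hx]; simp

theorem mem_J1 : ∀ x ∈ s.J, x * s.a1 = s.a1 * x → x ∈ s.J1 := s.hL.decide s.rep0 (by decide +kernel)

theorem T_le : s.T ≤ s.NK := fun k hk => ⟨mem_cen.2 (s.ba_T k hk).1, mem_normalizer_of_conj_mem (s.ba_T k hk).2⟩

theorem J1_le : s.J1 ≤ s.NK := s.ba_le.1.trans s.T_le

theorem WK_le : s.WK ≤ s.NK := fun k hk => ⟨mem_cen.2 (s.ba_WK k hk).1, mem_normalizer_of_conj_mem (s.ba_WK k hk).2⟩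

theorem ba_t : s.t * s.a1 = s.a1 * s.t ∧ (∀ j ∈ s.J1, s.t * j * s.t⁻¹ ∈ s.J1) ∧ (∀ j ∈ s.WK, s.t * j * s.t⁻¹ ∈ s.WK) ∧
    (∀ j ∈ s.T, s.t⁻¹ * j * s.t ∈ s.T) ∧ (∀ x ∈ s.T, x * s.t * s.e4 = s.e4 * (x * s.t) → s.t = 1) := by
  rcases s.rep with h | h <;> exact s.hL.decide h (by decide +kernel)

theorem t_mem : s.t ∈ s.NK := ⟨mem_cen.2 s.ba_t.1, mem_normalizer_of_conj_mem s.ba_t.2.1⟩

theorem NK_le : s.NK ≤ s.K := inf_le_left

theorem NK_eq : s.NK = s.K ⊓ normalizer (s.J : Set G) :=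
  le_antisymm (inf_le_inf_left _ s.nJ1) fun _ hg => ⟨hg.1, mem_normalizer_of_conj_mem fun _ hx =>
    s.mem_J1 _ (conj_mem_of_mem_norm hg.2 (s.J1_le_J hx))
      (mem_cen.1 (mul_mem (mul_mem hg.1 (s.J1_le hx).1) (inv_mem hg.1)))⟩

theorem nk {g : G} (hg : g ∈ s.NK) : ∃ j ∈ s.J1, ∃ k ∈ s.WK, g = j * k ∨ g = j * k * s.t := by
  have f : ∀ k ∈ s.W0, k * (s.a1 * k * s.a1⁻¹)⁻¹ ∈ s.J → k ∈ s.WK := s.hL.decide s.rep0 (by decide +kernel)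
  obtain ⟨j, hj, k, hk, e⟩ := s.nj (s.nJ1 hg.2)
  have h1 : j * k ∈ s.K := by
    rcases e with rfl | rfl
    exacts [hg.1, (mul_mem_cancel_right (s.NK_le s.t_mem)).1 hg.1]
  have h2 := f k hk (mem_eq (y := j⁻¹ * (s.a1 * j * s.a1⁻¹)) (by
      calc _ = j⁻¹ * (j * k * s.a1) * k⁻¹ * s.a1⁻¹ := by group
        _ = _ := by rw [mem_cen.1 h1]; group)
    (mul_mem (inv_mem hj) (conj_mem_of_mem_norm (s.W0_le s.a1_mem) hj)))
  exact ⟨j, s.mem_J1 j hj (mem_cen.1 ((mul_mem_cancel_right (s.NK_le (s.WK_le h2))).1 h1)), k, h2, e⟩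

theorem M_le : s.M ≤ s.K := sup_le s.E_le inf_le_left

theorem cKz {g : G} (hg : g ∈ s.K) (h : g * s.z = s.z * g) : ∃ k ∈ s.R, ∃ x ∈ s.T, g = k * x ∨ g = k * x * s.t := by
  have f : ∀ x ∈ s.S, x * s.a1 = s.a1 * x → x ∈ s.T := s.hL.decide s.rep0 (by decide +kernel)
  obtain ⟨k, hk, x, hx, e⟩ := s.cz g h
  refine ⟨k, hk, x, f x hx (mem_cen.1 ((mul_mem_cancel_left (s.R_le hk)).1 ?_)), e⟩
  rcases e with rfl | rfl
  exacts [hg, (mul_mem_cancel_right (s.NK_le s.t_mem)).1 hg]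

theorem pT : IsPGroup 3 s.T := IsPGroup.of_card (n := 4) s.gT.2

theorem sylT : IsSylIn 3 s.T s.K := by
  have f : (∀ x ∈ s.T, x * s.z = s.z * x) ∧ s.z ∈ s.T ∧ s.k1 ∈ s.T ∧ s.y ∈ s.T ∧
      ∀ x ∈ s.T, x * s.k1 = s.k1 * x → x * s.y = s.y * x → x = 1 ∨ x = s.z ∨ x = s.z⁻¹ :=
    s.hL.decide s.rep0 (by decide +kernel)
  obtain ⟨f1, f2, f3, f4, f5⟩ := f
  have hT : s.T ≤ s.K := s.T_le.trans inf_le_left
  refine isSylIn_of_normalizer (H := s.K ⊓ normalizer (zpowers s.z : Set G))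
    ⟨le_inf hT fun x hx => GT.PG.mem_normalizer_zpowers ?_, s.pT,
      fun X hX h1 h2 => le_antisymm (fun x hx => ?_) h2⟩ hT fun g hg h => ⟨hg, GT.PG.mem_normalizer_zpowers ?_⟩
  · rw [f1 x hx, mul_inv_cancel_right]; exact mem_zpowers _
  · obtain ⟨n, hn⟩ := ba_pg hX hx
    obtain ⟨k, hk, p, hp, rfl | rfl⟩ := s.cKz (h1 hx).1
      (ba_cen hn s.z3 (conj_mem_of_mem_norm (h1 hx).2 (mem_zpowers _)))
    · obtain ⟨m, hm⟩ := ba_pg hX ((mul_mem_cancel_right (h2 hp)).1 hx)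
      rwa [ba_one hm (s.ba_cod.1 k hk), one_mul]
    · have h3 := s.ba_t.2.2.2.1 p hp
      rw [show k * p * s.t = k * s.t * (s.t⁻¹ * p * s.t) by group] at hx ⊢
      obtain ⟨m, hm⟩ := ba_pg hX ((mul_mem_cancel_right (h2 h3)).1 hx)
      rwa [ba_one hm (by
        rw [(show Commute k s.t from s.cRt k hk).mul_pow, s.ba_cod.1 k hk, show 4 = 2 * 2 from rfl, pow_mul, pow_two s.t,
          s.sqs.2.2.2.1]; simp), one_mul]
  · have c : ∀ k ∈ s.T, g * s.z * g⁻¹ * k = k * (g * s.z * g⁻¹) := fun k hk => by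
      have := f1 _ (conj_mem_of_mem_norm (inv_mem h) hk)
      calc _ = g * (s.z * (g⁻¹ * k * g⁻¹⁻¹)) * g⁻¹ := by group
        _ = _ := by rw [← this]; group
    rcases f5 _ (conj_mem_of_mem_norm h f2) (c _ f3) (c _ f4) with e | e | e <;> rw [e]
    exacts [one_mem _, mem_zpowers _, inv_mem (mem_zpowers _)]

theorem card_NK : Nat.card s.NK = 1296 ∧ s.t = 1 ∨ Nat.card s.NK = 2592 ∧ s.t ≠ 1 := by
  have f : ∀ x ∈ s.J1, x ∈ s.WK → x = 1 := s.hL.decide s.rep0 (by decide +kernel)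
  have hn : s.WK ≤ normalizer (s.J1 : Set G) := s.WK_le.trans inf_le_right
  have h1 : Nat.card (s.J1 ⊔ s.WK : Subgroup G) = 1296 := by
    rw [GT.CopAct.card_sup_of_inf_eq_bot hn (eq_bot_iff.2 fun x hx => f x hx.1 hx.2), s.gJ1.2, s.gWK.2]
  have h2 : s.NK = s.J1 ⊔ s.WK ⊔ zpowers s.t :=
    le_antisymm (fun g hg => by
      obtain ⟨j, hj, k, hk, rfl | rfl⟩ := s.nk hg
      exacts [mem_sup_left (mul_mem_sup hj hk), mul_mem_sup (mul_mem_sup hj hk) (mem_zpowers _)])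
      (sup_le (sup_le s.J1_le s.WK_le) (zpowers_le.2 s.t_mem))
  by_cases ht : s.t = 1
  · exact .inl ⟨by rw [h2, ht, zpowers_one_eq_bot, sup_bot_eq, h1], ht⟩
  · have f2 : ∀ j ∈ s.J1, ∀ k ∈ s.WK, j * k ≠ s.t := s.hL.decide (s.repB ht) (by decide +kernel)
    refine .inr ⟨?_, ht⟩
    rw [h2, GT.PG.card_sup_zpowers Nat.prime_two (normalizer_inf_normalizer_le_normalizer_sup _ _
      ⟨s.t_mem.2, mem_normalizer_of_conj_mem s.ba_t.2.2.1⟩) (fun h => ?_)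
      (by rw [pow_two, s.sqs.2.2.2.1]; exact one_mem _), h1]
    obtain ⟨j, hj, k, hk, e⟩ := (GT.CopAct.mem_sup_iff_of_le_normalizer hn).1 h
    exact f2 j hj k hk e

/-- An element of `K` normalising `⟨z⟩` normalises `R`. -/
theorem normR {g : G} (hg : g ∈ s.K) (h : g * s.z * g⁻¹ = s.z ∨ g * s.z * g⁻¹ = s.z⁻¹) : cj g s.R = s.R := by
  have f : (∀ x ∈ s.Q, x * s.a1 = s.a1 * x → x ∈ s.R2) ∧ (∀ x ∈ s.R2, x * s.a1 = s.a1 * x) ∧
      ∀ x ∈ s.T, x * s.e4 = s.e4 * x → x * s.y = s.y * x → x ∈ s.R2 ∧ x ^ 3 = 1 := s.hL.decide s.rep0 (by decide +kernel)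
  obtain ⟨f1, f2, f3⟩ := f
  have h1 : g ∈ normalizer (s.Q : Set G) := by
    rw [← s.Q_eq, ← cj_eq_iff, ← Q3_cj]
    rcases h with h | h <;> rw [h]
    exact Q3_inv _
  refine cj_eq_of_le (cj_le_iff.2 fun k hk => ?_)
  have c : ∀ p ∈ s.R2, g * k * g⁻¹ * p = p * (g * k * g⁻¹) := fun p hp => by
    have := s.cR2 k hk _ (f1 _ (conj_mem_of_mem_norm (inv_mem h1) (s.ba_le.2.2.2.2.2.1 hp))
      (mem_cen.1 (mul_mem (mul_mem (inv_mem hg) (mem_cen.2 (f2 p hp))) (inv_mem (inv_mem hg)))))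
    calc _ = g * (k * (g⁻¹ * p * g⁻¹⁻¹)) * g⁻¹ := by group
      _ = _ := by rw [this]; group
  have h4 : (g * k * g⁻¹) ^ 4 = 1 := by rw [conj_pow, s.ba_cod.1 k hk]; simp
  have m := nth_mem_clos [s.z, s.e4, s.y]
  obtain ⟨k0, hk0, x, hx, e⟩ := s.cKz (mul_mem (mul_mem hg (s.R_le hk)) (inv_mem hg)) (c _ (m 0))
  have d : ∀ {x}, g * k * g⁻¹ = k0 * x → ∀ p ∈ s.R2, x * p = p * x := fun {x} e p hp => mem_cen.1
    ((mul_mem_cancel_left (mem_cen.2 (s.cR2 k0 hk0 p hp))).1 (e ▸ mem_cen.2 (c p hp)))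
  replace e : g * k * g⁻¹ = k0 * x := e.elim id fun e => by
    rwa [s.ba_t.2.2.2.2 x hx (d (e.trans (mul_assoc _ _ _)) _ (m 1)), mul_one] at e
  obtain ⟨h5, h6⟩ := f3 x hx (d e _ (m 1)) (d e _ (m 2))
  rw [e, (show Commute k0 x from s.cR2 k0 hk0 x h5).mul_pow, s.ba_cod.1 k0 hk0, one_mul] at h4
  rwa [e, ba_one (n := 1) h6 h4, mul_one]

theorem Rn_cj {g : G} (hg : g ∈ s.K) {i j : Fin 4} (h : g * s.zn i * g⁻¹ = s.zn j ∨ g * s.zn i * g⁻¹ = (s.zn j)⁻¹) :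
    cj g (s.Rn i) = s.Rn j := by
  have h1 := s.normR (g := (s.sn j)⁻¹ * g * s.sn i)
    (mul_mem (mul_mem (inv_mem (s.WK_le (s.sn_mem j)).1) hg) (s.WK_le (s.sn_mem i)).1) (by
      rw [show (s.sn j)⁻¹ * g * s.sn i * s.z * ((s.sn j)⁻¹ * g * s.sn i)⁻¹ = (s.sn j)⁻¹ * (g * s.zn i * g⁻¹) * s.sn j by
        rw [zn]; group]
      refine h.imp (fun e => ?_) fun e => ?_ <;> rw [e, zn] <;> group)
  rw [Rn, Rn, cj_cj]
  nth_rw 2 [← h1]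
  rw [cj_cj]
  congr 1
  group

theorem zn_Om (i : Fin 4) : s.zn i ∈ s.Om :=
  s.cls_Om s.ba_le.2.2.2.2.2.2.2.2.2.2.1 (s.J1_le_J (s.zn_mem i)) (isConj_cj _ _)

theorem Om_J1 {x : G} (hx : x ∈ s.J1) (h : x ∈ s.Om) : ∃ j, x = s.zn j ∨ x = (s.zn j)⁻¹ := by
  have f : ∀ x ∈ s.J1, x ∈ s.Om → (x = 1 * s.z * 1⁻¹ ∨ x = (1 * s.z * 1⁻¹)⁻¹) ∨
      (x = s.s1 * s.z * s.s1⁻¹ ∨ x = (s.s1 * s.z * s.s1⁻¹)⁻¹) ∨ (x = s.m * s.z * s.m⁻¹ ∨ x = (s.m * s.z * s.m⁻¹)⁻¹) ∨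
      (x = s.s3 * s.z * s.s3⁻¹ ∨ x = (s.s3 * s.z * s.s3⁻¹)⁻¹) := s.hL.decide s.rep0 (by decide +kernel)
  rcases f x hx h with e | e | e | e
  exacts [⟨0, e⟩, ⟨1, e⟩, ⟨2, e⟩, ⟨3, e⟩]

theorem perm {g : G} (hg : g ∈ s.NK) (i : Fin 4) : ∃ j, cj g (s.Rn i) = s.Rn j :=
  have h := conj_mem_of_mem_norm hg.2 (s.zn_mem i)
  (s.Om_J1 h (s.cls_Om (s.zn_Om i) (s.J1_le_J h) (isConj_cj _ _))).imp fun _ => s.Rn_cj hg.1

include s in
theorem odd_bot (O : Subgroup G) [O.Normal] (h : Odd (Nat.card O)) : O = ⊥ := by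
  have := Fact.mk Nat.prime_three
  refine s.sig (Nat.prime_three.coprime_iff_not_dvd.2 fun h3 => ?_).symm le_normalizer_of_normal
  have f : (∀ x ∈ s.S, x * s.e1 = s.e1 * x → x * s.v = s.v * x → x * s.y = s.y * x → x = 1 ∨ x = s.z ∨ x⁻¹ = s.z) ∧
      ∃ x ∈ s.Om, x⁻¹ * s.e3 ∈ s.Om := s.hL.decide s.rep0 (by decide +kernel)
  have h1 := s.syl.inf_of_le_normalizer (K := O) le_top le_normalizer_of_normal
  obtain ⟨⟨x, hx⟩, h2⟩ := ne_bot_iff_exists_ne_one.1 (GT.PG.inf_centralizer_ne_bot_of_isPGroup h1.isPGroup s.syl.isPGroup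
    (GT.CopAct.le_normalizer_inf le_normalizer le_normalizer_of_normal) fun e =>
      h1.not_dvd_relIndex (by rwa [e, relIndex_bot_left]))
  have m := nth_mem_clos [s.e1, s.e2, s.e3, s.e4, s.v, s.y]
  have hz : s.z ∈ O := by
    rcases f.1 x hx.1.1 (hx.2 _ (m 0)).symm (hx.2 _ (m 4)).symm (hx.2 _ (m 5)).symm with e | e | e
    exacts [absurd (Subtype.ext e) h2, e ▸ hx.1.2, e ▸ inv_mem hx.1.2]
  have h4 : ∀ x ∈ s.Om, x ∈ O := by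
    rintro _ ⟨w, -, rfl⟩
    exact Normal.conj_mem inferInstance _ hz w
  obtain ⟨a, ha, hb⟩ := f.2
  have h5 : s.e3 ∈ O := (mul_mem_cancel_left (inv_mem (h4 a ha))).1 (h4 _ hb)
  have h6 := eq_one_of_odd_of_sq h (x := s.e3 * s.q * s.e3⁻¹ * s.q⁻¹) (k := 2)
    (by simpa only [mul_assoc, inv_inv] using mul_mem h5 (Normal.conj_mem inferInstance _ (inv_mem h5) s.q))
    (s.ba_cod.1 _ (mul_mem (s.ba_cod.2.1 _ s.q_mem) (inv_mem s.q_mem)))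
  have h7 : s.q * s.q = s.a1 := s.car.q2
  rcases s.ba_cod.2.2.1 _ s.q_mem (mul_inv_eq_iff_eq_mul.1 (mul_inv_eq_one.1 h6)) with e | e <;> rw [e] at h7
  exacts [s.esR.z_ne (h7.symm.trans (one_mul 1)), s.esR.z_ne (h7.symm.trans s.sqs.1)]

theorem J0_sup : s.J0 ⊔ zpowers s.e4 = s.J :=
  le_antisymm (sup_le s.ba_le.2.2.2.2.2.2.2.1 (zpowers_le.2 s.ba_le.2.2.2.2.2.2.2.2.2.2.2.2.1)) (clos_le.2 (by
    have m := nth_mem_clos [s.e1, s.e2, s.e3]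
    simp only [List.forall_mem_cons, List.not_mem_nil, false_imp_iff, implies_true, and_true]
    exact ⟨mem_sup_left (m 0), mem_sup_left (m 1), mem_sup_left (m 2), mem_sup_right (mem_zpowers _)⟩))

theorem sc4 : Sc (centralizer {s.e4}) ⊥ (zpowers s.e4) s.f s.q := by
  have a : s.e4 ^ 3 = 1 ∧ s.e4 ∉ s.J0 ∧ s.e4⁻¹ ∉ s.J0 ∧ s.e4 * s.z ∉ s.Om ∧ s.e4⁻¹ * s.z ∉ s.Om ∧
      s.e4 * s.z ∈ s.J ∧ s.e4⁻¹ * s.z ∈ s.J ∧
      (s.e1 * s.e4 = s.e4 * s.e1 ∧ s.e2 * s.e4 = s.e4 * s.e2 ∧ s.e3 * s.e4 = s.e4 * s.e3 ∧ s.v * s.e4 = s.e4 * s.v ∧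
        s.a1 * s.e4 = s.e4 * s.a1) ∧
      ∀ x ∈ s.S, x * s.e4 = s.e4 * x → x ∈ s.S0 ∨ x * s.e4 ∈ s.S0 ∨ x * s.e4⁻¹ ∈ s.S0 :=
    s.hL.decide s.rep0 (by decide +kernel)
  obtain ⟨e3, a2, a3, a4, a5, a6, a7, a8, a9⟩ := a
  refine ⟨⟨⟨bot_le, le_normalizer_of_normal.trans' le_top, by simp⟩, zpowers_le.2 (mem_cen.2 rfl),
    fun z hz g hg => (zc (mem_cen.1 hg) hz).symm,
    fun z hz => s.pre.exp z (zpowers_le.2 (mem_clos (by simp)) hz), clos_le.2 ?_, eq_bot_iff.2 fun x hx => ?_,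
    fun X h1 h2 h3 => (s.sig h2 (s.J0_sup ▸ sup_le h3 (zpowers_le.2
      (centralizer_le_normalizer _ fun x hx => mem_cen.1 (h1 hx))))).le⟩, s.car, mem_cen.2 s.qe, fun g hg h2 => ?_⟩
  · simpa only [List.forall_mem_cons, List.not_mem_nil, false_imp_iff, implies_true, and_true, mem_cen] using a8
  · rcases mem_zpowers_three e3 hx.2 with e | e | e
    exacts [e, absurd (e ▸ hx.1) a2, absurd (e ▸ hx.1) a3]
  · rw [sup_bot_eq]
    have h3 : ZE s.z (g * s.z * g⁻¹) := .inl (isConj_cj _ _)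
    rcases mem_zpowers_three e3 h2 with e | e | e <;> replace e : g * s.z * g⁻¹ = _ := mul_inv_eq_iff_eq_mul.1 e
    · obtain ⟨k, hk, x, hx, h4, rfl⟩ := s.dec_e4 (mul_inv_eq_iff_eq_mul.1 (e.trans (one_mul _))) (mem_cen.1 hg)
      have m : s.e4 ∈ s.f.CC s.q ⊔ zpowers s.e4 := mem_sup_right (mem_zpowers _)
      refine mul_mem (mem_sup_left (s.ba_cod.2.2.2.2.1 hk)) ?_
      rcases a9 x hx h4 with h | h | h <;> replace h := mem_sup_left (T := zpowers s.e4) (s.ba_cod.2.2.2.2.2 h)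
      exacts [h, (mul_mem_cancel_right m).1 h, (mul_mem_cancel_right (inv_mem m)).1 h]
    · exact absurd (s.ze a6 (e ▸ h3)) a4
    · exact absurd (s.ze a7 (e ▸ h3)) a5

theorem mv4 : Mv (centralizer {s.e4}) (zpowers s.e4) s.f := by
  have a : s.s3 * s.a1 * s.e4 = s.e4 * (s.s3 * s.a1) ∧ s.s3 * s.a1 ∈ s.W0 ∧ s.s3 * s.a1 * s.z * (s.s3 * s.a1)⁻¹ ∉ s.V9 :=
    s.hL.decide s.rep0 (by decide +kernel)
  exact ⟨s.s3 * s.a1, mem_cen.2 a.1, s.J0_sup.symm ▸ s.W0_le a.2.1,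
    fun e => a.2.2 (sup_le (zpowers_le.2 (mem_clos (by simp [s.f_a]))) (zpowers_le.2 (mem_clos (by simp))) e)⟩

end Lo

end Cfsg.Agent.Tr8
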