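import Mathlib
import Cfsg.Agent.Tr8.Bas
import Cfsg.Agent.T3.Eka
import Cfsg.Agent.F4T.Pr1

/-! Centralisers of roots when `t ≠ 1`. -/

set_option autoImplicit false
set_option synthInstance.maxSize 100000
set_option synthInstance.maxHeartbeats 1000000
set_option linter.unusedSectionVars false
set_option maxRecDepth 100000

namespace Cfsg.Agent.Tr8

open Cfsg.Agent.Spor Cfsg.Agent.Rec Cfsg.Agent.Inv.Fz Cfsg.Agent.T16 Cfsg.Agent.T3 Cfsg.Agent.T3.LB Subgroup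

universe u

variable {G : Type u} [Group G] [Finite G]

section

variable (Ks : List (Set G)) (e : List G) (a : G) (S : Set G) (P : G → Prop) (p q : Fm)

instance rtExIns [h : RF Ks e (Let a P) p] [h' : RF Ks e (∃ x ∈ S, P x) q] : RF Ks e (∃ x ∈ insert a S, P x) (.or p q) :=
  ⟨(or_congr h.iff h'.iff).trans (by rw [Set.exists_mem_insert]; rfl)⟩
instance rtExOne [h : RF Ks e (Let a P) p] : RF Ks e (∃ x ∈ ({a} : Set G), P x) p := ⟨h.iff.trans (by simp [Let])⟩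
instance rtAllIns [h : RF Ks e (Let a P) p] [h' : RF Ks e (∀ x ∈ S, P x) q] : RF Ks e (∀ x ∈ insert a S, P x) (.and p q) :=
  ⟨(and_congr h.iff h'.iff).trans (by rw [Set.forall_mem_insert]; rfl)⟩
instance rtAllOne [h : RF Ks e (Let a P) p] : RF Ks e (∀ x ∈ ({a} : Set G), P x) p := ⟨h.iff.trans (by simp [Let])⟩

end

theorem rt_x4 {L Z : Subgroup G} {f : Fr G} {Q : Type u} [Group Q] [Finite Q] {φ : L →* Q} (h : Qm L ⊥ Z f φ) {d : G}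
    (hd : d ∈ L) (e : d * d = 1 ∧ d * f.c1 * d⁻¹ = f.c1 ∧ d * f.c2 * d⁻¹ = f.c2 ∧ d * f.c3 * d⁻¹ = f.c3⁻¹ ∧ d * f.t = f.t * d ∧
      d * (f.v * d * f.v⁻¹) = f.v * d * f.v⁻¹ * d)
    (hn : ∀ g ∈ L, g ∈ normalizer ((f.J ⊔ Z : Subgroup G) : Set G) → g ∈ clos [f.c1, f.c2, f.c3, f.v, f.t, d] ⊔ Z) :
    h.fr.X4 (φ ⟨d, hd⟩) := by
  obtain ⟨e1, e2, e3, e4, e5, e6⟩ := e
  let r := f.res L h.le
  let d' : L := ⟨d, hd⟩
  have c1 : φ d' * φ r.c1 * (φ d')⁻¹ = φ r.c1 := by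
    simpa only [map_mul, map_inv] using congrArg φ (Subtype.ext e2 : d' * r.c1 * d'⁻¹ = r.c1)
  have c2 : φ d' * φ r.c2 * (φ d')⁻¹ = φ r.c2 := by
    simpa only [map_mul, map_inv] using congrArg φ (Subtype.ext e3 : d' * r.c2 * d'⁻¹ = r.c2)
  have c3 : φ d' * φ r.c3 * (φ d')⁻¹ = (φ r.c3)⁻¹ := by
    simpa only [map_mul, map_inv] using congrArg φ (Subtype.ext e4 : d' * r.c3 * d'⁻¹ = r.c3⁻¹)
  have c4 : φ d' * φ r.t = φ r.t * φ d' := by simpa only [map_mul] using congrArg φ (Subtype.ext e5 : d' * r.t = r.t * d')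
  have c5 : φ d' * (φ r.v * φ d' * (φ r.v)⁻¹) = φ r.v * φ d' * (φ r.v)⁻¹ * φ d' := by
    simpa only [map_mul, map_inv] using congrArg φ (Subtype.ext e6 : d' * (r.v * d' * r.v⁻¹) = r.v * d' * r.v⁻¹ * d')
  refine ⟨by simpa only [map_mul, map_one] using congrArg φ (Subtype.ext e1 : d' * d' = 1), c1, c2, c3, c4, c5,
    le_antisymm (fun y hy => ?_) (clos_le.2 ?_)⟩
  · obtain ⟨x, rfl, hx⟩ := h.lift_norm h.J_le f.J_p_k (h.fr_J ▸ hy)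
    have e : clos [h.fr.c1, h.fr.c2, h.fr.c3, h.fr.v, h.fr.t, φ d'] = img φ (clos [f.c1, f.c2, f.c3, f.v, f.t, d]) :=
      (map_clos φ [r.c1, r.c2, r.c3, r.v, r.t, d']).symm.trans (congrArg (map φ) (clos_sub _))
    rw [e, h.mem_img (clos_le.2 ?_), bot_sup_eq]
    · exact hn x x.2 hx
    · simp only [List.forall_mem_cons, List.not_mem_nil, false_imp_iff, implies_true, and_true]
      exact ⟨r.c1.2, r.c2.2, r.c3.2, r.v.2, r.t.2, hd⟩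
  · simp only [List.forall_mem_cons, List.not_mem_nil, false_imp_iff, implies_true, and_true]
    have m := fun {x} (hx : x ∈ h.fr.J) => h.fr.H_le_N_k (h.fr.J_le_H_k hx)
    exact ⟨m h.fr.c1_mem, m h.fr.c2_mem, m h.fr.c3_mem, h.fr.H_le_N_k h.fr.v_mem_H_k, h.fr.H_le_N_k h.fr.t_mem_k,
      Fr.mem_normJ ⟨Set.mem_of_eq_of_mem c1 h.fr.c1_mem, Set.mem_of_eq_of_mem c2 h.fr.c2_mem,
        Set.mem_of_eq_of_mem c3 (inv_mem h.fr.c3_mem)⟩⟩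

/-- A four-group permuted by `c₁ c₂` in `C(c₃, t)` centralises the quaternion group. -/
theorem rt_q6 (s : Q6 G) {q : G} (h : s.Ca q) {g : G} (h0 : g * g = 1) (h1 : g * s.c3 = s.c3 * g) (h2 : g * s.t = s.t * g)
    (h3 : g * ((s.c1 * s.c2)⁻¹ * g * (s.c1 * s.c2)⁻¹⁻¹) * ((s.c1 * s.c2)⁻¹⁻¹ * g * (s.c1 * s.c2)⁻¹) = 1) :
    g * q = q * g ∧ g * (s.c3 * q * s.c3⁻¹) = s.c3 * q * s.c3⁻¹ * g := by
  have k : ∀ g ∈ s.N3, g * g = 1 → g * s.c3 = s.c3 * g → g * s.t = s.t * g →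
      g * ((s.c1 * s.c2)⁻¹ * g * (s.c1 * s.c2)⁻¹⁻¹) * ((s.c1 * s.c2)⁻¹⁻¹ * g * (s.c1 * s.c2)⁻¹) = 1 →
      g = 1 ∨ g = s.q3 * s.t ∨ g = s.c1 * s.c2 * (s.q3 * s.t) * (s.c1 * s.c2)⁻¹ ∨
        g = (s.c1 * s.c2)⁻¹ * (s.q3 * s.t) * (s.c1 * s.c2) := s.hN.decide s.repN (by decide +kernel)
  obtain ⟨⟨C, hC⟩, -⟩ := F4L.pr_cod s h
  rcases k g (s.memN h1) h0 h1 h2 h3 with rfl | rfl | rfl | rfl
  · simp
  all_goals exact Cod.listsL_nil.decide hC (by decide +kernel)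

theorem rt_s9 (s : Q6 G) (h : centralizer {s.a} = s.H) : ∃ x y : G,
    (x * x = 1 ∧ x ≠ 1 ∧ x * s.d1 = s.d1 * x ∧ s.c3 * x = x * s.c3 ∧ s.c2 * x * s.c2⁻¹ * x = x * (s.c2 * x * s.c2⁻¹) ∧
      x * (s.c2 * x * s.c2⁻¹) * (s.c2⁻¹ * x * s.c2) = 1) ∧
    (y * y = 1 ∧ y ≠ 1 ∧ y * s.d1 = s.d1 * y ∧ s.c2 * y = y * s.c2 ∧ s.c3 * y * s.c3⁻¹ * y = y * (s.c3 * y * s.c3⁻¹) ∧
      y * (s.c3 * y * s.c3⁻¹) * (s.c3⁻¹ * y * s.c3) = 1) ∧ (x * y) ^ 3 = s.d2 * s.d3 := by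
  obtain ⟨-, C, hC⟩ := s.exists_G1 h
  exact ⟨s.q3 * s.d2, s.q2 * s.d3, Cod.listsL_nil.decide (s.repG hC) (by decide +kernel)⟩

theorem rt_cases {f : Fr G} {d : G} (X : f.X4 d) (h : centralizer {f.a} = f.H) (hs : f.Sig) : f.J.Normal ∨ ∃ x y : G,
    (x * x = 1 ∧ x ≠ 1 ∧ x * (f.v * d * f.v⁻¹) = f.v * d * f.v⁻¹ * x ∧ f.c3 * x = x * f.c3 ∧
      f.c2 * x * f.c2⁻¹ * x = x * (f.c2 * x * f.c2⁻¹) ∧ x * (f.c2 * x * f.c2⁻¹) * (f.c2⁻¹ * x * f.c2) = 1) ∧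
    (y * y = 1 ∧ y ≠ 1 ∧ y * (f.v * d * f.v⁻¹) = f.v * d * f.v⁻¹ * y ∧ f.c2 * y = y * f.c2 ∧
      f.c3 * y * f.c3⁻¹ * y = y * (f.c3 * y * f.c3⁻¹) ∧ y * (f.c3 * y * f.c3⁻¹) * (f.c3⁻¹ * y * f.c3) = 1) ∧
    (x * y) ^ 3 = f.v * (f.v * d * f.v⁻¹) * f.v⁻¹ * d := by
  obtain ⟨s, e1, e2⟩ : ∃ s : Q4 G, s.toFr = f ∧ s.d3 = d :=
    ⟨X.toQ4 (Fr.hc_ok h) hs (Fr.hc_syl h) ((centralizer_le_normalizer _).trans (Fr.hc_normA h))
      ((centralizer_le (Set.singleton_subset_iff.2 (mem_clos (by simp)))).trans (h.le.trans f.H_le_N_k)), rfl, rfl⟩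
  subst e1 e2
  rcases s.cases6 with k | ⟨s, rfl⟩
  · exact Or.inl (s.normal_of_le h k)
  · rw [s.vd3, s.vd1]
    exact Or.inr (rt_s9 s h)

/-- Lifting an involution together with its relations. -/
theorem rt_lift {L Z : Subgroup G} {f : Fr G} {Q : Type u} [Group Q] [Finite Q] {φ : L →* Q} (h : Qm L ⊥ Z f φ) {x : Q}
    {d c k : L} (d2 : (d : G) * d = 1) (e : x * x = 1 ∧ x ≠ 1 ∧ x * φ d = φ d * x ∧ φ c * x = x * φ c ∧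
      φ k * x * (φ k)⁻¹ * x = x * (φ k * x * (φ k)⁻¹) ∧ x * (φ k * x * (φ k)⁻¹) * ((φ k)⁻¹ * x * φ k) = 1) :
    ∃ A : L, φ A = x ∧ (A : G) * A = 1 ∧ (A : G) ≠ 1 ∧ (A : G) * d = d * A ∧ (A : G) * c = c * A ∧
      (A : G) * (k * A * (k : G)⁻¹) * ((k : G)⁻¹ * A * k) = 1 := by
  obtain ⟨e1, e2, e3, e4, e5, e6⟩ := e
  obtain ⟨B, rfl⟩ := h.surj x
  have z : ∀ w : L, φ w = 1 → (w : G) ∈ Z := fun w hw => bot_sup_eq Z ▸ h.eq_one.1 hw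
  have b2 : (B : G) * B ∈ Z := z (B * B) (by rw [map_mul, e1])
  obtain ⟨A, hA, a2⟩ : ∃ A : L, φ A = φ B ∧ (A : G) * A = 1 :=
    ⟨B ^ 3, by rw [map_pow, pow_three, e1, mul_one], by
      rw [coe_pow, ← (Commute.refl (B : G)).mul_pow]; exact h.Z3 _ b2⟩
  have a4 : (A : G) ^ 4 = 1 := by rw [show 4 = 2 * 2 from rfl, pow_mul, pow_two (A : G), a2, one_pow]
  rw [← hA] at e2 e3 e4 e5 e6 ⊢
  refine ⟨A, rfl, a2, fun e => e2 (by rw [show A = 1 from Subtype.ext e, map_one]),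
    h.comm_lift (by rw [show 4 = 2 * 2 from rfl, pow_mul, pow_two (d : G), d2, one_pow]) e3, (h.comm_lift a4 e4).symm, ?_⟩
  have c : Commute ((k : G) * A * (k : G)⁻¹) A := h.comm_lift (x := k * A * k⁻¹) a4 (by simpa only [map_mul, map_inv] using e5)
  have w := z (A * (k * A * k⁻¹) * (k⁻¹ * A * k)) (by simpa only [map_mul, map_inv] using e6)
  have wc := h.Z_cen _ w _ (k⁻¹ * A * k).2
  have w3 := h.Z3 _ w
  push_cast at w wc w3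
  have p1 : ((A : G) * (k * A * (k : G)⁻¹)) ^ 2 = 1 := by
    rw [c.symm.mul_pow, conj_pow, pow_two, a2]; group
  have p2 : ((k : G)⁻¹ * A * k) ^ 2 = 1 := by
    rw [pow_two, show (k : G)⁻¹ * A * k * ((k : G)⁻¹ * A * k) = (k : G)⁻¹ * (A * A) * k by group, a2]; group
  generalize (A : G) * (k * A * (k : G)⁻¹) = X at *
  generalize (k : G)⁻¹ * A * k = Y at *
  have xy : Commute X Y := mul_right_cancel (b := Y) (by rw [wc]; group)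
  have : (X * Y) ^ 2 = 1 := by rw [xy.mul_pow, p1, p2, one_mul]
  rwa [pow_succ, this, one_mul] at w3

namespace Lo

variable (s : Lo G)

theorem rt_w (ht : s.t ≠ 1) {x : G} (x2 : x * x = 1) (x1 : x ≠ 1) (xr : x * s.a1 = s.a1 * x) (h1 : x * s.k1 = s.k1 * x)
    (h2 : x * s.k2 = s.k2 * x) (h3 : x * (s.k3 * x * s.k3⁻¹) * (s.k3⁻¹ * x * s.k3) = 1) : ∀ k ∈ s.R, x * k = k * x := by
  have b : s.e3 = (s.k1 * s.k2)⁻¹ ∧ s.e4 = (s.k1 * s.k2⁻¹)⁻¹ ∧ s.k3 ∈ s.J ∧ ∀ j ∈ s.J, j * j = 1 → j = 1 :=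
    s.hL.decide s.rep0 (by decide +kernel)
  have c1 : Commute x s.k1 := h1
  have c2 : Commute x s.k2 := h2
  have x3 : x * s.e3 = s.e3 * x := b.1 ▸ (c1.mul_right c2).inv_right
  have x4 : x ∈ centralizer ({s.e4} : Set G) := mem_cen.2 (b.2.1 ▸ (c1.mul_right c2.inv_right).inv_right)
  have sc := s.sc4
  obtain ⟨Q, _, _, φ, hφ⟩ := sc.exists_qm
  have ca := sc.ca hφ
  have d : (s.m * s.t * s.m * s.e4 = s.e4 * (s.m * s.t * s.m)) ∧ s.m * s.t * s.m * (s.m * s.t * s.m) = 1 ∧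
      s.m * s.t * s.m * s.e1 * (s.m * s.t * s.m)⁻¹ = s.e1 ∧ s.m * s.t * s.m * s.e2 * (s.m * s.t * s.m)⁻¹ = s.e2 ∧
      s.m * s.t * s.m * s.e3 * (s.m * s.t * s.m)⁻¹ = s.e3⁻¹ ∧ s.m * s.t * s.m * s.a1 = s.a1 * (s.m * s.t * s.m) ∧
      s.m * s.t * s.m * (s.v * (s.m * s.t * s.m) * s.v⁻¹) = s.v * (s.m * s.t * s.m) * s.v⁻¹ * (s.m * s.t * s.m) :=
    s.hL.decide (s.repB ht) (by decide +kernel)
  have w : ∀ k ∈ s.W0, k * s.e4 = s.e4 * k → ∃ p ∈ ({1, s.v, s.v⁻¹} : Set G), ∃ p' ∈ ({1, s.v, s.v⁻¹} : Set G),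
      ∃ c ∈ ({1, s.a1, s.s3, s.a1 * s.s3} : Set G), k = p * c * p' := s.hL.decide s.rep0 (by decide +kernel)
  have w' : s.a1 * (s.v * (s.m * s.t * s.m) * s.v⁻¹) * (s.v⁻¹ * (s.m * s.t * s.m) * s.v) = s.s3 ∧ s.s1 * s.m ∈ s.W0 ∧
      s.s1 * s.m * (s.m * s.t * s.m) = s.t := s.hL.decide (s.repB ht) (by decide +kernel)
  have X := rt_x4 hφ (mem_cen.2 d.1) d.2 fun g hg hn => by
    rw [show s.f.J ⊔ zpowers s.e4 = s.J from s.J0_sup] at hn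
    have m := nth_mem_clos [s.e1, s.e2, s.e3, s.v, s.a1, s.m * s.t * s.m]
    have m3 : s.s3 ∈ clos [s.e1, s.e2, s.e3, s.v, s.a1, s.m * s.t * s.m] := w'.1 ▸
      mul_mem (mul_mem (m 4) (mul_mem (mul_mem (m 3) (m 5)) (inv_mem (m 3)))) (mul_mem (mul_mem (inv_mem (m 3)) (m 5)) (m 3))
    have k : ∀ j ∈ s.J, ∀ k ∈ s.W0, j * k ∈ centralizer ({s.e4} : Set G) →
        j * k ∈ clos [s.e1, s.e2, s.e3, s.v, s.a1, s.m * s.t * s.m] ⊔ zpowers s.e4 := fun j hj k hk h => by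
      have je : j ∈ centralizer ({s.e4} : Set G) := mem_cen.2 (s.pre.comm j hj _ (mem_clos (by simp)))
      obtain ⟨p, hp, p', hp', c, hc, rfl⟩ := w k hk (mem_cen.1 ((mul_mem_cancel_left je).1 h))
      refine mul_mem ((sup_le_sup_right (clos_le.2 fun x hx => mem_clos (by simp at hx ⊢; tauto)) _ :
        s.J0 ⊔ zpowers s.e4 ≤ _) (s.J0_sup.ge hj)) (mem_sup_left (mul_mem (mul_mem ?_ ?_) ?_))
      · rcases hp with rfl | rfl | rfl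
        exacts [one_mem _, m 3, inv_mem (m 3)]
      · rcases hc with rfl | rfl | rfl | rfl
        exacts [one_mem _, m 4, m3, mul_mem (m 4) m3]
      · rcases hp' with rfl | rfl | rfl
        exacts [one_mem _, m 3, inv_mem (m 3)]
    obtain ⟨j, hj, k', hk, rfl | rfl⟩ := s.nj hn
    · exact k j hj k' hk hg
    · have e : j * k' * s.t = j * (k' * (s.s1 * s.m)) * (s.m * s.t * s.m) := by nth_rw 1 [← w'.2.2]; group
      rw [e] at hg ⊢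
      exact mul_mem (k j hj _ (mul_mem hk w'.2.1) ((mul_mem_cancel_right (mem_cen.2 d.1)).1 hg)) (mem_sup_left (m 5))
  let r := s.f.res _ hφ.le
  let x' : centralizer ({s.e4} : Set G) := ⟨x, x4⟩
  have y3 : φ x' * φ r.c3 = φ r.c3 * φ x' := by
    simpa only [map_mul] using congrArg φ (Subtype.ext x3 : x' * r.c3 = r.c3 * x')
  rcases (X.toQ4 ca.ok hφ.sig' ca.sylS ((centralizer_le_normalizer _).trans ca.normA)
    (ca.centS1.le.trans le_normalizer)).cases6 with h | ⟨s6, e⟩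
  · have n : φ x' ∈ normalizer (hφ.fr.J : Set Q) := h (mem_cen.2 y3)
    rw [hφ.fr_J, hφ.norm_iff hφ.J_le, bot_sup_eq, show s.f.J ⊔ zpowers s.e4 = s.J from s.J0_sup] at n
    refine (x1 (b.2.2.2 x ?_ x2)).elim
    have e : x = ((x * s.k3 * x⁻¹ * s.k3⁻¹ * s.k3⁻¹)⁻¹ * (x * (s.k3 * x * s.k3⁻¹) * (s.k3⁻¹ * x * s.k3)) * s.k3⁻¹) := by
      nth_rw 3 [← inv_eq_of_mul_eq_one_right x2]
      group
    rw [e, h3, mul_one]
    exact mul_mem (inv_mem (mul_mem (mul_mem (conj_mem_of_mem_norm n b.2.2.1) (inv_mem b.2.2.1)) (inv_mem b.2.2.1)))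
      (inv_mem b.2.2.1)
  · have e' : s6.toFr = hφ.fr := by rw [e]; rfl
    have g1 : s6.c1 = φ r.c1 := congrArg Fr.c1 e'
    have g2 : s6.c2 = φ r.c2 := congrArg Fr.c2 e'
    have g3 : s6.c3 = φ r.c3 := congrArg Fr.c3 e'
    have g4 : s6.t = φ r.t := congrArg Fr.t e'
    have h4 : x * ((s.e1 * s.e2)⁻¹ * x * (s.e1 * s.e2)⁻¹⁻¹) * ((s.e1 * s.e2)⁻¹⁻¹ * x * (s.e1 * s.e2)⁻¹) = 1 := h3
    have k := rt_q6 s6 (e' ▸ ca) (g := φ x') (by simpa only [map_mul, map_one] using congrArg φ (Subtype.ext x2 : x' * x' = 1))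
      (by rw [g3]; exact y3) (by rw [g4]; simpa only [map_mul] using congrArg φ (Subtype.ext xr : x' * r.t = r.t * x'))
      (by
        rw [g1, g2]
        simpa only [map_mul, map_inv, map_one] using congrArg φ (Subtype.ext h4 :
          x' * ((r.c1 * r.c2)⁻¹ * x' * (r.c1 * r.c2)⁻¹⁻¹) * ((r.c1 * r.c2)⁻¹⁻¹ * x' * (r.c1 * r.c2)⁻¹) = 1))
    rw [g3] at k
    have q4 : s.q ^ 4 = 1 := by rw [show 4 = 2 * 2 from rfl, pow_mul, pow_two s.q, s.car.q2, pow_two, s.f.t2]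
    have k1 := hφ.comm_lift (x := x') (y := ⟨s.q, sc.q_mem⟩) q4 k.1
    have k2 := hφ.comm_lift (x := x') (y := r.c3 * ⟨s.q, sc.q_mem⟩ * r.c3⁻¹)
      (by push_cast; rw [conj_pow, q4]; group) (by simpa only [map_mul, map_inv] using k.2)
    exact fun k hk => commute_clos (by
      simp only [List.forall_mem_cons, List.not_mem_nil, false_imp_iff, implies_true, and_true]
      exact ⟨k1, k2⟩) k hk

theorem rt_cu {g : G} (h1 : g * s.z = s.z * g) (h2 : g * s.u = s.u * g) : ∃ x ∈ s.T, ∃ p ∈ ({1, s.u, s.u⁻¹} : Set G),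
    g = x * p ∨ g = x * p * s.t := by
  obtain ⟨C, hC⟩ := s.car.cod
  have k1 : ∀ k ∈ s.f.Q1 s.q, ∀ w ∈ s.f.S1, k * w * k⁻¹ = s.f.c1 * s.f.c2⁻¹ →
      w * (s.f.c1 * s.f.c2⁻¹)⁻¹ * s.f.v = s.f.v * (w * (s.f.c1 * s.f.c2⁻¹)⁻¹) → k = 1 :=
    (Fr.hL6 hC).decide hC (by decide +kernel)
  have k2 : ∀ x ∈ s.S, x * s.u * x⁻¹ ∈ s.S1 ∧ x * s.u * x⁻¹ * s.u⁻¹ * s.v = s.v * (x * s.u * x⁻¹ * s.u⁻¹) ∧
      (x * s.u = s.u * x → ∃ p ∈ ({1, s.u, s.u⁻¹} : Set G), x * p⁻¹ ∈ s.T) := s.hL.decide s.rep0 (by decide +kernel)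
  have k3 : s.t * s.u = s.u * s.t := by rcases s.rep with h | h <;> exact s.hL.decide h (by decide +kernel)
  have k4 : ∀ k ∈ s.f.Q1 s.q, ∀ x ∈ s.S, k * x * s.u = s.u * (k * x) → ∃ y ∈ s.T, ∃ p ∈ ({1, s.u, s.u⁻¹} : Set G),
      k * x = y * p := fun k hk x hx e => by
    obtain rfl := k1 k hk _ (k2 x hx).1 (by
      change _ = s.u
      calc _ = k * x * s.u * (k * x)⁻¹ := by group
        _ = _ := by rw [e]; group) (k2 x hx).2.1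
    obtain ⟨p, hp, h⟩ := (k2 x hx).2.2 (by simpa using e)
    exact ⟨_, h, p, hp, by group⟩
  obtain ⟨k, hk, x, hx, rfl | rfl⟩ := s.cz g h1
  · obtain ⟨y, hy, p, hp, e⟩ := k4 k hk x hx h2
    exact ⟨y, hy, p, hp, Or.inl e⟩
  · obtain ⟨y, hy, p, hp, e⟩ := k4 k hk x hx (by
      rw [mul_assoc _ s.t, k3, ← mul_assoc, ← mul_assoc s.u] at h2
      exact mul_right_cancel h2)
    exact ⟨y, hy, p, hp, Or.inr (by rw [e])⟩

theorem cen_u (ht : s.t ≠ 1) : centralizer {s.u} ≤ normalizer (s.J : Set G) := by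
  have b : s.u ^ 3 = 1 ∧ (∀ j ∈ s.J, j * s.u = s.u * j ∧ ∃ p ∈ ({1, s.u, s.u⁻¹} : Set G), j * p⁻¹ ∈ s.J1) ∧ s.J1 ≤ s.J ∧
      s.u ∈ s.J ∧ s.u ∉ s.J1 ∧ s.u⁻¹ ∉ s.J1 ∧ s.y * s.u = s.u * s.y ∧ s.t * s.u = s.u * s.t ∧ s.s3 * s.u = s.u * s.s3 ∧
      s.k1 * s.k2 * s.k3 = s.z⁻¹ ∧ s.z⁻¹ ∈ s.Om ∧ s.u * s.z⁻¹ ∉ s.Om ∧ s.u⁻¹ * s.z⁻¹ ∉ s.Om ∧ s.u * s.z⁻¹ ∈ s.J ∧
      s.u⁻¹ * s.z⁻¹ ∈ s.J := s.hL.decide (s.repB ht) (by decide +kernel)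
  obtain ⟨u3, b1, b2, b3, b4, b5, b6, b7, b8, b9, b10, b11, b12, b13, b14⟩ := b
  have zp : ∀ p ∈ ({1, s.u, s.u⁻¹} : Set G), p ∈ zpowers s.u := by
    rintro p (rfl | rfl | rfl)
    exacts [one_mem _, mem_zpowers _, inv_mem (mem_zpowers _)]
  have eJ : (s.fK ht).J ⊔ zpowers s.u = s.J := le_antisymm (sup_le b2 (zpowers_le.2 b3)) fun j hj => by
    obtain ⟨p, hp, h⟩ := (b1 j hj).2
    simpa using mul_mem (mem_sup_left h : _ ∈ (s.fK ht).J ⊔ zpowers s.u) (mem_sup_right (zp p hp))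
  have m := nth_mem_clos [s.k1, s.k2, s.k3]
  have sc : Sc0 (centralizer {s.u}) ⊥ (zpowers s.u) (s.fK ht) :=
    { sec := ⟨bot_le, fun g _ => mem_normalizer_of_conj_mem fun x hx => by simp [mem_bot.1 hx], by simp⟩
      Z_le := zpowers_le.2 (mem_cen.2 rfl)
      Z_cen := fun z hz g hg => (zc (mem_cen.1 hg) hz).symm
      Z3 := fun z hz => by rcases mem_zpowers_three u3 hz with rfl | rfl | rfl <;> simp [u3]
      le := clos_le.2 (by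
        simp only [List.forall_mem_cons, List.not_mem_nil, false_imp_iff, implies_true, and_true, mem_cen]
        exact ⟨(b1 _ (b2 (m 0))).1, (b1 _ (b2 (m 1))).1, (b1 _ (b2 (m 2))).1, b6, b7⟩)
      inf := eq_bot_iff.2 fun x hx => by
        rcases mem_zpowers_three u3 hx.2 with rfl | rfl | rfl
        exacts [one_mem _, (b4 hx.1).elim, (b5 hx.1).elim]
      sig := fun X hX h3 hn => (s.sig h3 (eJ ▸ sup_le hn (zpowers_le.2 (mem_normalizer_of_conj_mem fun x hx => by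
        rw [← mem_cen.1 (hX hx), mul_inv_cancel_right]; exact hx)))).le }
  obtain ⟨Q, _, _, φ, hφ⟩ := sc.exists_qm
  have hCa := (hφ.cent_eq sc.le (s.fK ht).H_le_C_k fun g hg h => by
    rw [show (s.fK ht).a = s.z⁻¹ from b9] at h
    have c : IsConj s.z⁻¹ (g * s.z⁻¹ * g⁻¹) := isConj_iff.2 ⟨g, rfl⟩
    have e : g * s.z⁻¹ * g⁻¹ = s.z⁻¹ := by
      rcases mem_zpowers_three u3 h with e | e | e
      · exact mul_inv_eq_one.1 e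
      · rw [mul_inv_eq_iff_eq_mul.1 e] at c
        exact (b11 (s.cls_Om b10 b13 c)).elim
      · rw [mul_inv_eq_iff_eq_mul.1 e] at c
        exact (b12 (s.cls_Om b10 b14 c)).elim
    obtain ⟨x, hx, p, hp, e'⟩ := s.rt_cu (comm_inv.1 (mul_inv_eq_iff_eq_mul.1 e)) (mem_cen.1 hg)
    have h1 : x * p ∈ (s.fK ht).H ⊔ (⊥ ⊔ zpowers s.u) := mul_mem (mem_sup_left ((s.fK ht).S_le_H_k hx))
      (mem_sup_right (mem_sup_right (zp p hp)))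
    rcases e' with rfl | rfl
    exacts [h1, mul_mem h1 (mem_sup_left (s.fK ht).t_mem_k)]).trans hφ.fr_H.symm
  have d : s.s3 * s.s3 = 1 ∧ s.s3 * s.k1 * s.s3⁻¹ = s.k1 ∧ s.s3 * s.k2 * s.s3⁻¹ = s.k2 ∧ s.s3 * s.k3 * s.s3⁻¹ = s.k3⁻¹ ∧
      s.s3 * s.t = s.t * s.s3 ∧ s.s3 * (s.y * s.s3 * s.y⁻¹) = s.y * s.s3 * s.y⁻¹ * s.s3 :=
    s.hL.decide (s.repB ht) (by decide +kernel)
  have w : ∀ k ∈ s.W0, k * s.u = s.u * k → ∃ p ∈ ({1, s.y, s.y⁻¹} : Set G), ∃ p1 ∈ ({1, s.s3} : Set G),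
      ∃ p2 ∈ ({1, s.y * s.s3 * s.y⁻¹} : Set G), ∃ p3 ∈ ({1, s.y⁻¹ * s.s3 * s.y} : Set G), k = p * p1 * p2 * p3 :=
    s.hL.decide s.rep0 (by decide +kernel)
  have X := rt_x4 hφ (mem_cen.2 b8) d fun g hg hn => by
    rw [eJ] at hn
    have m := nth_mem_clos [s.k1, s.k2, s.k3, s.y, s.t, s.s3]
    have k : ∀ j ∈ s.J, ∀ k ∈ s.W0, j * k ∈ centralizer ({s.u} : Set G) →
        j * k ∈ clos [s.k1, s.k2, s.k3, s.y, s.t, s.s3] ⊔ zpowers s.u := fun j hj k hk h => by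
      obtain ⟨p, hp, p1, hp1, p2, hp2, p3, hp3, rfl⟩ := w k hk (mem_cen.1 ((mul_mem_cancel_left (mem_cen.2 (b1 j hj).1)).1 h))
      refine mul_mem ((sup_le_sup_right (clos_le.2 fun x hx => mem_clos (by simp at hx ⊢; tauto)) _ :
        (s.fK ht).J ⊔ zpowers s.u ≤ _) (eJ.ge hj)) (mem_sup_left (mul_mem (mul_mem (mul_mem ?_ ?_) ?_) ?_))
      · rcases hp with rfl | rfl | rfl
        exacts [one_mem _, m 3, inv_mem (m 3)]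
      · rcases hp1 with rfl | rfl
        exacts [one_mem _, m 5]
      · rcases hp2 with rfl | rfl
        exacts [one_mem _, mul_mem (mul_mem (m 3) (m 5)) (inv_mem (m 3))]
      · rcases hp3 with rfl | rfl
        exacts [one_mem _, mul_mem (mul_mem (inv_mem (m 3)) (m 5)) (m 3)]
    obtain ⟨j, hj, k', hk, rfl | rfl⟩ := s.nj hn
    exacts [k j hj k' hk hg, mul_mem (k j hj k' hk ((mul_mem_cancel_right (mem_cen.2 b7)).1 hg)) (mem_sup_left (m 4))]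
  rcases rt_cases X hCa hφ.sig' with n | ⟨x, y, hx, hy, hxy⟩
  · intro g hg
    rw [hφ.fr_J] at n
    have := (hφ.norm_iff sc.J_le (x := ⟨g, hg⟩)).1 (le_normalizer_of_normal.trans' le_top (mem_top _))
    rwa [bot_sup_eq, eJ] at this
  exfalso
  let r := (s.fK ht).res _ hφ.le
  let d3 : centralizer ({s.u} : Set G) := ⟨s.s3, mem_cen.2 b8⟩
  have g1 : hφ.fr.v * φ d3 * hφ.fr.v⁻¹ = φ (r.v * d3 * r.v⁻¹) := by rw [map_mul, map_mul, map_inv]; rfl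
  have g2 : hφ.fr.v * φ (r.v * d3 * r.v⁻¹) * hφ.fr.v⁻¹ * φ d3 = φ (r.v * (r.v * d3 * r.v⁻¹) * r.v⁻¹ * d3) := by
    simp only [map_mul, map_inv]; rfl
  rw [g1] at hx hy hxy
  have n : ∃ n ∈ s.W0, n * (s.y * s.s3 * s.y⁻¹) * n⁻¹ = s.a1 ∧ n * s.u * n⁻¹ = s.k1 ∧ n * s.k3 * n⁻¹ = s.k2 ∧
      n * s.k2 * n⁻¹ = s.k3 ∧ s.y * n * (s.y * s.s3 * s.y⁻¹) * (s.y * n)⁻¹ = s.a1 ∧ s.y * n * s.u * (s.y * n)⁻¹ = s.k2 ∧
      s.y * n * s.k2 * (s.y * n)⁻¹ = s.k1 ∧ s.y * n * s.k3 * (s.y * n)⁻¹ = s.k3 ∧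
      ∀ p ∈ ({1, s.u, s.u⁻¹} : Set G), Let (n * (p * (s.y * (s.y * s.s3 * s.y⁻¹) * s.y⁻¹ * s.s3)) ^ 3 * n⁻¹) fun σ =>
        σ * (s.k2 * σ⁻¹ * s.k2⁻¹) = s.k2 := s.hL.decide s.rep0 (by decide +kernel)
  have b : s.y * s.s3 * s.y⁻¹ * (s.y * s.s3 * s.y⁻¹) = 1 ∧ s.k2 ∈ s.J1 ∧ s.k2 ∉ s.V9 ∧ s.y ∈ s.R2 :=
    s.hL.decide s.rep0 (by decide +kernel)
  obtain ⟨n, -, n1, n2, n3, n4, n5, n6, n7, n8, n9⟩ := n
  obtain ⟨A, rfl, a1, a2, a3, a4, a5⟩ := rt_lift hφ (d := r.v * d3 * r.v⁻¹) (c := r.c3) (k := r.c2) b.1 hx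
  obtain ⟨B, rfl, c1, c2, c3, c4, c5⟩ := rt_lift hφ (d := r.v * d3 * r.v⁻¹) (c := r.c2) (k := r.c3) b.1 hy
  have key : ∀ {A n p1 p2 p3 : G}, A * A = 1 → A ≠ 1 → A * (s.y * s.s3 * s.y⁻¹) = s.y * s.s3 * s.y⁻¹ * A → A * p1 = p1 * A →
      A * p2 = p2 * A → A * (p3 * A * p3⁻¹) * (p3⁻¹ * A * p3) = 1 → n * (s.y * s.s3 * s.y⁻¹) * n⁻¹ = s.a1 →
      n * p1 * n⁻¹ = s.k1 → n * p2 * n⁻¹ = s.k2 → n * p3 * n⁻¹ = s.k3 → ∀ k ∈ s.R, n * A * n⁻¹ * k = k * (n * A * n⁻¹) :=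
    fun {A n p1 p2 p3} h1 h2 h3 h4 h5 h6 e0 e1 e2 e3 => s.rt_w ht (by rw [conj_mul, h1]; group)
      (fun e => h2 (conj_eq_one.1 e)) (e0 ▸ comm_cj.2 h3) (e1 ▸ comm_cj.2 h4) (e2 ▸ comm_cj.2 h5) (by
        rw [← e3]
        calc _ = n * (A * (p3 * A * p3⁻¹) * (p3⁻¹ * A * p3)) * n⁻¹ := by group
          _ = 1 := by rw [h6]; group)
  have kA := key a1 a2 a3 (mem_cen.1 A.2) a4 a5 n1 n2 n3 n4
  have kB := key c1 c2 c3 c4 (mem_cen.1 B.2) c5 n5 n7 n6 n8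
  have hp : ((A * B) ^ 3 * (r.v * (r.v * d3 * r.v⁻¹) * r.v⁻¹ * d3)⁻¹ : centralizer ({s.u} : Set G)).1 ∈ zpowers s.u :=
    bot_sup_eq (zpowers s.u) ▸ hφ.eq_one.1 (by rw [map_mul, map_inv, map_pow, map_mul, hxy, g2, mul_inv_cancel])
  have h9 := n9 _ (mem_zpowers_three u3 hp)
  change Let (n * (((A : G) * B) ^ 3 * (s.y * (s.y * s.s3 * s.y⁻¹) * s.y⁻¹ * s.s3)⁻¹ * _) ^ 3 * n⁻¹) _ at h9
  rw [inv_mul_cancel_right, ← conj_pow, ← conj_pow, ← conj_mul] at h9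
  have kσ : ∀ k ∈ s.R, Commute (((n * A * n⁻¹ * (n * B * n⁻¹)) ^ 3) ^ 3) k := fun k hk => by
    have y : Commute s.y k := (s.cR2 k hk _ b.2.2.2).symm
    have := y.inv_left.mul_left ((show Commute _ k from kB k hk).mul_left y)
    rw [show s.y⁻¹ * (s.y * n * B * (s.y * n)⁻¹ * s.y) = n * B * n⁻¹ by group] at this
    exact (((show Commute _ k from kA k hk).mul_left this).pow_left 3).pow_left 3
  refine ((s.fpfR b.2.1).resolve_left b.2.2.1).not_cent s.esR fun k hk => ?_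
  generalize ((n * A * n⁻¹ * (n * B * n⁻¹)) ^ 3) ^ 3 = σ at h9 kσ
  have := (kσ _ (conj_mem_of_mem_norm (inv_mem (s.J1_norm b.2.1)) hk)).inv_left
  have c : Commute (s.k2 * σ⁻¹ * s.k2⁻¹) k := by
    calc _ = s.k2 * (σ⁻¹ * (s.k2⁻¹ * k * s.k2⁻¹⁻¹)) * s.k2⁻¹ := by group
      _ = _ := by rw [this.eq]; group
  exact (show σ * (s.k2 * σ⁻¹ * s.k2⁻¹) = s.k2 from h9) ▸ ((kσ k hk).mul_left c).eq

theorem cen_root (ht : s.t ≠ 1) {x : G} (hx : x ∈ s.Lg) : centralizer {x} ≤ normalizer (s.J : Set G) := by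
  obtain ⟨g, hg, rfl⟩ := hx
  exact cent_conj_le (inv_mem (s.W0_le (s.eW_le hg))) (by group) (s.cen_u ht)

end Lo

end Cfsg.Agent.Tr8
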