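import Mathlib
import Cfsg.Agent.Tr8.Rt
import Cfsg.Agent.T3.Eka

/-! The four quaternion groups commute; the extraspecial group `E` of order `2^9`. -/

set_option autoImplicit false
set_option linter.unusedSectionVars false
set_option synthInstance.maxSize 100000
set_option synthInstance.maxHeartbeats 1000000
set_option maxRecDepth 100000

namespace Cfsg.Agent.Tr8

open Cfsg.Agent.Spor Cfsg.Agent.Rec Cfsg.Agent.Inv.Fz Cfsg.Agent.T16 Cfsg.Agent.T3 Cfsg.Agent.T3.LB Subgroup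

universe u

variable {G : Type u} [Group G] [Finite G]

theorem eka_fin {P : Fin 4 → Prop} (h : P 0 ∧ P 1 ∧ P 2 ∧ P 3) (i : Fin 4) : P i := by
  fin_cases i
  exacts [h.1, h.2.1, h.2.2.1, h.2.2.2]

theorem eka_conj (g x : G) : IsConj x (g * x * g⁻¹) := isConj_iff.2 ⟨g, rfl⟩

namespace Lo

variable (s : Lo G)

theorem eka_Rn0 : s.Rn 0 = s.R := cj_one _

theorem eka_zn0 : s.zn 0 = s.z := by change 1 * s.z * 1⁻¹ = s.z; simp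

theorem eka_J : (∀ x ∈ s.J, x ^ 3 = 1) ∧ (∀ x ∈ s.J, ∀ y ∈ s.J, x * y = y * x) ∧ s.J1 ≤ s.J ∧ s.e4 ∈ s.J ∧ s.e3 ∈ s.J ∧
    s.z ∈ s.J ∧ ∀ x ∈ s.J, x * s.a1 = s.a1 * x → x ∈ s.J1 :=
  ⟨s.pre.exp, s.pre.comm, s.hL.decide s.rep0 (by decide +kernel)⟩

theorem eka_Z {x : G} (h : x ∈ zpowers s.e4) : x = 1 ∨ x = s.e4 ∨ x = s.e4⁻¹ :=
  mem_zpowers_three (s.eka_J.1 _ s.eka_J.2.2.2.1) h

theorem eka_iv (ht : s.t = 1) : ¬ Iv (centralizer {s.e4}) (zpowers s.e4) s.f := by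
  rintro ⟨g, hg, h⟩
  have hZ : zpowers s.e4 ≤ s.J := zpowers_le.2 s.eka_J.2.2.2.1
  have h0 : s.J0 ≤ s.J := s.J0_sup ▸ le_sup_left
  have hN : g ∈ normalizer (s.J : Set G) := cj_eq_iff.1 (cj_eq_of_le (by
    nth_rw 1 [← s.J0_sup]
    rw [cj_sup, cj_zpowers, mem_cen'.1 hg]
    exact sup_le (cj_le_iff.2 fun x hx => (mul_mem_cancel_right (h0 hx)).1 (hZ (h x hx))) hZ))
  obtain ⟨j, hj, k, hk, e⟩ := s.nj hN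
  obtain rfl : g = j * k := by simpa [ht] using e
  have a : ∀ x ∈ s.J, j * k * x * (j * k)⁻¹ = k * x * k⁻¹ := fun x hx => by
    rw [show j * k * x * (j * k)⁻¹ = j * (k * x * k⁻¹) * j⁻¹ by group,
      s.eka_J.2.1 j hj _ (conj_mem_of_mem_norm (s.W0_le hk) hx), mul_inv_cancel_right]
  have b : ∀ k ∈ s.W0, k * s.e4 * k⁻¹ = s.e4 → ¬ ∀ x ∈ s.J0, Let (k * x * k⁻¹ * x) fun y =>
      y = 1 ∨ y = s.e4 ∨ y = s.e4⁻¹ := s.hL.decide s.rep0 (by decide +kernel)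
  exact b k hk (a _ s.eka_J.2.2.2.1 ▸ mem_cen'.1 hg) fun x hx => s.eka_Z (a x (h0 hx) ▸ h x hx)

theorem eka_hc (ht : s.t ≠ 1) : Hc (centralizer {s.e4}) ⊥ (zpowers s.e4) s.f := by
  obtain ⟨C, hC⟩ := s.car.cod
  have a : ∀ p ∈ s.f.R, ∃ k ∈ s.f.Q1 s.q, k * p * k⁻¹ ∈ s.f.S1 := (Fr.hL6 hC).decide hC (by decide +kernel)
  have b : s.e3 ∈ s.J0 ∧ s.e4 ∈ s.R2 ∧ s.S1 ≤ s.J ∧ s.S1 ≤ s.Q ∧ s.e4 ∈ s.Q ∧ s.e3 ∈ s.Sh ∧ s.e3 * s.e4 ∈ s.Lg ∧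
      s.e3 * s.e4⁻¹ ∈ s.Lg ∧ (∀ x ∈ s.J, x ∈ s.Q → x ∈ s.Sh → x * s.e4 ∈ s.Lg → x * s.e4⁻¹ ∉ s.Lg) ∧
      s.e4 * s.e3 ∉ s.Sh ∧ s.e4⁻¹ * s.e3 ∉ s.Sh ∧ ∀ p ∈ s.R1, s.e4 * p * s.e4⁻¹ = p :=
    s.hL.decide s.rep0 (by decide +kernel)
  obtain ⟨b1, b2, b3, b4, b5, b6, b7, b8, b9, b10, b11, b12⟩ := b
  obtain ⟨-, -, -, j4, j3, -⟩ := s.eka_J
  refine ⟨s.e3, b1, fun g hg h => ?_, fun g hg h => mem_sup_right ⟨hg, ?_⟩⟩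
  · rw [sup_comm] at h
    obtain ⟨c, hc, p, hp, e⟩ := (mem_sup_iff_of_le_normalizer (zpowers_le.2 (mem_normalizer_of_conj_mem
      fun p hp => (b12 p hp).symm ▸ hp))).1 h
    obtain ⟨k, hk, h1⟩ := a p hp
    have h2 : k ∈ centralizer {s.e4} := mem_cen.2 (s.cR2 k hk _ b2)
    have h3 : k * c * k⁻¹ = c := by
      obtain ⟨i, rfl⟩ := hc
      exact mul_inv_eq_iff_eq_mul.2 (Commute.zpow_right (mem_cen.1 h2) i).eq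
    have h4 : k * g * s.e3 * (k * g)⁻¹ = c * (k * p * k⁻¹) := by
      rw [← h3, conj_mul, ← e]; group
    have h5 := mem_cen'.1 (mul_mem h2 hg)
    have h6 : k * g * s.e3 * (k * g)⁻¹ ∈ s.J := h4 ▸ mul_mem (zpowers_le.2 j4 hc) (b3 h1)
    refine b9 _ h6 (h4 ▸ mul_mem (zpowers_le.2 b5 hc) (b4 h1)) (s.cls_Sh b6 h6 (eka_conj _ _))
      (s.cls_Lg b7 (mul_mem h6 j4) ?_) (s.cls_Lg b8 (mul_mem h6 (inv_mem j4)) ?_)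
    · nth_rw 2 [← h5]
      rw [conj_mul]; exact eka_conj _ _
    · nth_rw 2 [← h5]
      rw [conj_inv, conj_mul]; exact eka_conj _ _
  · have h1 := s.cls_Sh b6 ((mul_mem_cancel_right (inv_mem j3)).1 (zpowers_le.2 j4 h)) (eka_conj g _)
    have h2 : g * s.e3 * g⁻¹ = s.e3 := by
      rcases s.eka_Z h with e | e | e <;> rw [mul_inv_eq_iff_eq_mul] at e
      exacts [by rw [e, one_mul], absurd (e ▸ h1) b10, absurd (e ▸ h1) b11]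
    exact s.J0_sup.symm ▸ s.cen_root ht b7 (mem_cen'.2 (by rw [← conj_mul, h2, mem_cen'.1 hg]))

/-- The centraliser of `e₄` in `K`. -/
theorem eka_four : (∀ x ∈ s.Rn 0, ∀ y ∈ s.Rn 3, x * y = y * x) ∧ s.K ⊓ centralizer {s.e4} ≤ s.M := by
  obtain ⟨n, n1, n2, n3, n4, n5, n6⟩ := s.sc4.cent_t s.mv4 ((eq_or_ne s.t 1).imp s.eka_iv s.eka_hc)
  change n ∈ normalizer ((s.J0 ⊔ zpowers s.e4 : Subgroup G) : Set G) at n3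
  rw [s.J0_sup] at n3
  have a : s.z ∈ s.Om ∧ s.z * s.e4 ∈ s.Sh ∧ s.z * s.a1 = s.a1 * s.z ∧ ∀ x ∈ s.J1, x ∈ s.Om → x * s.e4 ∈ s.Sh →
      (x = s.z ∨ x = s.z⁻¹) ∨ x = s.s3 * s.z * s.s3⁻¹ ∨ x = (s.s3 * s.z * s.s3⁻¹)⁻¹ ∨ x * s.e4⁻¹ ∉ s.Sh :=
    s.hL.decide s.rep0 (by decide +kernel)
  have a' : s.z * s.e4⁻¹ ∈ s.Sh := s.hL.decide s.rep0 (by decide +kernel)
  obtain ⟨-, -, -, j4, -, jz, j1⟩ := s.eka_J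
  have hK : n ∈ s.K := mem_cen.2 n2
  have h1 := conj_mem_of_mem_norm n3 jz
  have h2 := mem_cen'.1 n1
  have h3 : cj n (s.Rn 0) = s.Rn 3 := by
    refine s.Rn_cj hK ?_
    rw [s.eka_zn0]
    rcases a.2.2.2 _ (j1 _ h1 (mem_cen.1 (mul_mem (mul_mem hK (mem_cen.2 a.2.2.1)) (inv_mem hK))))
      (s.cls_Om a.1 h1 (eka_conj _ _)) (s.cls_Sh a.2.1 (mul_mem h1 j4) (by
        nth_rw 2 [← h2]
        rw [conj_mul]; exact eka_conj _ _)) with (e | e) | e | e | e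
    · exact absurd (mem_sup_left (e.symm ▸ mem_zpowers s.z)) n4
    · exact absurd (mem_sup_left (e.symm ▸ inv_mem (mem_zpowers s.z))) n4
    · exact .inl e
    · exact .inr e
    · refine absurd (s.cls_Sh a' (mul_mem h1 (inv_mem j4)) ?_) e
      nth_rw 2 [← h2]
      rw [conj_inv, conj_mul]; exact eka_conj _ _
  rw [s.eka_Rn0] at h3
  change ∀ x ∈ s.R, ∀ y ∈ cj n s.R, _ at n5
  refine ⟨by rw [s.eka_Rn0, ← h3]; exact n5, fun g hg => ?_⟩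
  obtain ⟨e, he, m, -, m1, m2, rfl⟩ := n6 g hg.2 (mem_cen.1 hg.1)
  change e ∈ s.R ⊔ cj n s.R at he
  change m ∈ normalizer ((s.J0 ⊔ zpowers s.e4 : Subgroup G) : Set G) at m2
  rw [s.J0_sup] at m2
  rw [h3, ← s.eka_Rn0] at he
  exact mul_mem (mem_sup_left (sup_le (s.Rn_le 0) (s.Rn_le 3) he)) (mem_sup_right (s.NK_eq.ge ⟨mem_cen.2 m1, m2⟩))

theorem eka_comm (i j : Fin 4) (h : i ≠ j) : ∀ x ∈ s.Rn i, ∀ y ∈ s.Rn j, x * y = y * x := by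
  have a : ∀ x ∈ s.J1, ∀ y ∈ s.J1, x ∈ s.Om → y ∈ s.Om → x ≠ y ∧ x ≠ y⁻¹ → ∃ g ∈ s.WK,
      (g * s.z * g⁻¹ = x ∨ g * s.z * g⁻¹ = x⁻¹) ∧ (g * (s.s3 * s.z * s.s3⁻¹) * g⁻¹ = y ∨
        g * (s.s3 * s.z * s.s3⁻¹) * g⁻¹ = y⁻¹) := s.hL.decide s.rep0 (by decide +kernel)
  have b : ∀ i, s.zn i ∈ s.Om := eka_fin (show 1 * s.z * 1⁻¹ ∈ s.Om ∧ s.s1 * s.z * s.s1⁻¹ ∈ s.Om ∧
    s.m * s.z * s.m⁻¹ ∈ s.Om ∧ s.s3 * s.z * s.s3⁻¹ ∈ s.Om from s.hL.decide s.rep0 (by decide +kernel))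
  have c : Let (1 * s.z * 1⁻¹) fun z0 => Let (s.s1 * s.z * s.s1⁻¹) fun z1 => Let (s.m * s.z * s.m⁻¹) fun z2 =>
      Let (s.s3 * s.z * s.s3⁻¹) fun z3 =>
      ((z0 ≠ z1 ∧ z0 ≠ z1⁻¹) ∧ (z0 ≠ z2 ∧ z0 ≠ z2⁻¹) ∧ (z0 ≠ z3 ∧ z0 ≠ z3⁻¹)) ∧
      ((z1 ≠ z0 ∧ z1 ≠ z0⁻¹) ∧ (z1 ≠ z2 ∧ z1 ≠ z2⁻¹) ∧ (z1 ≠ z3 ∧ z1 ≠ z3⁻¹)) ∧
      ((z2 ≠ z0 ∧ z2 ≠ z0⁻¹) ∧ (z2 ≠ z1 ∧ z2 ≠ z1⁻¹) ∧ (z2 ≠ z3 ∧ z2 ≠ z3⁻¹)) ∧
      ((z3 ≠ z0 ∧ z3 ≠ z0⁻¹) ∧ (z3 ≠ z1 ∧ z3 ≠ z1⁻¹) ∧ (z3 ≠ z2 ∧ z3 ≠ z2⁻¹)) := s.hL.decide s.rep0 (by decide +kernel)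
  have d : ∀ i j, i ≠ j → s.zn i ≠ s.zn j ∧ s.zn i ≠ (s.zn j)⁻¹ := eka_fin
    ⟨eka_fin ⟨fun e => absurd rfl e, fun _ => c.1.1, fun _ => c.1.2.1, fun _ => c.1.2.2⟩,
      eka_fin ⟨fun _ => c.2.1.1, fun e => absurd rfl e, fun _ => c.2.1.2.1, fun _ => c.2.1.2.2⟩,
      eka_fin ⟨fun _ => c.2.2.1.1, fun _ => c.2.2.1.2.1, fun e => absurd rfl e, fun _ => c.2.2.1.2.2⟩,
      eka_fin ⟨fun _ => c.2.2.2.1, fun _ => c.2.2.2.2.1, fun _ => c.2.2.2.2.2, fun e => absurd rfl e⟩⟩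
  obtain ⟨g, hg, h1, h2⟩ := a _ (s.zn_mem i) _ (s.zn_mem j) (b i) (b j) (d i j h)
  rw [← s.Rn_cj (s.WK_le hg).1 (i := 0) (by rwa [s.eka_zn0]), ← s.Rn_cj (s.WK_le hg).1 (i := 3) h2]
  exact ek_cj s.eka_four.1 g

theorem eka_c2 : ∀ x ∈ s.Rn 0 ⊔ s.Rn 1, ∀ y ∈ s.Rn 2, x * y = y * x :=
  ek_sup (s.eka_comm 0 2 (by decide)) (s.eka_comm 1 2 (by decide))

theorem eka_c3 : ∀ x ∈ s.Rn 0 ⊔ s.Rn 1 ⊔ s.Rn 2, ∀ y ∈ s.Rn 3, x * y = y * x :=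
  ek_sup (ek_sup (s.eka_comm 0 3 (by decide)) (s.eka_comm 1 3 (by decide))) (s.eka_comm 2 3 (by decide))

theorem eka_es : ES2 s.E s.r ∧ Nat.card s.E = 512 := by
  have k : ∀ i, Nat.card (s.Rn i) = 8 := fun i => (card_cj _ _).trans s.cardR
  obtain ⟨a1, b1, -⟩ := es2_sup (s.esRn 0) (s.esRn 1) (s.eka_comm 0 1 (by decide))
  obtain ⟨a2, b2, -⟩ := es2_sup a1 (s.esRn 2) s.eka_c2
  obtain ⟨a3, b3, -⟩ := es2_sup a2 (s.esRn 3) s.eka_c3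
  rw [k, k] at b1
  rw [k] at b2 b3
  exact ⟨a3, by unfold E; omega⟩

theorem eka_nE : s.NK ≤ normalizer (s.E : Set G) := fun g hg => cj_eq_iff.1 (cj_eq_of_le (by
  have k : ∀ i, cj g (s.Rn i) ≤ s.E := fun i => (s.perm hg i).elim fun j e => e ▸ s.Rn_le j
  nth_rw 1 [E]
  rw [cj_sup, cj_sup, cj_sup]
  exact sup_le (sup_le (sup_le (k 0) (k 1)) (k 2)) (k 3)))

theorem eka_nRn {j : G} (hj : j ∈ s.J1) (i : Fin 4) : j ∈ normalizer (s.Rn i : Set G) :=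
  cj_eq_iff.1 (s.Rn_cj (s.J1_le hj).1 (.inl (by
    rw [s.eka_J.2.1 j (s.eka_J.2.2.1 hj) _ (s.eka_J.2.2.1 (s.zn_mem i)), mul_inv_cancel_right])))

theorem eka_fpf {j : G} (hj : j ∈ s.J1) (i : Fin 4) (h : (s.sn i)⁻¹ * j * s.sn i ∉ s.V9) : Fpf (s.Rn i) s.r j := by
  have h1 := s.WK_le (s.sn_mem i)
  have h2 := conj_mem_of_mem_norm (inv_mem h1.2) hj
  rw [inv_inv] at h2
  have h3 := ((s.fpfR h2).resolve_left h).cj (mem_cen'.1 h1.1)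
  rwa [show s.sn i * ((s.sn i)⁻¹ * j * s.sn i) * (s.sn i)⁻¹ = j by group] at h3

theorem eka_norm_sup {A B : Subgroup G} {y : G} (hA : y ∈ normalizer (A : Set G)) (hB : y ∈ normalizer (B : Set G)) :
    y ∈ normalizer ((A ⊔ B : Subgroup G) : Set G) := normalizer_inf_normalizer_le_normalizer_sup A B ⟨hA, hB⟩

theorem eka_fpfE {j : G} (hj : j ∈ s.J1) (h : 1⁻¹ * j * 1 ∉ s.V9 ∧ s.s1⁻¹ * j * s.s1 ∉ s.V9 ∧ s.m⁻¹ * j * s.m ∉ s.V9 ∧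
    s.s3⁻¹ * j * s.s3 ∉ s.V9) : Fpf s.E s.r j := by
  have j3 := s.eka_J.1 j (s.eka_J.2.2.1 hj)
  have c1 := s.eka_comm 0 1 (by decide)
  have a1 := (es2_sup (s.esRn 0) (s.esRn 1) c1).1
  have n1 := eka_norm_sup (s.eka_nRn hj 0) (s.eka_nRn hj 1)
  exact (((s.eka_fpf hj 0 h.1).sup (s.esRn 0) (s.esRn 1) c1 j3 (s.eka_nRn hj 0) (s.eka_nRn hj 1)
    (s.eka_fpf hj 1 h.2.1)).sup a1 (s.esRn 2) s.eka_c2 j3 n1 (s.eka_nRn hj 2) (s.eka_fpf hj 2 h.2.2.1)).sup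
    (es2_sup a1 (s.esRn 2) s.eka_c2).1 (s.esRn 3) s.eka_c3 j3 (eka_norm_sup n1 (s.eka_nRn hj 2)) (s.eka_nRn hj 3)
    (s.eka_fpf hj 3 h.2.2.2)

theorem eka_k : Fpf s.E s.r s.k1 ∧ Fpf s.E s.r s.k2 ∧ Fpf s.E s.r s.k3 :=
  ⟨s.eka_fpfE (mem_clos (by simp)) (s.hL.decide s.rep0 (by decide +kernel)),
    s.eka_fpfE (mem_clos (by simp)) (s.hL.decide s.rep0 (by decide +kernel)),
    s.eka_fpfE (mem_clos (by simp)) (s.hL.decide s.rep0 (by decide +kernel))⟩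

theorem eka_cz (i : Fin 4) (x : G) (hx : x ∈ s.E) (h : x * s.zn i = s.zn i * x) : x ∈ s.Rn i := by
  have a : s.s1⁻¹ * s.z * s.s1 ∉ s.V9 ∧ s.m⁻¹ * s.z * s.m ∉ s.V9 ∧ s.s3⁻¹ * s.z * s.s3 ∉ s.V9 :=
    s.hL.decide s.rep0 (by decide +kernel)
  have hz : s.z ∈ s.J1 := s.eka_zn0 ▸ s.zn_mem 0
  have z3 := s.eka_J.1 _ (s.eka_J.2.2.1 hz)
  have c2 := s.eka_comm 1 2 (by decide)
  have c3 := ek_sup (s.eka_comm 1 3 (by decide)) (s.eka_comm 2 3 (by decide))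
  have h1 : Fpf (s.Rn 1 ⊔ s.Rn 2 ⊔ s.Rn 3) s.r s.z :=
    ((s.eka_fpf hz 1 a.1).sup (s.esRn 1) (s.esRn 2) c2 z3 (s.eka_nRn hz 1) (s.eka_nRn hz 2) (s.eka_fpf hz 2 a.2.1)).sup
      (es2_sup (s.esRn 1) (s.esRn 2) c2).1 (s.esRn 3) c3 z3 (eka_norm_sup (s.eka_nRn hz 1) (s.eka_nRn hz 2))
      (s.eka_nRn hz 3) (s.eka_fpf hz 3 a.2.2)
  have h2 := conj_mem_of_mem_norm (s.eka_nE (inv_mem (s.WK_le (s.sn_mem i)))) hx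
  have h3 : (s.sn i)⁻¹ * x * s.sn i * s.z = s.z * ((s.sn i)⁻¹ * x * s.sn i) := by
    calc _ = (s.sn i)⁻¹ * (x * s.zn i) * s.sn i := by rw [zn]; group
      _ = _ := by rw [h, zn]; group
  rw [inv_inv, E, sup_assoc, sup_assoc, ← sup_assoc (s.Rn 1)] at h2
  obtain ⟨b, hb, c, hc, e⟩ := (mem_sup_iff_of_le_normalizer (ek_norm fun x hx y hy => (ek_sup (ek_sup
    (s.eka_comm 1 0 (by decide)) (s.eka_comm 2 0 (by decide))) (s.eka_comm 3 0 (by decide)) y hy x hx).symm)).1 h2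
  rw [s.eka_Rn0] at hb
  rw [e] at h3
  rw [Rn, mem_cj, e]
  refine mul_mem hb ?_
  rcases h1 c hc (mul_left_cancel (a := b) (by rw [← mul_assoc, s.cRz b hb, mul_assoc, ← h3, mul_assoc])) with rfl | rfl
  exacts [one_mem _, s.esR.z_mem]

end Lo

end Cfsg.Agent.Tr8
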