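import Mathlib
import Cfsg.Agent.Tr8.EkA
import Cfsg.Agent.T16.Kit3B

/-! The extraspecial group `E`: signalizers, centralisers of elements of `J₁` in `K`. -/

set_option autoImplicit false
set_option linter.unusedSectionVars false
set_option synthInstance.maxSize 100000
set_option synthInstance.maxHeartbeats 1000000
set_option maxRecDepth 100000

namespace Cfsg.Agent.Tr8

open Cfsg.Agent.Spor Cfsg.Agent.Rec Cfsg.Agent.Inv.Fz Cfsg.Agent.T16 Cfsg.Agent.T3 Cfsg.Agent.T3.LB Subgroup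
open scoped commutatorElement

universe u

variable {G : Type u} [Group G] [Finite G]

theorem ekb_three {E : Subgroup G} {e d : G} (he : e ∈ E) (hd : d ∈ normalizer (E : Set G)) (h3 : d ^ 3 = 1)
    (ho : (orderOf (e * d)).Coprime 3) : d ∈ E := by
  have h := ek_pow he hd (orderOf (e * d))
  rw [pow_orderOf_eq_one, one_mul, inv_mem_iff] at h
  exact GT.Tr.mem_of_pow_mem_of_coprime h (ho.symm.coprime_dvd_left (orderOf_dvd_of_pow_eq_one h3))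

theorem ekb_two {x : G} (h : x * x = 1) : (orderOf x).Coprime 3 :=
  Nat.Coprime.coprime_dvd_left (orderOf_dvd_of_pow_eq_one (n := 2) (by rw [pow_two, h])) (by norm_num)

theorem ekb_four {C H : Subgroup G} {a b c : G} (ha : a ∈ H) (hb : b ∈ H) (hc : c ∈ H)
    (h : a ∉ C ∧ b ∉ C ∧ c ∉ C ∧ a⁻¹ * b ∉ C ∧ a⁻¹ * c ∉ C ∧ b⁻¹ * c ∉ C)
    (cov : ∀ g ∈ H, g ∈ C ∨ a⁻¹ * g ∈ C ∨ b⁻¹ * g ∈ C ∨ c⁻¹ * g ∈ C) : C.relIndex H = 4 := by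
  have k : ∀ x y : H, ((x : H ⧸ C.subgroupOf H) = y) ↔ (x : G)⁻¹ * y ∈ C := fun x y => QuotientGroup.eq
  rw [relIndex, index, ← Set.ncard_univ, Set.ncard_eq_four]
  refine ⟨((1 : H) : H ⧸ C.subgroupOf H), ((⟨a, ha⟩ : H) : H ⧸ C.subgroupOf H), ((⟨b, hb⟩ : H) : H ⧸ C.subgroupOf H),
    ((⟨c, hc⟩ : H) : H ⧸ C.subgroupOf H), ?_, ?_, ?_, ?_, ?_, ?_, (Set.eq_univ_of_forall fun q => ?_).symm⟩
  · simpa [k] using h.1
  · simpa [k] using h.2.1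
  · simpa [k] using h.2.2.1
  · simpa [k] using h.2.2.2.1
  · simpa [k] using h.2.2.2.2.1
  · simpa [k] using h.2.2.2.2.2
  · obtain ⟨g, rfl⟩ := QuotientGroup.mk_surjective q
    simp only [Set.mem_insert_iff, Set.mem_singleton_iff, eq_comm (a := (g : H ⧸ C.subgroupOf H)), k]
    simpa using cov g g.2

namespace Lo

variable (s : Lo G)

theorem ekb_mem {g : G} (hg : g ∈ s.M) : ∃ e ∈ s.E, ∃ m ∈ s.NK, g = e * m := by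
  rw [M, sup_comm] at hg
  obtain ⟨m, hm, e, he, rfl⟩ := (mem_sup_iff_of_le_normalizer s.eka_nE).1 hg
  exact ⟨_, conj_mem_of_mem_norm (s.eka_nE hm) he, m, hm, by group⟩

theorem ekb_k : s.k1 ∈ s.J1 ∧ s.k2 ∈ s.J1 ∧ s.k3 ∈ s.J1 := ⟨mem_clos (by simp), mem_clos (by simp), mem_clos (by simp)⟩

theorem ekb_r : s.r ∈ s.NK := s.WK_le (mem_clos (by simp))

theorem ekb_cJ1 {g : G} (hg : g ∈ s.K) (h1 : g * s.k1 = s.k1 * g) (h2 : g * s.k2 = s.k2 * g) (h3 : g * s.k3 = s.k3 * g) :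
    g ∈ s.J1 ∨ g * s.r ∈ s.J1 :=
  (s.cJ1 h1 h2 h3).imp (s.eka_J.2.2.2.2.2.2 _ · (mem_cen.1 hg))
    (s.eka_J.2.2.2.2.2.2 _ · (mem_cen.1 (mul_mem hg s.ekb_r.1)))

/-- Signalizers inside `M`. -/
theorem ekb_X {X : Subgroup G} (h3 : (Nat.card X).Coprime 3) (hn : s.J1 ≤ normalizer (X : Set G)) {x : G} (hx : x ∈ X)
    (hM : x ∈ s.M) : x ∈ s.E := by
  obtain ⟨e, he, m, hm, rfl⟩ := s.ekb_mem hM
  have hE := s.eka_es.1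
  have o3 : ∀ y ∈ X, (orderOf y).Coprime 3 := fun y hy => h3.coprime_dvd_left (X.orderOf_dvd_natCard hy)
  have jN : s.J1 ≤ normalizer (s.E : Set G) := s.J1_le.trans s.eka_nE
  have j3 : ∀ j ∈ s.J1, j ^ 3 = 1 := fun j hj => s.eka_J.1 j (s.eka_J.2.2.1 hj)
  have k : ∀ j ∈ s.J1, m * j = j * m := fun j hj => by
    have h1 : j * (m * j⁻¹ * m⁻¹) ∈ s.J1 := mul_mem hj (conj_mem_of_mem_norm hm.2 (inv_mem hj))
    obtain ⟨d, hd⟩ : ∃ d, d = j * (m * j⁻¹ * m⁻¹) := ⟨_, rfl⟩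
    rw [← hd] at h1
    have h2 : j * e * j⁻¹ * (d * e⁻¹ * d⁻¹) * d ∈ X := by
      convert mul_mem (conj_mem_of_mem_norm (hn hj) hx) (inv_mem hx) using 1
      rw [hd]; group
    have h4 := ek_three hE (ekb_three (mul_mem (conj_mem_of_mem_norm (jN hj) he)
      (conj_mem_of_mem_norm (jN h1) (inv_mem he))) (jN h1) (j3 d h1) (o3 _ h2)) (j3 d h1)
    exact (Commute.inv_right_iff.1 (mul_inv_eq_iff_eq_mul.1 (eq_inv_of_mul_eq_one_right (hd ▸ h4)))).eq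
  rcases s.ekb_cJ1 hm.1 (k _ s.ekb_k.1) (k _ s.ekb_k.2.1) (k _ s.ekb_k.2.2) with h | h
  · exact mul_mem he (ekb_three he (jN h) (j3 _ h) (o3 _ hx))
  · have h1 : e * m = e * s.r * (m * s.r) := by
      rw [mem_cen.1 hm.1, mul_assoc e, ← mul_assoc s.r, hE.z_sq, one_mul]
    rw [h1] at hx ⊢
    exact mul_mem (mul_mem he hE.z_mem) (ekb_three (mul_mem he hE.z_mem) (jN h) (j3 _ h) (o3 _ hx))

theorem ekb_z : s.K ⊓ centralizer {s.z} ≤ s.M := fun g hg => by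
  obtain ⟨k, hk, x, hx, e⟩ := s.cKz hg.1 (mem_cen.1 hg.2)
  have h1 : k * x ∈ s.M := mul_mem (mem_sup_left (s.Rn_le 0 (s.eka_Rn0 ▸ hk))) (mem_sup_right (s.T_le hx))
  rcases e with rfl | rfl
  exacts [h1, mul_mem h1 (mem_sup_right s.t_mem)]

theorem ekb_cj {g j : G} (hg : g ∈ s.WK) (h : s.K ⊓ centralizer {g * j * g⁻¹} ≤ s.M) : s.K ⊓ centralizer {j} ≤ s.M := by
  rwa [← cj_centralizer_singleton, ← cj_eq_of_mem (s.WK_le hg).1, ← cj_inf,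
    ← cj_eq_of_mem (show g ∈ s.M from mem_sup_right (s.WK_le hg)), cj_le_cj] at h

theorem ekb_sig (X : Subgroup G) (hX : X ≤ s.K) (h3 : (Nat.card X).Coprime 3) (hn : s.J1 ≤ normalizer (X : Set G)) :
    X ≤ s.E := by
  have a : s.V9 ≤ s.J1 ∧ ∀ j ∈ s.V9, j ≠ 1 → ∃ g ∈ s.WK, g * j * g⁻¹ = s.z ∨ g * j * g⁻¹ = s.e4 :=
    s.hL.decide s.rep0 (by decide +kernel)
  have b := a.1.trans s.eka_J.2.2.1
  refine le_of_nine s.gV9.2 (fun y hy => s.eka_J.1 y (b hy)) (fun y hy z hz => s.eka_J.2.1 y (b hy) z (b hz))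
    (a.1.trans hn) h3 fun y hy y1 k hk e => s.ekb_X h3 hn hk ?_
  obtain ⟨g, hg, h | h⟩ := a.2 y hy y1
  exacts [s.ekb_cj hg (h ▸ s.ekb_z) ⟨hX hk, mem_cen.2 e⟩, s.ekb_cj hg (h ▸ s.eka_four.2) ⟨hX hk, mem_cen.2 e⟩]

theorem ekb_M3 {g : G} (hg : g ∈ s.M) (h : g * s.k3 = s.k3 * g) : g ∈ s.NK := by
  obtain ⟨e, he, m, hm, rfl⟩ := s.ekb_mem hg
  have h1 := conj_mem_of_mem_norm hm.2 s.ekb_k.2.2
  have h2 : e * (m * s.k3 * m⁻¹) * e⁻¹ = s.k3 := by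
    nth_rw 2 [← mul_inv_eq_iff_eq_mul.2 h]
    group
  obtain ⟨d, hd⟩ : ∃ d, d = m * s.k3 * m⁻¹ := ⟨_, rfl⟩
  rw [← hd] at h1 h2
  have h3 : d⁻¹ * s.k3 = 1 := ek_three s.eka_es.1 (by
    rw [← h2]
    convert mul_mem (conj_mem_of_mem_norm (s.eka_nE (s.J1_le (inv_mem h1))) he) (inv_mem he) using 1
    group) (s.eka_J.1 _ (s.eka_J.2.2.1 (mul_mem (inv_mem h1) s.ekb_k.2.2)))
  rw [inv_mul_eq_one.1 h3] at h2
  rcases s.eka_k.2.2 e he (mul_inv_eq_iff_eq_mul.1 h2).symm with rfl | rfl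
  exacts [(one_mul m).symm ▸ hm, mul_mem s.ekb_r hm]

theorem ekb_k3 (ht : s.t = 1) : s.K ⊓ centralizer {s.k3} ≤ s.NK := by
  have := Fact.mk Nat.prime_three
  obtain ⟨L, hL⟩ : ∃ L, L = s.K ⊓ centralizer {s.k3} := ⟨_, rfl⟩
  have mL : ∀ {g}, g ∈ L ↔ g * s.a1 = s.a1 * g ∧ g * s.k3 = s.k3 * g := by
    rw [hL]; exact and_congr mem_cen mem_cen
  have a : (∀ k ∈ s.WK, k * s.k3 = s.k3 * k → k * k = 1 ∧ (∀ j ∈ s.J1, j * (k * j⁻¹ * k⁻¹) ∈ s.B9) ∧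
      ((∀ b ∈ s.B9, b * k = k * b) ∨ (∀ b ∈ s.B9, b * (s.s1⁻¹ * k) = s.s1⁻¹ * k * b) ∨
        (∀ b ∈ s.B9, b * (s.m⁻¹ * k) = s.m⁻¹ * k * b) ∨ ∀ b ∈ s.B9, b * ((s.s1 * s.m)⁻¹ * k) = (s.s1 * s.m)⁻¹ * k * b)) ∧
      s.B9 ≤ s.J1 ∧ (s.s1 * s.s1 = 1 ∧ s.s1 * s.a1 = s.a1 * s.s1 ∧ s.s1 * s.k3 = s.k3 * s.s1) ∧
      (s.m * s.m = 1 ∧ s.m * s.a1 = s.a1 * s.m ∧ s.m * s.k3 = s.k3 * s.m) ∧
      (s.k1⁻¹ * s.s1 * s.k1⁻¹⁻¹ * s.s1 = s.k1 ∧ s.k2⁻¹ * s.m * s.k2⁻¹⁻¹ * s.m = s.k2) ∧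
      (∀ b ∈ s.B9, s.s1 * b * s.s1⁻¹ ∈ s.B9 ∧ s.m * b * s.m⁻¹ ∈ s.B9) ∧
      (∀ b ∈ s.B9, b ≠ 1 → ∃ g ∈ s.WK, g * b * g⁻¹ = s.e4 ∨ g * (s.k3 * b) * g⁻¹ = s.e4) ∧
      (∀ j ∈ s.J1, j ∈ s.B9 ∨ j * s.k3 ∈ s.B9 ∨ j * s.k3⁻¹ ∈ s.B9) ∧ s.a1 * s.k3 = s.k3 * s.a1 ∧
      (¬ ∀ b ∈ s.B9, b * s.s1 = s.s1 * b) ∧ (¬ ∀ b ∈ s.B9, b * s.m = s.m * b) ∧
      (¬ ∀ b ∈ s.B9, b * (s.s1 * s.m) = s.s1 * s.m * b) ∧ (¬ ∀ b ∈ s.B9, b * (s.s1⁻¹ * s.m) = s.s1⁻¹ * s.m * b) ∧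
      (¬ ∀ b ∈ s.B9, b * (s.s1⁻¹ * (s.s1 * s.m)) = s.s1⁻¹ * (s.s1 * s.m) * b) ∧
      (¬ ∀ b ∈ s.B9, b * (s.m⁻¹ * (s.s1 * s.m)) = s.m⁻¹ * (s.s1 * s.m) * b) := s.hL.decide s.rep0 (by decide +kernel)
  obtain ⟨a1, a2, a3, a4, a5, a6, a7, a8, a9, a10⟩ := a
  obtain ⟨j3, jc, jJ, -⟩ := s.eka_J
  have jc1 : ∀ x ∈ s.J1, ∀ y ∈ s.J1, x * y = y * x := fun x hx y hy => jc x (jJ hx) y (jJ hy)
  have hJ : s.J1 ≤ L := fun j hj => mL.2 ⟨mem_cen.1 (s.J1_le hj).1, jc1 j hj _ s.ekb_k.2.2⟩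
  have dec : ∀ g ∈ L, g ∈ normalizer (s.J1 : Set G) → ∃ j ∈ s.J1, ∃ k ∈ s.WK, k * s.k3 = s.k3 * k ∧ g = j * k :=
    fun g hg hn => by
      obtain ⟨j, hj, k, hk, e⟩ := s.nk ⟨mem_cen.2 (mL.1 hg).1, hn⟩
      obtain rfl : g = j * k := by simpa [ht] using e
      exact ⟨j, hj, k, hk, (mL.1 ((mul_mem_cancel_left (hJ hj)).1 hg)).2, rfl⟩
  have sq : ∀ g ∈ L, g ∈ normalizer (s.J1 : Set G) → g * g ∈ s.J1 := fun g hg hn => by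
    obtain ⟨j, hj, k, hk, h1, rfl⟩ := dec g hg hn
    rw [show j * k * (j * k) = j * (k * j * k⁻¹) * (k * k) by group, (a1 k hk h1).1, mul_one]
    exact mul_mem hj (conj_mem_of_mem_norm (s.WK_le hk).2 hj)
  have pJ : IsPGroup 3 s.J1 := IsPGroup.of_card (n := 3) s.gJ1.2
  have hS : IsSylIn 3 s.J1 L := isSylIn_of_normalizer (H := L ⊓ normalizer (s.J1 : Set G))
    ⟨le_inf hJ le_normalizer, pJ, fun P hP h1 h2 => le_antisymm (fun x hx => by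
      obtain ⟨k, hk⟩ := hP ⟨x, hx⟩
      exact GT.Tr.mem_of_pow_mem_of_coprime (n := 2) (pow_two x ▸ sq x (h1 hx).1 (h1 hx).2)
        ((Nat.Coprime.pow_left k (by norm_num)).coprime_dvd_left
          (orderOf_dvd_of_pow_eq_one (congrArg Subtype.val hk)))) h2⟩ hJ fun g hg hn => ⟨hg, hn⟩
  obtain ⟨L0, k1, k2, k3, k4, k5⟩ := exists_res hS jc1
  have nL : L ≤ normalizer (L0 : Set G) := le_normalizer.trans k2
  have m1 : s.s1 ∈ L0 := k3 _ (mL.2 a3.2) (ekb_two a3.1)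
  have m2 : s.m ∈ L0 := k3 _ (mL.2 a4.2) (ekb_two a4.1)
  have m3 : s.a1 ∈ L0 := k3 _ (mL.2 ⟨rfl, a9⟩) (ekb_two s.sqs.1)
  have h4 : s.J1 ⊓ L0 = s.B9 := le_antisymm (by
      rw [inf_comm, k5]
      refine commutator_le.2 fun j hj g hg => ?_
      obtain ⟨i, hi, k, hk, h1, rfl⟩ := dec g hg.1 hg.2
      rw [show ⁅j, i * k⁆ = j * (i * (k * j⁻¹ * k⁻¹) * i⁻¹) by rw [commutatorElement_def]; group,
        jc1 i hi _ (conj_mem_of_mem_norm (s.WK_le hk).2 (inv_mem hj)), mul_inv_cancel_right]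
      exact (a1 k hk h1).2.1 j hj) (le_inf a2 (clos_le.2 (by
      simp only [List.forall_mem_cons, List.not_mem_nil, false_imp_iff, implies_true, and_true]
      exact ⟨a5.1 ▸ mul_mem (conj_mem_of_mem_norm (nL (hJ (inv_mem s.ekb_k.1))) m1) m1,
        a5.2 ▸ mul_mem (conj_mem_of_mem_norm (nL (hJ (inv_mem s.ekb_k.2.1))) m2) m2⟩)))
  have hV : Sec (zpowers s.a1) L0 := ⟨zpowers_le.2 m3, fun g hg => cj_eq_iff.1 (by
    rw [cj_zpowers, mul_inv_eq_iff_eq_mul.2 (mL.1 (k1 hg)).1]), by rw [Nat.card_zpowers]; exact ekb_two s.sqs.1⟩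
  have hB : IsSylIn 3 s.B9 L0 := h4 ▸ hS.inf_of_le_normalizer k1 nL
  have nB : ∀ g ∈ L, g ∈ normalizer (s.B9 : Set G) → g ∈ normalizer (s.J1 : Set G) := fun g hg hn =>
    mem_normalizer_of_conj_mem fun j hj => by
      have h1 := mul_inv_eq_iff_eq_mul.2 (mL.1 hg).2
      rcases a8 j hj with h | h | h <;> have h2 := a2 (conj_mem_of_mem_norm hn h)
      · exact h2
      · rwa [← conj_mul, h1, mul_mem_cancel_right s.ekb_k.2.2] at h2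
      · rwa [← conj_mul, ← conj_inv, h1, mul_mem_cancel_right (inv_mem s.ekb_k.2.2)] at h2
  have cB : s.J1 ≤ centralizer (s.B9 : Set G) := fun j hj b hb => jc1 b (a2 hb) j hj
  have n1 : s.s1 ∈ L0 ⊓ normalizer (s.B9 : Set G) := ⟨m1, mem_normalizer_of_conj_mem fun b hb => (a6 b hb).1⟩
  have n2 : s.m ∈ L0 ⊓ normalizer (s.B9 : Set G) := ⟨m2, mem_normalizer_of_conj_mem fun b hb => (a6 b hb).2⟩
  have h5 := nine_v4 ⟨hV, hB, s.gB9.2, fun b hb => j3 b (jJ (a2 hb)), fun g hg hc => by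
      rcases s.ekb_cJ1 (mem_cen.2 (mL.1 (k1 hg)).1) (hc _ (mem_clos (by simp))) (hc _ (mem_clos (by simp)))
        (mL.1 (k1 hg)).2 with h | h
      · exact mem_sup_left (h4.le ⟨h, hg⟩)
      · exact (mul_mem_cancel_right (mem_sup_right (mem_zpowers _))).1 (mem_sup_left (h4.le ⟨h, mul_mem hg m3⟩))⟩
    (fun b hb b1 g hg hc => by
      have h1 := mL.1 (k1 hg)
      have h2 : g ∈ s.M := by
        obtain ⟨x, hx, h | h⟩ := a7 b hb b1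
        exacts [s.ekb_cj hx (h ▸ s.eka_four.2) ⟨mem_cen.2 h1.1, mem_cen.2 hc⟩, s.ekb_cj hx (h ▸ s.eka_four.2)
          ⟨mem_cen.2 h1.1, mem_cen.2 (Commute.mul_right h1.2 hc)⟩]
      refine eka_norm_sup ?_ (hV.norm hg)
      rw [← h4, ← cj_eq_iff, cj_inf, cj_eq_iff.2 (s.ekb_M3 h2 h1.2).2, cj_eq_of_mem hg])
    (ekb_four n1 n2 (mul_mem n1 n2) a10 fun g hg => by
      obtain ⟨j, hj, k, hk, h1, rfl⟩ := dec g (k1 hg.1) (nB g (k1 hg.1) hg.2)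
      have h2 : ∀ x ∈ s.WK, x⁻¹ * k ∈ centralizer (s.B9 : Set G) → x⁻¹ * (j * k) ∈ centralizer (s.B9 : Set G) :=
        fun x hx h => by
          rw [show x⁻¹ * (j * k) = x⁻¹ * j * x⁻¹⁻¹ * (x⁻¹ * k) by group]
          exact mul_mem (cB (conj_mem_of_mem_norm (s.WK_le (inv_mem hx)).2 hj)) h
      exact (a1 k hk h1).2.2.imp (mul_mem (cB hj)) (Or.imp (h2 _ (s.sn_mem 1)) (Or.imp (h2 _ (s.sn_mem 2))
        (h2 _ (mul_mem (s.sn_mem 1) (s.sn_mem 2))))))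
    fun g hg => cB (sq g (k1 hg.1) (nB g (k1 hg.1) hg.2))
  have h6 : L0 ≤ normalizer (s.B9 : Set G) := le_of_norm_sup hV hB h5 (zpowers_le.2 (centralizer_le_normalizer _
    fun b hb => mem_cen.1 (s.J1_le (a2 hb)).1)) inf_le_right
  rw [← hL]
  intro g hg
  obtain ⟨k, hk, j, hj, rfl⟩ := k4 g hg
  exact mul_mem ⟨mem_cen.2 (mL.1 (k1 hk)).1, nB k (k1 hk) (h6 hk)⟩ (s.J1_le hj)

theorem ekb_cen {j : G} (hj : j ∈ s.J1) (h1 : j ≠ 1) : s.K ⊓ centralizer {j} ≤ s.M := by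
  have a : s.k3 ∈ s.Lg ∧ ∀ j ∈ s.J1, j ≠ 1 → ∃ g ∈ s.WK, g * j * g⁻¹ = s.z ∨ g * j * g⁻¹ = s.e4 ∨ g * j * g⁻¹ = s.k3 :=
    s.hL.decide s.rep0 (by decide +kernel)
  obtain ⟨g, hg, h | h | h⟩ := a.2 j hj h1 <;> refine s.ekb_cj hg (h ▸ ?_)
  exacts [s.ekb_z, s.eka_four.2, le_sup_of_le_right ((eq_or_ne s.t 1).elim s.ekb_k3 fun ht =>
    s.NK_eq ▸ inf_le_inf_left _ (s.cen_root ht a.1))]

theorem ekb_good (j : G) (hj : j ∈ s.J1) (h1 : j ≠ 1) : GoodIn s.K s.M j := by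
  have := Fact.mk Nat.prime_three
  obtain ⟨j3, jc, jJ, -⟩ := s.eka_J
  have a : s.J1 ≤ s.T := s.hL.decide s.rep0 (by decide +kernel)
  refine ⟨mem_sup_right (s.J1_le hj), fun g hg h => ?_⟩
  obtain ⟨m, hm, h2⟩ := exists_conj_mem_syl (s.sylT.mono (le_sup_of_le_right s.T_le) s.M_le) h (k := 1)
    (by rw [pow_one, conj_pow, j3 j (jJ hj)]; group)
  rw [show m * (g * j * g⁻¹) * m⁻¹ = m * g * j * (m * g)⁻¹ by group] at h2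
  have h3 := s.pearl (g := (m * g)⁻¹) h2 (by convert jJ hj using 1; group)
  obtain ⟨n, hn, h4, h5⟩ := exists_norm_conj s.sylT a (fun g _ h => cj_eq_of_le fun x hx => s.pearl (g := g⁻¹) (h hx)
    (by rw [inv_inv]; exact jJ (mem_cj.1 hx))) (mul_mem (s.M_le hm) hg) (fun e he => jc e (jJ he) j (jJ hj))
    fun e he => jc e (jJ he) _ (jJ h3)
  have h6 := s.ekb_cen hj h1 (show n⁻¹ * (m * g) ∈ _ from ⟨s.K.mul_mem (s.K.inv_mem hn) (mul_mem (s.M_le hm) hg), mem_cen'.2 (by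
    calc _ = n⁻¹ * (m * g * j * (m * g)⁻¹) * n := by group
      _ = _ := by rw [← h5]; group)⟩)
  exact (mul_mem_cancel_left hm).1 ((mul_mem_cancel_left (inv_mem (mem_sup_right (show n ∈ s.NK from ⟨hn, h4⟩)))).1 h6)

theorem ekb_cE : centralizer (s.E : Set G) ≤ s.E := by
  have := Fact.mk Nat.prime_three
  obtain ⟨Y, hY⟩ : ∃ Y, Y = centralizer (s.E : Set G) := ⟨_, rfl⟩
  have hN : s.NK ≤ normalizer (Y : Set G) := hY ▸ s.eka_nE.trans (normalizer_le_normalizer_centralizer _)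
  have hR : ∀ y ∈ Y, ∀ x ∈ s.E, y * x = x * y := fun y hy x hx => ((hY ▸ hy : y ∈ centralizer _) x hx).symm
  have hK : Y ≤ s.K := fun y hy => mem_cen.2 (hR y hy _ s.eka_es.1.z_mem)
  have a : (∀ x ∈ s.T, x ≠ 1 → x ∈ s.J1 ∨ (s.k1 * x * s.k1⁻¹ * x⁻¹ ∈ s.J1 ∧ s.k1 * x * s.k1⁻¹ * x⁻¹ ≠ 1)) ∧
      ∀ j ∈ s.J1, j ≠ 1 → s.s1⁻¹ * j * s.s1 ∉ s.V9 ∨ s.m⁻¹ * j * s.m ∉ s.V9 ∨ s.s3⁻¹ * j * s.s3 ∉ s.V9 ∨
        1⁻¹ * j * 1 ∉ s.V9 := s.hL.decide s.rep0 (by decide +kernel)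
  have k : ∀ j ∈ s.J1, j ∈ Y → j = 1 := fun j hj h => by
    by_contra h1
    have h2 : ∀ i, ¬ Fpf (s.Rn i) s.r j := fun i hi => hi.not_cent (s.esRn i) fun x hx => hR j h x (s.Rn_le i hx)
    rcases a.2 j hj h1 with e | e | e | e
    exacts [h2 1 (s.eka_fpf hj 1 e), h2 2 (s.eka_fpf hj 2 e), h2 3 (s.eka_fpf hj 3 e), h2 0 (s.eka_fpf hj 0 e)]
  have h1 : s.T ⊓ Y = ⊥ := eq_bot_iff.2 fun x hx => by
    by_contra h2
    rcases a.1 x hx.1 h2 with e | e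
    exacts [h2 (k x e hx.2), e.2 (k _ e.1 (mul_mem (conj_mem_of_mem_norm (hN (s.J1_le s.ekb_k.1)) hx.2) (inv_mem hx.2)))]
  have h2 := ((s.sylT.mono le_sup_left (sup_le s.sylT.le hK)).inf_of_le_normalizer le_sup_right
    (sup_le (s.T_le.trans hN) le_normalizer)).not_dvd_relIndex
  rw [h1, relIndex_bot_left] at h2
  exact hY ▸ s.ekb_sig Y hK (Nat.prime_three.coprime_iff_not_dvd.2 h2).symm (s.J1_le.trans hN)

end Lo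

theorem Lo.ek (s : Lo G) : s.Ek :=
  ⟨s.eka_comm, s.eka_es.1, s.eka_es.2, s.eka_nE, s.eka_k, s.eka_cz, s.ekb_sig, s.ekb_good, s.ekb_cE⟩

end Cfsg.Agent.Tr8
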