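import Mathlib
import Cfsg.Agent.Tr8.Bas
import Cfsg.Agent.T3.Eka
import Cfsg.Agent.Loc.CardProd

/-! The structure of `M` (PLAN section Mk), preliminaries. -/

set_option autoImplicit false
set_option synthInstance.maxSize 100000
set_option synthInstance.maxHeartbeats 1000000
set_option linter.unusedSectionVars false
set_option maxRecDepth 100000

namespace Cfsg.Agent.Tr8

open Cfsg.Agent.Spor Cfsg.Agent.Rec Cfsg.Agent.Inv.Fz Cfsg.Agent.T16 Cfsg.Agent.T3 Cfsg.Agent.T3.LB Subgroup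

universe u

variable {G : Type u} [Group G] [Finite G]

/-- The elements of `C(r)` commuting with `g` modulo `⟨r⟩`. -/
def cmod (r g : G) : Subgroup G where
  carrier := {x | x * r = r * x ∧ x * g * x⁻¹ * g⁻¹ ∈ zpowers r}
  one_mem' := ⟨by simp, by simp⟩
  mul_mem' := by
    rintro x y ⟨hx, hx'⟩ ⟨hy, hy'⟩
    refine ⟨(show Commute x r from hx).mul_left hy, ?_⟩
    obtain ⟨k, hk⟩ := hy'
    have e : x * (y * g * y⁻¹ * g⁻¹) * x⁻¹ = r ^ k := by
      rw [← show r ^ k = _ from hk, ((show Commute x r from hx).zpow_right k).eq]; group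
    have : x * y * g * (x * y)⁻¹ * g⁻¹ = x * (y * g * y⁻¹ * g⁻¹) * x⁻¹ * (x * g * x⁻¹ * g⁻¹) := by group
    rw [this, e]
    exact mul_mem (zpow_mem (mem_zpowers r) k) hx'
  inv_mem' := by
    rintro x ⟨hx, k, hk⟩
    refine ⟨(show Commute x r from hx).inv_left, ?_⟩
    have e : x⁻¹ * (x * g * x⁻¹ * g⁻¹)⁻¹ * x = (r ^ k)⁻¹ := by
      rw [← show r ^ k = _ from hk, mul_assoc, ← ((show Commute x r from hx).zpow_right k).inv_right.eq]; group
    have : x⁻¹ * g * x⁻¹⁻¹ * g⁻¹ = x⁻¹ * (x * g * x⁻¹ * g⁻¹)⁻¹ * x := by group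
    rw [this, e]
    exact inv_mem (zpow_mem (mem_zpowers r) k)

theorem mem_cmod {r g x : G} : x ∈ cmod r g ↔ x * r = r * x ∧ x * g * x⁻¹ * g⁻¹ ∈ zpowers r := Iff.rfl

theorem cmod_symm {r g x : G} (hg : g * r = r * g) (h : x ∈ cmod r g) : g ∈ cmod r x :=
  ⟨hg, by simpa [mul_assoc] using inv_mem h.2⟩

theorem cmod_cj {r g x k : G} (hk : k * r = r * k) (h : x ∈ cmod r g) : k * x * k⁻¹ ∈ cmod r (k * g * k⁻¹) := by
  obtain ⟨hx, j, hj⟩ := h
  refine ⟨(((show Commute k r from hk).mul_left hx).mul_left (show Commute k r from hk).inv_left), j, ?_⟩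
  have : k * x * k⁻¹ * (k * g * k⁻¹) * (k * x * k⁻¹)⁻¹ * (k * g * k⁻¹)⁻¹ = k * (x * g * x⁻¹ * g⁻¹) * k⁻¹ := by group
  rw [this, ← show r ^ j = _ from hj, ((show Commute k r from hk).zpow_right j).eq]
  group

theorem Lo.rr (s : Lo G) : s.r * s.r = 1 := s.sqs.1

theorem Lo.mem_zr (s : Lo G) {x : G} : x ∈ zpowers s.r ↔ x = 1 ∨ x = s.r := mem_zpowers_iff_of_sq s.rr

theorem Lo.comm_r (s : Lo G) {x : G} (hx : x ∈ s.K) : x * s.r = s.r * x := mem_cen.1 hx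

theorem Lo.r_WK (s : Lo G) : s.r ∈ s.WK := mem_clos (by simp)

theorem Lo.U0_le (s : Lo G) : s.U0 ≤ s.WK := by
  have : ∀ x ∈ s.U0, x ∈ s.WK := s.hL.decide s.rep0 (by decide +kernel)
  exact this

theorem Lo.k_mem (s : Lo G) : s.k1 ∈ s.J1 ∧ s.k2 ∈ s.J1 ∧ s.k3 ∈ s.J1 :=
  ⟨mem_clos (by simp), mem_clos (by simp), mem_clos (by simp)⟩

theorem Lo.exp1 (s : Lo G) : ∀ x ∈ s.J1, x ^ 3 = 1 := s.hL.decide s.rep0 (by decide +kernel)

theorem Lo.WK_norm (s : Lo G) : s.WK ≤ normalizer (s.J1 : Set G) := fun _ hg => (s.WK_le hg).2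

/-- A Sylow 2-subgroup of `NK`. -/
def Lo.D2 (s : Lo G) : Subgroup G := s.U0 ⊔ zpowers s.t

theorem Lo.t_normU (s : Lo G) : zpowers s.t ≤ normalizer (s.U0 : Set G) := zpowers_le.2 (mem_normalizer_of_conj_mem (by
  rcases s.rep with h | h <;> exact s.hL.decide h (by decide +kernel)))

theorem Lo.r_U0 (s : Lo G) : s.r ∈ s.U0 := mem_clos (by simp)

theorem Lo.D2_le (s : Lo G) : s.D2 ≤ s.NK := sup_le (s.U0_le.trans s.WK_le) (zpowers_le.2 s.t_mem)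

theorem Lo.mem_D2 (s : Lo G) {x : G} (hx : x ∈ s.D2) : ∃ u ∈ s.U0, x = u ∨ x = u * s.t := by
  rw [Lo.D2, sup_comm] at hx
  obtain ⟨a, ha, b, hb, rfl⟩ := (mem_sup_iff_of_le_normalizer s.t_normU).1 hx
  refine ⟨a * b * a⁻¹, conj_mem_of_mem_norm (s.t_normU ha) hb, ?_⟩
  rcases (mem_zpowers_iff_of_sq s.sqs.2.2.2.1).1 ha with rfl | rfl
  · left; group
  · right; group

end Cfsg.Agent.Tr8
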