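import Mathlib
import Cfsg.Agent.Tr8.MkA

/-! The structure of `M` (PLAN section Mk). -/

set_option autoImplicit false
set_option synthInstance.maxSize 100000
set_option synthInstance.maxHeartbeats 1000000
set_option linter.unusedSectionVars false
set_option linter.unusedVariables false
set_option maxRecDepth 100000

namespace Cfsg.Agent.Tr8

open Cfsg.Agent.Spor Cfsg.Agent.Rec Cfsg.Agent.Inv.Fz Cfsg.Agent.T16 Cfsg.Agent.T3 Cfsg.Agent.T3.LB Subgroup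

universe u

variable {G : Type u} [Group G] [Finite G]

namespace Lo.Ek

variable {s : Lo G} (h : s.Ek)
include h

theorem M_norm : s.M ≤ normalizer (s.E : Set G) := sup_le le_normalizer h.nE

theorem E_M : s.E ≤ s.M := le_sup_left

theorem NK_M : s.NK ≤ s.M := le_sup_right

theorem cjE {m x : G} (hm : m ∈ s.M) (hx : x ∈ s.E) : m * x * m⁻¹ ∈ s.E := conj_mem_of_mem_norm (h.M_norm hm) hx

theorem mem_sup_E {H : Subgroup G} (hH : H ≤ s.M) {g : G} (hg : g ∈ s.E ⊔ H) : ∃ e ∈ s.E, ∃ n ∈ H, g = e * n := by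
  rw [sup_comm] at hg
  obtain ⟨a, ha, b, hb, rfl⟩ := (mem_sup_iff_of_le_normalizer (hH.trans h.M_norm)).1 hg
  exact ⟨a * b * a⁻¹, h.cjE (hH ha) hb, a, ha, by group⟩

theorem mem_M {g : G} (hg : g ∈ s.M) : ∃ e ∈ s.E, ∃ n ∈ s.NK, g = e * n := h.mem_sup_E h.NK_M hg

theorem inf_NK {x : G} (h1 : x ∈ s.E) (h2 : x ∈ s.NK) : x = 1 ∨ x = s.r := by
  have k1 := s.k_mem.1
  have a : s.k1 * x * s.k1⁻¹ * x⁻¹ ∈ s.E := mul_mem (h.cjE (h.NK_M (s.J1_le k1)) h1) (inv_mem h1)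
  have b : s.k1 * x * s.k1⁻¹ * x⁻¹ ∈ s.J1 := by
    have := mul_mem k1 (conj_mem_of_mem_norm h2.2 (inv_mem k1))
    simpa [mul_assoc] using this
  have := ek_three h.es a (s.exp1 _ b)
  exact h.fpf.1 x h1 (by rwa [mul_inv_eq_one, mul_inv_eq_iff_eq_mul] at this)

/-- A subgroup of `NK` containing `r` meets `E` in a group of order two. -/
theorem card_inf {H : Subgroup G} (hH : H ≤ s.NK) (hr : s.r ∈ H) {A : Subgroup G} (hA : A ≤ s.E) (hr' : s.r ∈ A) :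
    Nat.card (A ⊓ H : Subgroup G) = 2 := by
  have : A ⊓ H = zpowers s.r := le_antisymm (fun x hx => s.mem_zr.2 (h.inf_NK (hA hx.1) (hH hx.2)))
    (zpowers_le.2 ⟨hr', hr⟩)
  rw [this]
  exact card_zpowers_of_sq h.es.z_ne s.rr

theorem card_sup_E {H : Subgroup G} (hH : H ≤ s.NK) (hr : s.r ∈ H) :
    Nat.card (s.E ⊔ H : Subgroup G) = 256 * Nat.card H := by
  have := Loc.card_sup_mul_card_inf_of_le_normalizer' (hH.trans h.nE)
  rw [h.card_inf hH hr le_rfl h.es.z_mem, h.card] at this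
  omega

theorem card_M : Nat.card s.M = 256 * Nat.card s.NK := h.card_sup_E le_rfl (s.WK_le s.r_WK)

theorem mem_JW {g : G} (hg : g ∈ s.J1 ⊔ s.WK) : ∃ j ∈ s.J1, ∃ k ∈ s.WK, g = j * k := by
  rw [sup_comm] at hg
  obtain ⟨a, ha, b, hb, rfl⟩ := (mem_sup_iff_of_le_normalizer s.WK_norm).1 hg
  exact ⟨a * b * a⁻¹, conj_mem_of_mem_norm (s.WK_norm ha) hb, a, ha, by group⟩

theorem mem_K0 {g : G} (hg : g ∈ s.K0) : ∃ e ∈ s.E, ∃ j ∈ s.J1, ∃ k ∈ s.WK, g = e * (j * k) := by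
  obtain ⟨e, he, n, hn, rfl⟩ := h.mem_sup_E ((sup_le s.J1_le s.WK_le).trans h.NK_M) hg
  obtain ⟨j, hj, k, hk, rfl⟩ := h.mem_JW hn
  exact ⟨e, he, j, hj, k, hk, rfl⟩

theorem K0_le : s.K0 ≤ s.M := sup_le_sup_left (sup_le s.J1_le s.WK_le) _

theorem mul_mem_K0 {e j k : G} (he : e ∈ s.E) (hj : j ∈ s.J1) (hk : k ∈ s.WK) : e * (j * k) ∈ s.K0 :=
  mul_mem (mem_sup_left he) (mem_sup_right (mul_mem (mem_sup_left hj) (mem_sup_right hk)))

theorem K0_cov {g : G} (hg : g ∈ s.M) : g ∈ s.K0 ∨ g * s.t ∈ s.K0 := by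
  obtain ⟨e, he, n, hn, rfl⟩ := h.mem_M hg
  obtain ⟨j, hj, k, hk, rfl | rfl⟩ := s.nk hn
  · exact Or.inl (h.mul_mem_K0 he hj hk)
  · right
    rw [mul_assoc, mul_assoc (j * k), s.sqs.2.2.2.1, mul_one]
    exact h.mul_mem_K0 he hj hk

theorem t_not (ht : s.t ≠ 1) : s.t ∉ s.K0 := fun hK => by
  obtain ⟨e, he, j, hj, k, hk, e1⟩ := h.mem_K0 hK
  have d : ∀ j ∈ s.J1, ∀ k ∈ s.WK, s.t ≠ j * k ∧ s.t ≠ s.a1 * (j * k) := s.hL.decide (s.repB ht) (by decide +kernel)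
  have : e ∈ s.NK := by
    rw [show e = s.t * (j * k)⁻¹ by rw [e1]; group]
    exact mul_mem s.t_mem (inv_mem (mul_mem (s.J1_le hj) (s.WK_le hk)))
  rcases h.inf_NK he this with rfl | rfl
  · exact (d j hj k hk).1 (by rw [e1, one_mul])
  · exact (d j hj k hk).2 e1

theorem card_K0 : Nat.card s.K0 = 512 * 648 := by
  have d : ∀ j ∈ s.J1, j ∈ s.WK → j = 1 := s.hL.decide s.rep0 (by decide +kernel)
  have c := Loc.card_sup_mul_card_inf_of_le_normalizer' s.WK_norm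
  rw [show s.J1 ⊓ s.WK = ⊥ from eq_bot_iff.2 fun x hx => d x hx.1 hx.2, card_bot, s.gJ1.2, s.gWK.2] at c
  have := h.card_sup_E (sup_le s.J1_le s.WK_le) (mem_sup_right s.r_WK)
  rw [Lo.K0, this]
  omega

theorem dec {e : G} (he : e ∈ s.E) : ∃ x : Fin 4 → G, (∀ i, x i ∈ s.Rn i) ∧ e = x 0 * x 1 * x 2 * x 3 := by
  have c01 := h.comm 0 1 (by decide)
  have c2 := ek_sup (h.comm 0 2 (by decide)) (h.comm 1 2 (by decide))
  have c3 := ek_sup (ek_sup (h.comm 0 3 (by decide)) (h.comm 1 3 (by decide))) (h.comm 2 3 (by decide))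
  obtain ⟨a, ha, x3, h3, rfl⟩ := (mem_sup_iff_of_le_normalizer (ek_norm c3)).1 he
  obtain ⟨b, hb, x2, h2, rfl⟩ := (mem_sup_iff_of_le_normalizer (ek_norm c2)).1 ha
  obtain ⟨x0, h0, x1, h1, rfl⟩ := (mem_sup_iff_of_le_normalizer (ek_norm c01)).1 hb
  refine ⟨![x0, x1, x2, x3], fun i => ?_, rfl⟩
  fin_cases i
  exacts [h0, h1, h2, h3]

theorem fre_cj {i m : G} (hm : m ∈ s.M) (hi : s.Fre i) : s.Fre (m * i * m⁻¹) := by
  obtain ⟨k, hk, k3, hf, he⟩ := hi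
  refine ⟨m * k * m⁻¹, mul_mem (mul_mem hm hk) (inv_mem hm), by rw [conj_pow, k3]; group,
    hf.conj h.es (h.M_norm hm), ?_⟩
  have := h.cjE hm he
  rwa [show m * (i * k * i⁻¹ * k) * m⁻¹ = m * i * m⁻¹ * (m * k * m⁻¹) * (m * i * m⁻¹)⁻¹ * (m * k * m⁻¹) by group] at this

/-- An element inverting one of the `kᵢ` modulo `E` is free. -/
theorem fre_of {e n : G} (he : e ∈ s.E) (hn : n * s.k1 * n⁻¹ = s.k1⁻¹ ∨ n * s.k2 * n⁻¹ = s.k2⁻¹ ∨ n * s.k3 * n⁻¹ = s.k3⁻¹) :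
    s.Fre (e * n) := by
  have key : ∀ k ∈ s.J1, Fpf s.E s.r k → n * k * n⁻¹ = k⁻¹ → s.Fre (e * n) := fun k hk hf hi => by
    have hM := h.NK_M (s.J1_le hk)
    refine ⟨k, hM, s.exp1 k hk, hf, ?_⟩
    have := mul_mem he (h.cjE (inv_mem hM) (inv_mem he))
    rwa [show e * (k⁻¹ * e⁻¹ * k⁻¹⁻¹) = e * n * k * (e * n)⁻¹ * k by rw [inv_inv, ← hi]; group] at this
  rcases hn with a | a | a
  exacts [key _ s.k_mem.1 h.fpf.1 a, key _ s.k_mem.2.1 h.fpf.2.1 a, key _ s.k_mem.2.2 h.fpf.2.2 a]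

theorem sq_NK {e n : G} (he : e ∈ s.E) (hn : n ∈ s.NK) (h2 : e * n * (e * n) ∈ s.E) : n * n = 1 ∨ n * n = s.r := by
  refine h.inf_NK ?_ (mul_mem hn hn)
  have := mul_mem (inv_mem (mul_mem he (h.cjE (h.NK_M hn) he))) h2
  rwa [show (e * (n * e * n⁻¹))⁻¹ * (e * n * (e * n)) = n * n by group] at this

/-- Involutions of `M / E`. -/
theorem inv_cases {i : G} (hi : i ∈ s.M) (h2 : i * i ∈ s.E) :
    i ∈ s.E ∨ s.Fre i ∨ (s.t ≠ 1 ∧ i ∉ s.K0 ∧ ∃ m ∈ s.M, m * i * m⁻¹ * s.t⁻¹ ∈ s.E) := by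
  obtain ⟨e, he, n, hn, rfl⟩ := h.mem_M hi
  have hsq := h.sq_NK he hn h2
  have d0 : ∀ j ∈ s.J1, ∀ k ∈ s.WK, j * k * (j * k) = 1 ∨ j * k * (j * k) = s.a1 → (j * k = 1 ∨ j * k = s.a1) ∨
      (j * k * s.k1 * (j * k)⁻¹ = s.k1⁻¹ ∨ j * k * s.k2 * (j * k)⁻¹ = s.k2⁻¹ ∨ j * k * s.k3 * (j * k)⁻¹ = s.k3⁻¹) :=
    s.hL.decide s.rep0 (by decide +kernel)
  have c0 : ∀ j ∈ s.J1, ∀ k ∈ s.WK, j * k * (j * k) = 1 ∨ j * k * (j * k) = s.r → e * (j * k) ∈ s.E ∨ s.Fre (e * (j * k)) :=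
    fun j hj k hk hsq => by
      rcases d0 j hj k hk hsq with a | a
      · exact Or.inl (mul_mem he (by rcases a with a | a <;> rw [a]; exacts [one_mem _, h.es.z_mem]))
      · exact Or.inr (h.fre_of he a)
  obtain ⟨j, hj, k, hk, rfl | rfl⟩ := s.nk hn
  · exact (c0 j hj k hk hsq).imp_right Or.inl
  by_cases ht : s.t = 1
  · rw [ht, mul_one] at hsq ⊢
    exact (c0 j hj k hk hsq).imp_right Or.inl
  have d1 : ∀ j ∈ s.J1, ∀ k ∈ s.WK, j * k * s.t * (j * k * s.t) = 1 ∨ j * k * s.t * (j * k * s.t) = s.a1 →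
      (j * k * s.t * s.k1 * (j * k * s.t)⁻¹ = s.k1⁻¹ ∨ j * k * s.t * s.k2 * (j * k * s.t)⁻¹ = s.k2⁻¹ ∨
        j * k * s.t * s.k3 * (j * k * s.t)⁻¹ = s.k3⁻¹) ∨
      ∃ l ∈ s.WK, l * j * (j * k * s.t) = s.t * (l * j) ∨ l * j * (j * k * s.t) = s.a1 * s.t * (l * j) :=
    s.hL.decide (s.repB ht) (by decide +kernel)
  rcases d1 j hj k hk hsq with a | ⟨l, hl, a⟩
  · exact Or.inr (Or.inl (h.fre_of he a))
  have hm : l * j ∈ s.M := h.NK_M (mul_mem (s.WK_le hl) (s.J1_le hj))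
  refine Or.inr (Or.inr ⟨ht, fun hK => h.t_not ht ?_, l * j, hm, ?_⟩)
  · have := mul_mem (inv_mem (h.mul_mem_K0 he hj hk)) hK
    rwa [show (e * (j * k))⁻¹ * (e * (j * k * s.t)) = s.t by group] at this
  · rw [show l * j * (e * (j * k * s.t)) * (l * j)⁻¹ * s.t⁻¹ =
      l * j * e * (l * j)⁻¹ * (l * j * (j * k * s.t) * (l * j)⁻¹ * s.t⁻¹) by group]
    refine mul_mem (h.cjE hm he) ?_
    rcases a with a | a <;> rw [a, mul_inv_cancel_right]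
    · rw [mul_inv_cancel]; exact one_mem _
    · rw [mul_inv_cancel_right]; exact h.es.z_mem

theorem E_cmod {x y : G} (hx : x ∈ s.E) (hy : y ∈ s.E) : x ∈ cmod s.r y := by
  refine ⟨s.comm_r (s.E_le hx), s.mem_zr.2 ?_⟩
  rcases h.es.comm x hx y hy with a | a <;> rw [a]
  · left; group
  · right; group

/-- A subgroup fixed modulo `r` by a free element meets its conjugate in `⟨r⟩`. -/
theorem fre_half {i k : G} (hi : i ∈ s.M) (hk : k ∈ s.M) (k3 : k ^ 3 = 1) (hf : Fpf s.E s.r k)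
    (he : i * k * i⁻¹ * k ∈ s.E) {X Y : Subgroup G} (hX : X ≤ s.E) (hY : X ≤ Y) (hY' : cj k X ≤ Y)
    (hc : X ≤ cmod s.r i) : Nat.card X * Nat.card X ≤ Nat.card Y * 2 := by
  have ri := s.comm_r (s.M_le hi)
  have rk := s.comm_r (s.M_le hk)
  have le : X ⊓ cj k X ≤ zpowers s.r := fun y hy => by
    have hyE := hX hy.1
    have a1 : i ∈ cmod s.r y := cmod_symm ri (hc hy.1)
    have a2 : k * i * k⁻¹ ∈ cmod s.r y := by
      have := cmod_cj rk (cmod_symm ri (hc (mem_cj.1 hy.2)))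
      rwa [show k * (k⁻¹ * y * k) * k⁻¹ = y by group] at this
    have a3 : k * k ∈ cmod s.r y := by
      have := mul_mem (mul_mem a2 (inv_mem a1)) (h.E_cmod he hyE)
      rwa [show k * i * k⁻¹ * i⁻¹ * (i * k * i⁻¹ * k) = k * k * (k⁻¹ * i * i⁻¹ * k) by group, mul_inv_cancel_right,
        inv_mul_cancel, mul_one] at this
    have a4 : k ∈ cmod s.r y := by
      have := mul_mem a3 a3
      rwa [show k * k * (k * k) = k ^ 3 * k by simp only [pow_succ, pow_zero, one_mul, mul_assoc], k3, one_mul] at this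
    refine s.mem_zr.2 (hf y hyE (ek_comm_sq k3 ?_))
    rcases s.mem_zr.1 a4.2 with a | a
    · have c : Commute k y := by rwa [mul_inv_eq_one, mul_inv_eq_iff_eq_mul] at a
      exact c.mul_left c
    · have c : k * y = s.r * y * k := by rw [← a]; group
      calc k * k * y = k * (s.r * y * k) := by rw [mul_assoc, c]
        _ = s.r * (k * y) * k := by rw [← mul_assoc, ← mul_assoc, rk]; group
        _ = s.r * s.r * (y * (k * k)) := by rw [c]; group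
        _ = y * (k * k) := by rw [s.rr, one_mul]
  have c1 := Loc.card_mul_card_le_card_sup_mul_card_inf X (cj k X)
  have c2 := card_le_of_le le
  have c3 := card_le_of_le (sup_le hY hY')
  rw [card_zpowers_of_sq h.es.z_ne s.rr] at c2
  rw [card_cj] at c1
  exact c1.trans (Nat.mul_le_mul c3 c2)

theorem fre_card' {i : G} (hi : i ∈ s.M) (hf : s.Fre i) {X : Subgroup G} (hX : X ≤ s.E) (hc : X ≤ cmod s.r i) :
    Nat.card X ≤ 32 := by
  obtain ⟨k, hk, k3, hf, he⟩ := hf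
  have := h.fre_half hi hk k3 hf he hX hX (cj_le_iff.2 fun x hx => h.cjE hk (hX hx)) hc
  rw [h.card] at this
  nlinarith

/-- The fixed points of a free element on `E / ⟨r⟩`. -/
theorem fre_card {i : G} (hi : i ∈ s.M) (hf : s.Fre i) {X : Subgroup G} (hX : X ≤ s.E)
    (hc : ∀ x ∈ X, x * i * x⁻¹ * i⁻¹ = 1 ∨ x * i * x⁻¹ * i⁻¹ = s.r) : Nat.card X ≤ 32 :=
  h.fre_card' hi hf hX fun x hx => ⟨s.comm_r (s.E_le (hX hx)), s.mem_zr.2 (hc x hx)⟩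

theorem t_notU (ht : s.t ≠ 1) : s.t ∉ s.U0 := fun a => h.t_not ht (mem_sup_right (mem_sup_right (s.U0_le a)))

theorem card_D2 : Nat.card s.D2 = 16 ∧ s.t = 1 ∨ Nat.card s.D2 = 32 ∧ s.t ≠ 1 := by
  by_cases ht : s.t = 1
  · exact Or.inl ⟨by rw [Lo.D2, ht, zpowers_one_eq_bot, sup_bot_eq, s.gU0.2], ht⟩
  · have c := Loc.card_sup_mul_card_inf_of_le_normalizer' s.t_normU
    have e : s.U0 ⊓ zpowers s.t = ⊥ := eq_bot_iff.2 fun x hx => by
      rcases (mem_zpowers_iff_of_sq s.sqs.2.2.2.1).1 hx.2 with rfl | rfl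
      exacts [one_mem _, absurd hx.1 (h.t_notU ht)]
    rw [e, card_bot, s.gU0.2, card_zpowers_of_sq ht s.sqs.2.2.2.1] at c
    exact Or.inr ⟨by rw [Lo.D2]; omega, ht⟩

theorem sylD2 : IsSylIn 2 s.D2 s.NK := by
  have c := card_mul_relIndex s.D2_le
  rcases h.card_D2 with ⟨a, ht⟩ | ⟨a, ht⟩ <;> rcases s.card_NK with ⟨b, ht'⟩ | ⟨b, ht'⟩
  · exact isSylIn_of_not_dvd s.D2_le (IsPGroup.of_card (n := 4) a) (by rw [a, b] at c; omega)
  · exact absurd ht ht'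
  · exact absurd ht' ht
  · exact isSylIn_of_not_dvd s.D2_le (IsPGroup.of_card (n := 5) a) (by rw [a, b] at c; omega)

theorem cmod_E {e n x : G} (he : e ∈ s.E) (hn : n ∈ s.NK) (hx : x ∈ s.E) (hc : x ∈ cmod s.r (e * n)) : x ∈ cmod s.r n := by
  have rn := s.comm_r hn.1
  have a := cmod_symm (s.comm_r (mul_mem (s.E_le he) hn.1)) hc
  have := mul_mem (inv_mem (h.E_cmod he hx)) a
  rw [inv_mul_cancel_left] at this
  exact cmod_symm hc.1 this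

/-- The fixed points of `⟨s₁ m, s₃⟩` on `E / ⟨r⟩`. -/
theorem card_eight {X : Subgroup G} (hX : X ≤ s.E) (h1 : X ≤ cmod s.r (s.s1 * s.m)) (h3 : X ≤ cmod s.r s.s3) :
    Nat.card X ≤ 8 := by
  have d : s.s1 * s.m * s.k1 * (s.s1 * s.m)⁻¹ = s.k1⁻¹ ∧ s.s3 * s.k3 * s.s3⁻¹ * s.k3 = 1 ∧
      s.k3 * (s.s1 * s.m) * s.k3⁻¹ = s.s1 * s.m ∧ s.s1 * s.m ∈ s.WK ∧ s.s3 ∈ s.WK := s.hL.decide s.rep0 (by decide +kernel)
  have hk := h.NK_M (s.J1_le s.k_mem.2.2)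
  have fr : s.Fre (s.s1 * s.m) := by simpa using h.fre_of (one_mem _) (Or.inl d.1)
  have c1 : Nat.card (s.E ⊓ cmod s.r (s.s1 * s.m) : Subgroup G) ≤ 32 :=
    h.fre_card' (h.NK_M (s.WK_le d.2.2.2.1)) fr inf_le_left inf_le_right
  have c2 := h.fre_half (h.NK_M (s.WK_le d.2.2.2.2)) hk (s.exp1 _ s.k_mem.2.2) h.fpf.2.2 (by rw [d.2.1]; exact one_mem _) hX
    (le_inf hX h1) (cj_le_iff.2 fun x hx => ⟨h.cjE hk (hX hx), by
      have := cmod_cj (s.comm_r (s.M_le hk)) (h1 hx)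
      rwa [d.2.2.1] at this⟩) h3
  nlinarith

/-- Subgroups of `D2` that are elementary abelian modulo `⟨r⟩`. -/
theorem sub_D2 {A : Subgroup G} (hA : A ≤ s.D2) (h2 : ∀ x ∈ A, x * x = 1 ∨ x * x = s.r) :
    Nat.card A ≤ 4 ∨ (∃ u ∈ A, u * s.k1 * u⁻¹ = s.k1⁻¹ ∨ u * s.k2 * u⁻¹ = s.k2⁻¹ ∨ u * s.k3 * u⁻¹ = s.k3⁻¹) ∧
      (Nat.card A ≤ 8 ∨ Nat.card A = 16 ∧ s.s1 * s.m ∈ A ∧ s.s3 ∈ A) := by
  have cU := s.gU0.2
  have i2 : s.U0.relIndex A ≤ 2 := by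
    have c := card_mul_relIndex (show s.U0 ≤ s.D2 from le_sup_left)
    have : s.U0.relIndex s.D2 ≤ 2 ∧ s.U0.relIndex s.D2 ≠ 0 := by
      rcases h.card_D2 with ⟨a, -⟩ | ⟨a, -⟩ <;> rw [a, cU] at c <;> omega
    exact (relIndex_le_of_le_right hA this.2).trans this.1
  have cA : Nat.card (s.U0 ⊓ A : Subgroup G) * s.U0.relIndex A = Nat.card A := by
    rw [← inf_relIndex_right]; exact card_mul_relIndex inf_le_right
  have d0 : ∀ u ∈ s.U0, (u = 1 ∨ u = s.a1) ∨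
      (u * s.k1 * u⁻¹ = s.k1⁻¹ ∨ u * s.k2 * u⁻¹ = s.k2⁻¹ ∨ u * s.k3 * u⁻¹ = s.k3⁻¹) := s.hL.decide s.rep0 (by decide +kernel)
  by_cases hB : s.U0 ⊓ A ≤ zpowers s.r
  · have := card_le_of_le hB
    rw [card_zpowers_of_sq h.es.z_ne s.rr] at this
    left; nlinarith
  right
  obtain ⟨u, hu, hu'⟩ := SetLike.not_le_iff_exists.1 hB
  refine ⟨⟨u, hu.2, (d0 u hu.1).resolve_left fun a => hu' (s.mem_zr.2 a)⟩, ?_⟩
  have m1 : s.s1 ∈ s.U0 := mem_clos (by simp)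
  have m2 : s.m ∈ s.U0 := mem_clos (by simp)
  have m3 : s.s3 ∈ s.U0 := mem_clos (by simp)
  by_cases hAU : A ≤ s.U0
  · have c := card_mul_relIndex hAU
    rw [cU] at c
    by_cases h1 : A.relIndex s.U0 = 1
    · have := relIndex_eq_one.1 h1
      rw [h1] at c
      exact Or.inr ⟨by omega, this (mul_mem m1 m2), this m3⟩
    · left
      have : A.relIndex s.U0 ≠ 0 := fun e => by rw [e] at c; omega
      nlinarith [show 2 ≤ A.relIndex s.U0 by omega]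
  obtain ⟨x, hx, hx'⟩ := SetLike.not_le_iff_exists.1 hAU
  obtain ⟨v, hv, rfl | rfl⟩ := s.mem_D2 (hA hx)
  · exact absurd hv hx'
  have ht : s.t ≠ 1 := fun e => hx' (by rw [e, mul_one]; exact hv)
  have d1 : ∀ v ∈ s.U0, v * s.t * (v * s.t) = 1 ∨ v * s.t * (v * s.t) = s.a1 →
      ¬ (s.s1 * (v * s.t) * (s.s1 * (v * s.t)) = 1 ∨ s.s1 * (v * s.t) * (s.s1 * (v * s.t)) = s.a1) ∧
      ¬ (s.m * (v * s.t) * (s.m * (v * s.t)) = 1 ∨ s.m * (v * s.t) * (s.m * (v * s.t)) = s.a1) ∧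
      ¬ (s.s1 * s.s3 * (v * s.t) * (s.s1 * s.s3 * (v * s.t)) = 1 ∨
        s.s1 * s.s3 * (v * s.t) * (s.s1 * s.s3 * (v * s.t)) = s.a1) := s.hL.decide (s.repB ht) (by decide +kernel)
  obtain ⟨n1, n2, n3⟩ := d1 v hv (h2 _ hx)
  have a1 : s.s1 ∉ A := fun a => n1 (h2 _ (mul_mem a hx))
  have a2 : s.m ∉ A := fun a => n2 (h2 _ (mul_mem a hx))
  have a3 : s.s1 * s.s3 ∉ A := fun a => n3 (h2 _ (mul_mem a hx))
  have c : Nat.card (A ⊓ s.U0 : Subgroup G) * A.relIndex s.U0 = 16 := by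
    rw [← inf_relIndex_right, ← cU]; exact card_mul_relIndex inf_le_right
  rw [inf_comm] at c
  have n1' : A.relIndex s.U0 ≠ 1 := fun e => a1 (relIndex_eq_one.1 e m1)
  by_cases i : A.relIndex s.U0 = 2
  · have k : ∀ a b : s.U0, ((a * b : s.U0) : G) ∈ A ↔ ((a : G) ∈ A ↔ (b : G) ∈ A) := fun a b =>
      mul_mem_iff_of_index_two (H := A.subgroupOf s.U0) i
    have i1 : s.U0.relIndex A ≠ 1 := fun e => hAU (relIndex_eq_one.1 e)
    have i0 : s.U0.relIndex A ≠ 0 := fun e => by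
      rw [e, mul_zero] at cA; exact Nat.card_pos.ne cA
    rw [i] at c
    refine Or.inr ⟨?_, (k ⟨_, m1⟩ ⟨_, m2⟩).2 (by simp [a1, a2]), by_contra fun a => a3 ((k ⟨_, m1⟩ ⟨_, m3⟩).2 (by simp [a1, a]))⟩
    rw [← cA, show s.U0.relIndex A = 2 by omega]
    omega
  · left
    have hd : A.relIndex s.U0 ∣ 16 := Dvd.intro_left _ c
    have : 4 ≤ A.relIndex s.U0 := by
      by_contra lt
      have : A.relIndex s.U0 < 4 := by omega
      interval_cases (A.relIndex s.U0) <;> omega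
    nlinarith

/-- Subgroups that are elementary abelian modulo `⟨r⟩`. -/
theorem elem {F : Subgroup G} (hF : F ≤ s.M) (hr : s.r ∈ F) (h2 : ∀ x ∈ F, x * x = 1 ∨ x * x = s.r) :
    s.E.relIndex F ≤ 2 ∨ (s.E.relIndex F = 4 ∧ Nat.card (F ⊓ s.E : Subgroup G) ≤ 32) ∨
      (s.E.relIndex F = 8 ∧ Nat.card (F ⊓ s.E : Subgroup G) ≤ 8) := by
  have rE := h.es.z_mem
  have rN := s.WK_le s.r_WK
  -- the part of `E F` in `NK`
  have sqB : ∀ n ∈ (s.E ⊔ F) ⊓ s.NK, n * n = 1 ∨ n * n = s.r := fun n hn => by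
    obtain ⟨e, he, f, hf, e1⟩ := h.mem_sup_E hF hn.1
    refine h.sq_NK (inv_mem he) hn.2 ?_
    rw [e1, inv_mul_cancel_left]
    rcases h2 f hf with a | a <;> rw [a]
    exacts [one_mem _, rE]
  have pB : IsPGroup 2 ((s.E ⊔ F) ⊓ s.NK : Subgroup G) := fun n => ⟨2, Subtype.ext (by
    have : (n : G) ^ 2 ^ 2 = n * n * (n * n) := by simp only [pow_succ, pow_zero, one_mul, mul_assoc]; norm_num [pow_succ, mul_assoc]
    rw [SubgroupClass.coe_pow, this]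
    rcases sqB n n.2 with a | a <;> rw [a]
    exacts [one_mul _, s.rr])⟩
  have eB : s.E ⊔ ((s.E ⊔ F) ⊓ s.NK) = s.E ⊔ F := by
    refine le_antisymm (sup_le le_sup_left inf_le_left) (sup_le le_sup_left fun f hf => ?_)
    obtain ⟨e, he, n, hn, e1⟩ := h.mem_M (hF hf)
    rw [e1]
    refine mul_mem (mem_sup_left he) (mem_sup_right ⟨?_, hn⟩)
    rw [show n = e⁻¹ * f by rw [e1]; group]
    exact mul_mem (mem_sup_left (inv_mem he)) (mem_sup_right hf)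
  have cB : Nat.card ((s.E ⊔ F) ⊓ s.NK : Subgroup G) = 2 * s.E.relIndex F := by
    have c1 := h.card_sup_E (H := (s.E ⊔ F) ⊓ s.NK) inf_le_right ⟨mem_sup_left rE, rN⟩
    have c2 := Loc.card_sup_mul_card_inf_of_le_normalizer' (hF.trans h.M_norm)
    have c3 : Nat.card (s.E ⊓ F : Subgroup G) * s.E.relIndex F = Nat.card F := by
      rw [← inf_relIndex_right]; exact card_mul_relIndex inf_le_right
    rw [eB] at c1
    rw [c1, h.card, ← c3] at c2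
    have : 0 < Nat.card (s.E ⊓ F : Subgroup G) := Nat.card_pos
    have : (Nat.card ((s.E ⊔ F) ⊓ s.NK : Subgroup G)) * Nat.card (s.E ⊓ F : Subgroup G) =
        2 * s.E.relIndex F * Nat.card (s.E ⊓ F : Subgroup G) := by nlinarith
    exact Nat.eq_of_mul_eq_mul_right ‹_› this
  obtain ⟨g, hg, hle⟩ := h.sylD2.exists_cj_le pB inf_le_right
  have gM := h.NK_M hg
  have gr : g * s.r * g⁻¹ = s.r := by rw [s.comm_r hg.1]; group
  have sqA : ∀ x ∈ cj g ((s.E ⊔ F) ⊓ s.NK), x * x = 1 ∨ x * x = s.r := fun x hx => by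
    have e : x * x = g * (g⁻¹ * x * g * (g⁻¹ * x * g)) * g⁻¹ := by group
    rw [e]
    rcases sqB _ (mem_cj.1 hx) with a | a <;> rw [a]
    exacts [Or.inl (by group), Or.inr gr]
  -- elements of the conjugate act trivially on the conjugate of `F ∩ E` modulo `r`
  have XE : cj g (F ⊓ s.E) ≤ s.E := cj_le_iff.2 fun x hx => h.cjE gM hx.2
  have act : ∀ u ∈ cj g ((s.E ⊔ F) ⊓ s.NK), cj g (F ⊓ s.E) ≤ cmod s.r u := fun u hu => cj_le_iff.2 fun x hx => by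
    obtain ⟨h1, h3⟩ := mem_cj.1 hu
    obtain ⟨e, he, f, hf, e1⟩ := h.mem_sup_E hF h1
    have xr := s.comm_r (s.E_le hx.2)
    have c1 : x ∈ cmod s.r (e⁻¹ * (g⁻¹ * u * g)) := by
      rw [e1, inv_mul_cancel_left]
      have z : ∀ y ∈ F, y * y ∈ zpowers s.r := fun y hy => s.mem_zr.2 (h2 y hy)
      refine ⟨xr, ?_⟩
      have fr := s.comm_r (s.M_le (hF hf))
      obtain ⟨k, hk⟩ := z x hx.1
      have e2 : f * (x * x)⁻¹ * f⁻¹ = (x * x)⁻¹ := by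
        rw [← show s.r ^ k = _ from hk, ((show Commute f s.r from fr).zpow_right k).inv_right.eq]; group
      have : x * f * x⁻¹ * f⁻¹ = x * f * (x * f) * (f * f)⁻¹ * (f * (x * x)⁻¹ * f⁻¹) := by group
      rw [this, e2]
      exact mul_mem (mul_mem (z _ (mul_mem hx.1 hf)) (inv_mem (z f hf))) (inv_mem (z x hx.1))
    have := cmod_cj (s.comm_r hg.1) (h.cmod_E (inv_mem he) h3 hx.2 c1)
    rwa [show g * (g⁻¹ * u * g) * g⁻¹ = u by group] at this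
  have hd : 2 * s.E.relIndex F ∣ 32 := by
    have := card_dvd_of_le hle
    rw [card_cj, cB] at this
    rcases h.card_D2 with ⟨a, -⟩ | ⟨a, -⟩ <;> rw [a] at this
    exacts [this.trans (by norm_num), this]
  rcases h.sub_D2 hle sqA with a | ⟨⟨u, hu, hi⟩, a⟩
  · rw [card_cj, cB] at a
    left; omega
  rw [card_cj, cB] at a
  rcases a with a | ⟨a, b1, b3⟩
  · have c := h.fre_card' (h.NK_M (s.D2_le (hle hu))) (by simpa using h.fre_of (one_mem _) hi) XE (act u hu)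
    rw [card_cj] at c
    have : s.E.relIndex F ≠ 3 := fun e => by rw [e] at hd; omega
    omega
  · have c := h.card_eight XE (act _ b1) (act _ b3)
    rw [card_cj] at c
    omega

theorem card_Rn (i : Fin 4) : Nat.card (s.Rn i) = 8 := by rw [Lo.Rn, card_cj, s.cardR]

theorem t_Rn (ht : s.t ≠ 1) : (∀ x ∈ s.Rn 0, x * s.t = s.t * x) ∧ (∀ x ∈ s.Rn 3, x * s.t = s.t * x) ∧
    (∀ x ∈ s.Rn 1, s.t * x * s.t⁻¹ ∈ s.Rn 2) ∧ ∀ x ∈ s.Rn 2, s.t * x * s.t⁻¹ ∈ s.Rn 1 := by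
  have d : s.s3 * s.t = s.t * s.s3 ∧ s.t * s.s1 = s.m * s.t ∧ s.t * s.m = s.s1 * s.t := s.hL.decide (s.repB ht) (by decide +kernel)
  have k : ∀ {a b : G}, s.t * a = b * s.t → ∀ x ∈ cj a s.R, s.t * x * s.t⁻¹ = b * (a⁻¹ * x * a) * b⁻¹ := fun {a b} e x hx => by
    have c := s.cRt _ (mem_cj.1 hx)
    have e' : b = s.t * a * s.t⁻¹ := by rw [e]; group
    calc s.t * x * s.t⁻¹ = s.t * a * s.t⁻¹ * (s.t * (a⁻¹ * x * a)) * a⁻¹ * s.t⁻¹ := by group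
      _ = b * (a⁻¹ * x * a) * b⁻¹ := by rw [← c, e']; group
  refine ⟨fun x hx => s.cRt x (by simpa [Lo.Rn, Lo.sn, cj_one] using hx), fun x hx => ?_, fun x hx => ?_, fun x hx => ?_⟩
  · have := k d.1.symm x hx
    rw [show s.s3 * (s.s3⁻¹ * x * s.s3) * s.s3⁻¹ = x by group, mul_inv_eq_iff_eq_mul] at this
    exact this.symm
  · rw [k d.2.1 x hx]
    exact conj_mem_cj.2 (mem_cj.1 hx)
  · rw [k d.2.2 x hx]
    exact conj_mem_cj.2 (mem_cj.1 hx)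

/-- Every commutator `[x, t]` is `[p, t]` with `p ∈ R₁`. -/
theorem t_comm (ht : s.t ≠ 1) {x : G} (hx : x ∈ s.E) : ∃ p ∈ s.Rn 1, x * s.t * x⁻¹ = p * s.t * p⁻¹ := by
  obtain ⟨c0, c3, c1, c2⟩ := h.t_Rn ht
  obtain ⟨y, hy, rfl⟩ := h.dec hx
  have tt := s.sqs.2.2.2.1
  have ti : s.t⁻¹ = s.t := inv_eq_self_of_sq tt
  have q1 := c2 _ (hy 2)
  refine ⟨y 1 * (s.t * y 2 * s.t⁻¹)⁻¹, mul_mem (hy 1) (inv_mem q1), ?_⟩
  have e3 : y 3 * s.t * (y 3)⁻¹ = s.t := by rw [c3 _ (hy 3)]; group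
  have e2 : y 2 * s.t * (y 2)⁻¹ = (s.t * y 2 * s.t⁻¹)⁻¹ * s.t * (s.t * y 2 * s.t⁻¹) := by
    have c := h.comm 1 2 (by decide) _ (inv_mem q1) _ (hy 2)
    calc y 2 * s.t * (y 2)⁻¹ = y 2 * (s.t * y 2 * s.t⁻¹)⁻¹ * s.t := by group
      _ = (s.t * y 2 * s.t⁻¹)⁻¹ * (s.t * s.t) * y 2 * s.t⁻¹ := by rw [← c, tt, mul_one, ti]
      _ = _ := by group
  have p1 : y 1 * (s.t * y 2 * s.t⁻¹)⁻¹ ∈ s.Rn 1 := mul_mem (hy 1) (inv_mem q1)
  calc y 0 * y 1 * y 2 * y 3 * s.t * (y 0 * y 1 * y 2 * y 3)⁻¹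
      = y 0 * y 1 * (y 2 * (y 3 * s.t * (y 3)⁻¹) * (y 2)⁻¹) * (y 1)⁻¹ * (y 0)⁻¹ := by group
    _ = y 0 * (y 1 * (s.t * y 2 * s.t⁻¹)⁻¹) * s.t * (y 0 * (y 1 * (s.t * y 2 * s.t⁻¹)⁻¹))⁻¹ := by rw [e3, e2]; group
    _ = y 1 * (s.t * y 2 * s.t⁻¹)⁻¹ * (y 0 * s.t * (y 0)⁻¹) * (y 1 * (s.t * y 2 * s.t⁻¹)⁻¹)⁻¹ := by
      rw [h.comm 0 1 (by decide) _ (hy 0) _ p1]; group
    _ = _ := by rw [c0 _ (hy 0)]; group

/-- A commutator `[p, t]` in `⟨r⟩` with `p ∈ R₁` forces `p ∈ ⟨r⟩`. -/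
theorem t_R1 (ht : s.t ≠ 1) {p : G} (hp : p ∈ s.Rn 1) (hc : p * s.t * p⁻¹ * s.t⁻¹ ∈ zpowers s.r) : p = 1 ∨ p = s.r := by
  refine (es2_sup (s.esRn 1) (s.esRn 2) (h.comm 1 2 (by decide))).2.2.2 p hp ?_
  have := mul_mem (zpowers_le.2 (s.esRn 2).z_mem hc) ((h.t_Rn ht).2.2.1 p hp)
  rwa [show p * s.t * p⁻¹ * s.t⁻¹ * (s.t * p * s.t⁻¹) = p by group] at this

/-- The action of `t` on `E`. -/
theorem t_act (ht : s.t ≠ 1) : Nat.card (s.E ⊓ centralizer {s.t} : Subgroup G) = 128 ∧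
    ∀ x ∈ s.E, x * s.t * x⁻¹ * s.t⁻¹ = s.r → False := by
  have rt : s.r * s.t = s.t * s.r := (s.comm_r s.t_mem.1).symm
  refine ⟨?_, fun x hx e => ?_⟩
  · have nR : s.E ⊓ centralizer {s.t} ≤ normalizer (s.Rn 1 : Set G) := fun e he =>
      mem_normalizer_of_conj_mem fun x hx => by
        rcases h.es.aes.conj_eq he.1 (s.Rn_le 1 hx) with a | a <;> rw [a]
        exacts [hx, mul_mem (s.esRn 1).z_mem hx]
    have c := Loc.card_sup_mul_card_inf_of_le_normalizer' nR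
    have e1 : s.Rn 1 ⊔ s.E ⊓ centralizer {s.t} = s.E := by
      refine le_antisymm (sup_le (s.Rn_le 1) inf_le_left) fun x hx => ?_
      obtain ⟨p, hp, e⟩ := h.t_comm ht hx
      rw [show x = p * (p⁻¹ * x) by group]
      refine mul_mem (mem_sup_left hp) (mem_sup_right (mem_inf.2 ⟨mul_mem (inv_mem (s.Rn_le 1 hp)) hx, mem_cen.2 ?_⟩))
      calc p⁻¹ * x * s.t = p⁻¹ * (x * s.t * x⁻¹) * x := by group
        _ = s.t * (p⁻¹ * x) := by rw [e]; group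
    have e2 : s.Rn 1 ⊓ (s.E ⊓ centralizer {s.t}) = zpowers s.r := by
      refine le_antisymm (fun p hp => s.mem_zr.2 (h.t_R1 ht hp.1 ?_))
        (zpowers_le.2 ⟨(s.esRn 1).z_mem, h.es.z_mem, mem_cen.2 rt⟩)
      rw [mem_cen.1 hp.2.2]; simp
    rw [e1, e2, card_zpowers_of_sq h.es.z_ne s.rr, h.card, h.card_Rn] at c
    omega
  · obtain ⟨p, hp, e'⟩ := h.t_comm ht hx
    rw [e'] at e
    refine h.es.z_ne ?_
    rcases h.t_R1 ht hp (e ▸ mem_zpowers _) with rfl | rfl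
    · rw [← e]; group
    · rw [← e]
      nth_rw 1 [rt]; group

/-- A large 2-subgroup of `K ∩ C(t)`. -/
theorem two_ten (ht : s.t ≠ 1) :
    ∃ C ≤ s.M, (∀ x ∈ C, x * s.t = s.t * x) ∧ Nat.card C = 2 ^ 10 := by
  have rt : s.r * s.t = s.t * s.r := (s.comm_r s.t_mem.1).symm
  have d : ∀ u ∈ s.U0, (u * s.s1 * s.t = s.t * (u * s.s1) ↔ ¬ u * s.t = s.t * u) ∧
      (u * s.t * s.s1 * s.t = s.t * (u * s.t * s.s1) ↔ ¬ u * s.t * s.t = s.t * (u * s.t)) :=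
    s.hL.decide (s.repB ht) (by decide +kernel)
  have i2 : (centralizer {s.t}).relIndex s.D2 = 2 := by
    refine index_eq_two_iff.2 ⟨⟨s.s1, mem_sup_left (mem_clos (by simp))⟩, fun b => ?_⟩
    obtain ⟨u, hu, e⟩ := s.mem_D2 b.2
    simp only [mem_subgroupOf, mem_cen, Subgroup.coe_mul, xor_iff_iff_not]
    rcases e with e | e <;> rw [e]
    exacts [(d u hu).1, (d u hu).2]
  have cD : Nat.card (centralizer {s.t} ⊓ s.D2 : Subgroup G) = 16 := by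
    have c := card_mul_relIndex (show centralizer {s.t} ⊓ s.D2 ≤ s.D2 from inf_le_right)
    rw [inf_relIndex_right, i2, (h.card_D2.resolve_left fun a => ht a.2).1] at c
    omega
  have DN : centralizer {s.t} ⊓ s.D2 ≤ s.NK := inf_le_right.trans s.D2_le
  have nC : centralizer {s.t} ⊓ s.D2 ≤ normalizer ((s.E ⊓ centralizer {s.t} : Subgroup G) : Set G) := fun g hg =>
    mem_normalizer_of_conj_mem fun x hx =>
      mem_inf.2 ⟨h.cjE (h.NK_M (DN hg)) hx.1, mul_mem (mul_mem (mem_inf.1 hg).1 (mem_inf.1 hx).2) (inv_mem (mem_inf.1 hg).1)⟩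
  have c := Loc.card_sup_mul_card_inf_of_le_normalizer' nC
  rw [h.card_inf DN ⟨mem_cen.2 rt, mem_sup_left s.r_U0⟩ inf_le_left ⟨h.es.z_mem, mem_cen.2 rt⟩, cD, (h.t_act ht).1] at c
  refine ⟨s.E ⊓ centralizer {s.t} ⊔ centralizer {s.t} ⊓ s.D2, sup_le (inf_le_left.trans h.E_M) (DN.trans h.NK_M),
    fun x hx => mem_cen.1 ((sup_le inf_le_right inf_le_left :
      s.E ⊓ centralizer {s.t} ⊔ centralizer {s.t} ⊓ s.D2 ≤ centralizer {s.t}) hx), by omega⟩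

end Lo.Ek

end Cfsg.Agent.Tr8
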