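import Mathlib
import Cfsg.Agent.Tr8.Defs

/-! From the hypotheses to the decomposition of `Q` (PLAN section LocA). -/

set_option autoImplicit false
set_option linter.unusedSectionVars false

namespace Cfsg.Agent.Tr8

open Cfsg.Agent.Spor Cfsg.Agent.Rec Cfsg.Agent.Inv.Fz Cfsg.Agent.T16 Cfsg.Agent.T3 Cfsg.Agent.T3.LB Subgroup

universe u

variable {G : Type u} [Group G] [Finite G]

namespace LA

open Cfsg.Agent.GT.PG

abbrev X2 : Type := S3 × Multiplicative (ZMod 2)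

/-- The second and third generator of the quaternion group. -/
def jj : S3 := tv 1 * ww * (tv 1)⁻¹
def kk : S3 := ww * jj

theorem s_gen : ∀ m : S3, ∃ a b c d : Fin 4, m = tv 1 ^ a.val * ww ^ b.val * tv 1 ^ c.val * ww ^ d.val := by
  decide +kernel

theorem s_top (T : Submonoid S3) (h1 : tv 1 ∈ T) (h2 : ww ∈ T) (m : S3) : m ∈ T := by
  obtain ⟨a, b, c, d, rfl⟩ := s_gen m
  exact mul_mem (mul_mem (mul_mem (pow_mem h1 _) (pow_mem h2 _)) (pow_mem h1 _)) (pow_mem h2 _)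

theorem rel : ww * ww = -1 ∧ ww * jj = kk ∧ ww * kk = -1 * jj ∧ jj * ww = -1 * kk ∧ jj * jj = -1 ∧ jj * kk = ww ∧
    kk * ww = jj ∧ kk * jj = -1 * ww ∧ kk * kk = -1 ∧ tv 1 * ww = jj * tv 1 ∧ tv 1 * jj = kk * tv 1 ∧
    tv 1 * kk = ww * tv 1 ∧ tv 1 * (tv 1 * tv 1) = 1 ∧ (1 : S3) = -1 * -1 := by decide +kernel

theorem s_uv : ∃ u v : S3, u ^ 3 = 1 ∧ v ^ 3 = 1 ∧ u * v * (u * v) = -1 := by decide +kernel
theorem s_two : ∀ m : S3, m * m = 1 → m = 1 ∨ m = -1 := by decide +kernel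
theorem s_four : ∀ m : S3, m ^ 4 = 1 → m = 1 ∨ m = -1 ∨ m * m = -1 := by decide +kernel
theorem s_nrm : ∀ m n : S3, n ^ 4 = 1 → (m * n * m⁻¹) ^ 4 = 1 ∧ (m * n * m⁻¹ * n⁻¹) ^ 4 = 1 := by decide +kernel
theorem s_cq : ∀ m : S3, m * ww * m⁻¹ * ww⁻¹ = 1 → m * jj * m⁻¹ * jj⁻¹ = 1 → m * m = 1 := by decide +kernel
theorem s_tri : ∀ m : S3, m ^ 4 = 1 → (m * m = 1 ∨ m * m = -1) ∧
    (m * (tv 1 * m * (tv 1)⁻¹) * (tv 1 * (tv 1 * m * (tv 1)⁻¹) * (tv 1)⁻¹) = 1 ∨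
      m * (tv 1 * m * (tv 1)⁻¹) * (tv 1 * (tv 1 * m * (tv 1)⁻¹) * (tv 1)⁻¹) = -1) := by decide +kernel
theorem s_wj : ww ^ 4 = 1 ∧ jj ^ 4 = 1 ∧ (-1 : S3) ^ 4 = 1 ∧ (-1 : S3) ≠ 1 := by decide +kernel
theorem z2_sq : ∀ e : Multiplicative (ZMod 2), e * e = 1 := by decide

/-- The quaternion subgroup. -/
def Q8 : Subgroup S3 where
  carrier := {m | m ^ 4 = 1}
  one_mem' := one_pow 4
  mul_mem' := fun {m n} => (by decide +kernel : ∀ m n : S3, m ^ 4 = 1 → n ^ 4 = 1 → (m * n) ^ 4 = 1) m n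
  inv_mem' := fun {m} h => by rw [Set.mem_ofPred_eq, inv_pow, h, inv_one]

theorem card_Q8 : Nat.card Q8 = 8 := by
  rw [← s_card, ← Fintype.card_subtype, ← Nat.card_eq_fintype_card]; rfl

/-- A module for `SL₂(3)` in characteristic three inverted by the centre contains a non-zero submodule of order at most nine. -/
theorem lin {V : Type*} [AddCommGroup V] [Nontrivial V] (h3 : ∀ v : V, 3 • v = 0) (f : S3 → V →+ V)
    (fm : ∀ m n v, f (m * n) v = f m (f n v)) (fn : ∀ v, f (-1) v = -v) :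
    ∃ B : AddSubgroup V, B ≠ ⊥ ∧ Nat.card B ≤ 9 ∧ ∀ m, ∀ v ∈ B, f m v ∈ B := by
  obtain ⟨r1, r2, r3, r4, r5, r6, r7, r8, r9, c1, c2, c3, c4, r0⟩ := rel
  have f1 : ∀ v, f 1 v = v := fun v => by rw [r0, fm, fn, fn, neg_neg]
  have e : ∀ {m n k : S3}, m * n = k → ∀ v, f m (f n v) = f k v := fun h v => by rw [← fm, h]
  have e' : ∀ {m n k : S3}, m * n = -1 * k → ∀ v, f m (f n v) = -f k v := fun h v => by rw [← fm, h, fm, fn]
  have e'' : ∀ {m n : S3}, m * n = -1 → ∀ v, f m (f n v) = -v := fun h v => by rw [← fm, h, fn]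
  have ec : ∀ {m n : S3}, tv 1 * m = n * tv 1 → ∀ v, f (tv 1) v = v → f (tv 1) (f m v) = f n v := fun h v hv => by
    rw [← fm, h, fm, hv]
  obtain ⟨u, u0, cu⟩ : ∃ u : V, u ≠ 0 ∧ f (tv 1) u = u := by
    obtain ⟨u, hu⟩ := exists_ne (0 : V)
    by_contra! h
    refine h _ (sub_ne_zero.2 (h _ (sub_ne_zero.2 (h u hu)))) ?_
    have k : f (tv 1) (f (tv 1) (f (tv 1) u)) = u := by rw [← fm, ← fm, mul_assoc, c4, f1]
    simp only [map_sub, k]
    linear_combination (norm := abel) h3 (f (tv 1) u - f (tv 1) (f (tv 1) u))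
  obtain ⟨v, v0, cv, tv0⟩ : ∃ v : V, v ≠ 0 ∧ f (tv 1) v = v ∧ f ww v + f jj v + f kk v = 0 := by
    by_cases h : f ww u + f jj u + f kk u = 0
    · exact ⟨u, u0, cu, h⟩
    refine ⟨_, h, ?_, ?_⟩
    · simp only [map_add, ec c1 u cu, ec c2 u cu, ec c3 u cu]; abel
    · simp only [map_add, e'' r1, e r2, e' r3, e' r4, e'' r5, e r6, e r7, e' r8, e'' r9]
      linear_combination (norm := abel) -h3 u
  have cw : f (tv 1) (f ww v) = v + f ww v := by
    have k := congrArg (f ww) tv0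
    simp only [map_add, e'' r1, e r2, e' r3, map_zero] at k
    rw [ec c1 v cv]
    linear_combination (norm := abel) k - tv0 + h3 (f jj v)
  let _ : Module (ZMod 3) V := AddCommGroup.zmodModule h3
  have m1 : v ∈ Submodule.span (ZMod 3) {v, f ww v} := Submodule.subset_span (by simp)
  have m2 : f ww v ∈ Submodule.span (ZMod 3) {v, f ww v} := Submodule.subset_span (by simp)
  refine ⟨(Submodule.span (ZMod 3) {v, f ww v}).toAddSubgroup, fun h => v0 ?_, ?_, fun m => ?_⟩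
  · have : v ∈ (Submodule.span (ZMod 3) {v, f ww v}).toAddSubgroup := m1
    rwa [h] at this
  · refine (Nat.card_le_card_of_surjective (fun p : ZMod 3 × ZMod 3 =>
      (⟨p.1 • v + p.2 • f ww v, Submodule.mem_span_pair.2 ⟨_, _, rfl⟩⟩ :
        (Submodule.span (ZMod 3) {v, f ww v}).toAddSubgroup)) fun x => ?_).trans (by simp)
    obtain ⟨i, j, hx⟩ := Submodule.mem_span_pair.1 x.2
    exact ⟨(i, j), Subtype.ext hx⟩
  · have k : ∀ g : V →+ V, g v ∈ Submodule.span (ZMod 3) {v, f ww v} → g (f ww v) ∈ Submodule.span (ZMod 3) {v, f ww v} →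
        ∀ x ∈ Submodule.span (ZMod 3) {v, f ww v}, g x ∈ Submodule.span (ZMod 3) {v, f ww v} := by
      intro g h1 h2 x hx
      obtain ⟨i, j, rfl⟩ := Submodule.mem_span_pair.1 hx
      rw [map_add, ZMod.map_smul, ZMod.map_smul]
      exact add_mem (Submodule.smul_mem _ _ h1) (Submodule.smul_mem _ _ h2)
    let T : Submonoid S3 :=
      { carrier := {m | ∀ x ∈ Submodule.span (ZMod 3) {v, f ww v}, f m x ∈ Submodule.span (ZMod 3) {v, f ww v}}
        one_mem' := fun x hx => by rwa [f1]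
        mul_mem' := fun hm hn x hx => by rw [fm]; exact hm _ (hn x hx) }
    exact s_top T (k _ (by rwa [cv]) (by rw [cw]; exact add_mem m1 m2)) (k _ m2 (by rw [e'' r1]; exact neg_mem m1)) m

/-- If the central involution inverts `Q / Z`, the action on `Q / Z` is reducible. -/
theorem caseA {a : G} (ex : Ex a) (π : centralizer ({a} : Set G) →* X2) (kπ : ∀ g, π g = 1 → (g : G) ∈ Q3 a)
    (sπ : ∀ m, ∃ g, π g = (m, 1)) (r : centralizer ({a} : Set G)) (hr : π r = (-1, 1)) (hA : ∀ q ∈ Q3 a, Iz a r q) :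
    ∃ B : Subgroup G, zpowers a < B ∧ B < Q3 a ∧
      ∀ g : centralizer ({a} : Set G), (π g).2 = 1 → ∀ b ∈ B, g * b * (g : G)⁻¹ ∈ B := by
  have ca : ∀ g : centralizer ({a} : Set G), (g : G) * a = a * g := fun g => mem_cen.1 g.2
  have cq : ∀ g : centralizer ({a} : Set G), ∀ q ∈ Q3 a, (g : G) * q * (g : G)⁻¹ ∈ Q3 a := fun g q hq =>
    conj_mem_of_mem_norm (norm_Q3 (ca g)) hq
  let Z : Subgroup (Q3 a) := (zpowers a).subgroupOf (Q3 a)
  have : Z.Normal := ⟨fun n hn g => mem_subgroupOf.2 (by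
    have := mem_subgroupOf.1 hn
    push_cast
    rwa [conj_z (ex.comm_a g.2) this])⟩
  have eqZ : ∀ u v : Q3 a, (u : G) * (v : G)⁻¹ ∈ zpowers a → (u : Q3 a ⧸ Z) = v := fun u v h =>
    (QuotientGroup.eq_iff_div_mem).2 (by rw [div_eq_mul_inv]; exact h)
  let _ : CommGroup (Q3 a ⧸ Z) :=
    { (inferInstance : Group (Q3 a ⧸ Z)) with
      mul_comm := fun x y => by
        obtain ⟨x, rfl⟩ := QuotientGroup.mk_surjective x
        obtain ⟨y, rfl⟩ := QuotientGroup.mk_surjective y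
        rw [← QuotientGroup.mk_mul, ← QuotientGroup.mk_mul]
        exact eqZ _ _ (by push_cast; simpa [mul_assoc] using ex.comm _ x.2 _ y.2) }
  let cjq : centralizer ({a} : Set G) → Q3 a →* Q3 a := fun g =>
    ((MulAut.conj (g : G)).toMonoidHom.comp (Q3 a).subtype).codRestrict _ fun q => cq g q q.2
  let F : centralizer ({a} : Set G) → Q3 a ⧸ Z →* Q3 a ⧸ Z := fun g => QuotientGroup.map Z Z (cjq g) fun n hn => by
    have := mem_subgroupOf.1 hn
    change (g : G) * n * (g : G)⁻¹ ∈ zpowers a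
    rwa [conj_z (ca g) this]
  have Fmk : ∀ g (u : Q3 a), F g u = ((⟨g * u * (g : G)⁻¹, cq g u u.2⟩ : Q3 a) : Q3 a ⧸ Z) := fun _ _ => rfl
  have Fm : ∀ g h v, F (g * h) v = F g (F h v) := fun g h v => by
    obtain ⟨v, rfl⟩ := QuotientGroup.mk_surjective v
    rw [Fmk, Fmk, Fmk]
    congr 2
    push_cast; group
  have Fe : ∀ g h, π g = π h → ∀ v, F g v = F h v := fun g h e v => by
    rw [← inv_mul_cancel_right g h, Fm]
    obtain ⟨w, hw⟩ := QuotientGroup.mk_surjective (F h v)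
    rw [← hw, Fmk]
    exact eqZ _ _ (ex.comm _ (kπ (g * h⁻¹) (by rw [map_mul, map_inv, e, mul_inv_cancel])) _ w.2)
  have cV : Nat.card (Q3 a ⧸ Z) = 81 := by
    have := card_eq_card_quotient_mul_card_subgroup Z
    rw [ex.card, Nat.card_congr (subgroupOfEquivOfLe ex.esz.zpowers_le).toEquiv, ex.esz.card_zpowers] at this
    omega
  have : Nontrivial (Q3 a ⧸ Z) := Finite.one_lt_card_iff_nontrivial.1 (by omega)
  choose σ hσ using sπ
  obtain ⟨B, b1, b2, b3⟩ := lin (V := Additive (Q3 a ⧸ Z)) (fun v => by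
      obtain ⟨u, hu⟩ := QuotientGroup.mk_surjective v.toMul
      apply Additive.toMul.injective
      rw [toMul_nsmul, ← hu, ← QuotientGroup.mk_pow]
      exact (QuotientGroup.eq_one_iff _).2 (ex.esz.pow_mem _ u.2))
    (fun m => MonoidHom.toAdditive (F (σ m)))
    (fun m n v => congrArg Additive.ofMul ((Fe _ (σ m * σ n) (by simp [hσ]) _).trans (Fm _ _ _)))
    (fun v => by
      obtain ⟨u, hu⟩ := QuotientGroup.mk_surjective v.toMul
      apply Additive.toMul.injective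
      change F (σ (-1)) v.toMul = v.toMul⁻¹
      rw [Fe _ r (by rw [hσ, hr]), ← hu, Fmk, ← QuotientGroup.mk_inv]
      exact eqZ _ _ (by simpa [Iz] using hA _ u.2))
  have mB : ∀ u : Q3 a, (u : G) ∈ ((AddSubgroup.toSubgroup' B).comap (QuotientGroup.mk' Z)).map (Q3 a).subtype ↔
      Additive.ofMul (u : Q3 a ⧸ Z) ∈ B := fun u => (mem_map_iff_mem (f := (Q3 a).subtype) (Q3 a).subtype_injective)
  refine ⟨((AddSubgroup.toSubgroup' B).comap (QuotientGroup.mk' Z)).map (Q3 a).subtype, lt_of_le_of_ne (fun z hz => ?_)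
    fun h => b1 ?_, lt_of_le_of_ne (map_subtype_le _) fun h => ?_, fun g hg b hb => ?_⟩
  · refine (mB ⟨z, ex.esz.zpowers_le hz⟩).2 ?_
    rw [(QuotientGroup.eq_one_iff _).2 (mem_subgroupOf.2 hz)]
    exact zero_mem B
  · rw [eq_bot_iff]
    intro v hv
    obtain ⟨u, hu⟩ := QuotientGroup.mk_surjective v.toMul
    have := (mB u).2 (by rw [hu]; exact hv)
    rw [← h] at this
    exact Additive.toMul.injective (hu.symm.trans ((QuotientGroup.eq_one_iff _).2 (mem_subgroupOf.2 this)))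
  · have : B = ⊤ := by
      rw [eq_top_iff]
      intro v _
      obtain ⟨u, hu⟩ := QuotientGroup.mk_surjective v.toMul
      have := (mB u).1 (by rw [h]; exact u.2)
      rwa [hu] at this
    rw [this, AddSubgroup.card_top] at b2
    change Nat.card (Q3 a ⧸ Z) ≤ 9 at b2
    omega
  · have bQ : b ∈ Q3 a := map_subtype_le _ hb
    refine (mB ⟨_, cq g b bQ⟩).2 ?_
    have := b3 (π g).1 _ ((mB ⟨b, bQ⟩).1 hb)
    rw [← Fmk g ⟨b, bQ⟩, Fe g (σ (π g).1) (by rw [hσ, ← hg])]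
    exact this

/-- The matrix `m` describes the action of `g` in the basis `x, y`. -/
def Ac (a x y g : G) (m : S3) : Prop :=
  g * x * g⁻¹ * (x ^ (m 0 0).val * y ^ (m 1 0).val)⁻¹ ∈ zpowers a ∧
    g * y * g⁻¹ * (x ^ (m 0 1).val * y ^ (m 1 1).val)⁻¹ ∈ zpowers a

section

variable {P : Subgroup G} {a x y g : G} {m : S3} (p : P27 P a x y) (h : Ac a x y g m)
include p h

theorem Ac.one (k : ∀ u ∈ P, g * u * g⁻¹ * u⁻¹ ∈ zpowers a) : m = 1 := by
  obtain ⟨-, e1, e2⟩ := om_co p h.1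
  obtain ⟨-, e3, -⟩ := om_co p h.2
  obtain ⟨-, f1, f2⟩ := om_co p (w := g * x * g⁻¹) (i := 1) (j := 0) (by simpa [ZMod.val_one] using k _ p.hx)
  obtain ⟨-, f3, -⟩ := om_co p (w := g * y * g⁻¹) (i := 0) (j := 1) (by simpa [ZMod.val_one] using k _ p.hy)
  exact s_ext _ (e1.symm.trans f1) (e2.symm.trans f2) (e3.symm.trans f3)

theorem Ac.neg (tx : g * x * g⁻¹ = x⁻¹) (ty : g * y * g⁻¹ = y⁻¹) : m = -1 := by
  obtain ⟨-, e1, e2⟩ := om_co p h.1
  obtain ⟨-, e3, -⟩ := om_co p h.2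
  rw [tx, om_inv_left p.es p.hx p.hy, om_one p.es p.xy] at e1
  rw [tx, om_inv_right p.es p.hx p.hx, om_self p.es p.hx, neg_zero] at e2
  rw [ty, om_inv_left p.es p.hy p.hy, om_self p.es p.hy, neg_zero] at e3
  exact s_neg _ e1.symm e2.symm e3.symm

theorem Ac.iz (ga : g * a = a * g) (e : m = -1) {u : G} (hu : u ∈ P) : Iz a g u := by
  obtain ⟨m1, e1, e2⟩ := om_co p h.1
  obtain ⟨m2, e3, e4⟩ := om_co p h.2
  have mu := conj_mem_of_mem_norm (p.norm ga m1 m2) hu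
  subst e
  apply p.mem_z' (mul_mem mu hu)
  · rw [om_mul_right p.es p.hx mu hu, om_swap p.es mu p.hx, p.om_conj_left p.es ga hu p.hx m1 m2,
      om_swap p.es p.hx m1, om_swap p.es p.hx m2, e2, e4]
    simp
  · rw [om_mul_left p.es mu hu p.hy, p.om_conj_left p.es ga hu p.hy m1 m2, e1, e3]
    simp

end

theorem exists_tau {a : G} (ex : Ex a) (π : centralizer ({a} : Set G) →* X2) (kπ : ∀ g, π g = 1 ↔ (g : G) ∈ Q3 a)
    (sπ : ∀ m, ∃ g, π g = (m, 1)) : ∃ τ : Q8 →* centralizer ({a} : Set G), ∀ s, π (τ s) = (s.1, 1) := by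
  let E : Subgroup (centralizer ({a} : Set G)) := (Q8.prod ⊥).comap π
  let π0 : E →* Q8 := ((MonoidHom.fst _ _).comp (π.comp E.subtype)).codRestrict Q8 fun x => x.2.1
  have k : π0.ker = ((Q3 a).subgroupOf (centralizer {a})).subgroupOf E := by
    ext x
    rw [MonoidHom.mem_ker, mem_subgroupOf, mem_subgroupOf, ← kπ, Subtype.ext_iff, Prod.ext_iff]
    exact ⟨fun h => ⟨h, x.2.2⟩, fun h => h.1⟩
  have le : (Q3 a).subgroupOf (centralizer {a}) ≤ E := fun x hx => by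
    change π x ∈ Q8.prod ⊥
    rw [(kπ x).2 hx]; exact one_mem _
  obtain ⟨σ, hσ⟩ := exists_sect π0 (fun s => by
      obtain ⟨g, hg⟩ := sπ s
      exact ⟨⟨g, show π g ∈ Q8.prod ⊥ from hg ▸ ⟨s.2, rfl⟩⟩, Subtype.ext (congrArg Prod.fst hg)⟩)
    (by rw [k, Nat.card_congr (subgroupOfEquivOfLe le).toEquiv,
          Nat.card_congr (subgroupOfEquivOfLe (show Q3 a ≤ centralizer {a} from map_subtype_le _)).toEquiv, card_Q8, ex.card]
        norm_num)
  exact ⟨E.subtype.comp σ, fun s => Prod.ext (congrArg Subtype.val (hσ s)) (σ s).2.2⟩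

theorem caseB {a : G} (ex : Ex a) (exp : ∀ q ∈ Q3 a, q ^ 3 = 1) (idx : ¬ 3 ∣ (centralizer ({a} : Set G)).index)
    (π : centralizer ({a} : Set G) →* X2) (kπ : ∀ g, π g = 1 → (g : G) ∈ Q3 a) (sπ : ∀ m, ∃ g, π g = (m, 1))
    (τ : Q8 →* centralizer ({a} : Set G)) (hτ : ∀ s, π (τ s) = (s.1, 1)) {n : Q8} (hn : n.1 = -1) {r : G} (hr : r = τ n)
    {P1 P2 : Subgroup G} {x y : G} (s : Sp2 (Q3 a) P1 P2 a) (p1 : P27 P1 a x y) (tx : r * x * r⁻¹ = x⁻¹)
    (ty : r * y * r⁻¹ = y⁻¹) (c2 : ∀ v ∈ P2, r * v = v * r) : Nonempty (Hx a) := by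
  have es := ex.esz
  have ca : ∀ g : centralizer ({a} : Set G), (g : G) * a = a * g := fun g => mem_cen.1 g.2
  have cq : ∀ g : centralizer ({a} : Set G), ∀ q ∈ Q3 a, (g : G) * q * (g : G)⁻¹ ∈ Q3 a := fun g q hq =>
    conj_mem_of_mem_norm (norm_Q3 (ca g)) hq
  have ra : r * a = a * r := hr ▸ ca _
  have r2 : r * r = 1 := by
    rw [hr, ← coe_mul, ← map_mul, show n * n = 1 from Subtype.ext (by simp [hn]), map_one,
      coe_one]
  have i1 : ∀ u ∈ P1, Iz a r u := fun u hu => p1.iz ra tx ty hu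
  have n1 : centralizer ({a} : Set G) ≤ normalizer (P1 : Set G) := fun g hg => by
    have hq : g * r * g⁻¹ * r⁻¹ ∈ Q3 a := by
      have := kπ (⟨g, hg⟩ * τ n * ⟨g, hg⟩⁻¹ * (τ n)⁻¹) (by
        simp only [map_mul, map_inv, hτ, hn]
        exact Prod.ext (s_negc _) (by simp))
      rw [hr]
      exact this
    rw [← cj_eq_iff]
    refine eq_of_le_of_card_ge (cj_le_iff.2 fun u hu => s.mem_iff i1 c2 (cq ⟨g, hg⟩ u (s.le1 hu)) ?_) (card_cj _ _).ge
    rw [← iz_q es hq (conj_mem_of_mem_norm (norm_Q3 ra) (cq ⟨g, hg⟩ u (s.le1 hu))), inv_mul_cancel_right,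
      iz_conj (mem_cen.1 hg)]
    exact i1 u hu
  have n2 : centralizer ({a} : Set G) ≤ normalizer (P2 : Set G) := fun g hg => s.norm2 (norm_Q3 (mem_cen.1 hg)) (n1 hg)
  obtain ⟨x2, hx2, y2, hy2, xy2⟩ := s.es2.exists_pair fun e => by have := s.es2.eq_zpowers_iff_card.1 e; have := s.c2; omega
  have p2 : P27 P2 a x2 y2 := ⟨s.es2, s.c2, hx2, hy2, xy2⟩
  obtain ⟨ψ, act, ker⟩ := p1.exists_psi le_rfl n1
  obtain ⟨χ, act2, ker2⟩ := p2.exists_psi le_rfl n2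
  have lift : ∀ {P : Subgroup G} {x y : G} (_ : P27 P a x y) (_ : P ≤ Q3 a) (φ : centralizer ({a} : Set G) →* S3)
      (_ : ∀ g : centralizer ({a} : Set G), Ac a x y g (φ g)) g h, π g = π h → φ g = φ h := by
    intro P x y p le φ ac g h e
    rw [← mul_inv_eq_one, ← map_inv, ← map_mul]
    exact (ac _).one p fun u hu => ex.comm _ (kπ _ (by rw [map_mul, map_inv, e, mul_inv_cancel])) _ (le hu)
  have ψr : ψ (τ n) = -1 := Ac.neg p1 (act _) (hr ▸ tx) (hr ▸ ty)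
  have χr : χ (τ n) = 1 := Ac.one p2 (act2 _) fun u hu => by rw [← hr, c2 u hu]; simp
  have inj : ∀ t : Q8, ψ (τ t) = 1 → t = 1 := fun t ht => by
    rcases s_four t t.2 with e | e | e
    · exact Subtype.ext e
    · rw [show t = n from Subtype.ext (e.trans hn.symm), ψr] at ht
      exact absurd ht s_wj.2.2.2
    · rw [← show t * t = n from Subtype.ext (e.trans hn.symm), map_mul, map_mul, ht, one_mul] at ψr
      exact absurd ψr.symm s_wj.2.2.2
  have pm : ∀ t : Q8, t.1 = 1 ∨ t.1 = -1 → χ (τ t) = 1 := by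
    rintro t (e | e)
    · rw [show t = 1 from Subtype.ext e, map_one, map_one]
    · rw [show t = n from Subtype.ext (e.trans hn.symm), χr]
  have sq : ∀ t : Q8, χ (τ t) * χ (τ t) = 1 := fun t => by
    rw [← map_mul, ← map_mul]; exact pm _ (s_tri t t.2).1
  obtain ⟨c, hc⟩ := sπ (tv 1)
  have cj1 : ∀ t : Q8, ∃ t' : Q8, t'.1 = tv 1 * t * (tv 1)⁻¹ ∧ χ (τ t') = χ (τ t) := fun t => by
    obtain ⟨t', ht⟩ : ∃ t' : Q8, t'.1 = tv 1 * t * (tv 1)⁻¹ := ⟨⟨_, (s_nrm _ _ t.2).1⟩, rfl⟩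
    refine ⟨t', ht, ?_⟩
    rw [lift p2 s.le2 χ act2 _ (c * τ t * c⁻¹) (by simp [hτ, hc, ht]), map_mul, map_mul, map_inv]
    rcases s_two _ (sq t) with e | e <;> rw [e] <;> simp
  have one : ∀ t : Q8, χ (τ t) = 1 := fun t => by
    obtain ⟨t1, h1, e1⟩ := cj1 t
    obtain ⟨t2, h2, e2⟩ := cj1 t1
    have k := pm (t * t1 * t2) (by rw [coe_mul, coe_mul, h2, h1]; exact (s_tri t t.2).2)
    rwa [map_mul, map_mul, map_mul, map_mul, e2, e1, sq, one_mul] at k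
  have τi : Function.Injective ((centralizer ({a} : Set G)).subtype.comp τ) := (injective_iff_map_eq_one _).2 fun t ht =>
    inj t (by rw [show τ t = 1 from Subtype.ext ht, map_one])
  refine ⟨⟨P1, P2, ((centralizer ({a} : Set G)).subtype.comp τ).range, r, x, y, ψ, ex, exp, idx, s,
    ⟨p1.eq_clos, p1.card, p1.xy, tx, ty, s.le1.trans (map_subtype_le _), ?_, ⟨_, hr.symm⟩, r2, ?_, ?_, act⟩, ?_, ?_⟩⟩
  · rintro _ ⟨t, rfl⟩; exact (τ t).2
  · rw [← card_Q8]; exact (Nat.card_congr (MonoidHom.ofInjective τi).toEquiv).symm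
  · rintro g ⟨t, ht⟩ h
    have e : g = τ t := Subtype.ext ht.symm
    rw [e, inj t (e ▸ h), map_one]
  · rintro _ ⟨t, rfl⟩ v hv
    refine comm_of_four s.es2 ?_ (ca _) (ker2 _ (one t) v hv)
    rw [← map_pow, show t ^ 4 = 1 from Subtype.ext t.2, map_one]
  · intro g hg
    have k : ∀ t : Q8, (π g).1 * t * (π g).1⁻¹ * t.1⁻¹ = 1 := fun t => by
      refine congrArg Subtype.val (inj ⟨_, (s_nrm _ _ t.2).2⟩ ?_)
      rw [lift p1 s.le1 ψ act _ (g * τ t * g⁻¹ * (τ t)⁻¹) (by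
        simp only [map_mul, map_inv, hτ]; exact Prod.ext rfl (by simp))]
      simp only [map_mul, map_inv, hg]; group
    have e := lift p2 s.le2 χ act2 (g * g) 1 (by
      rw [map_mul, map_one]
      exact Prod.ext (s_cq _ (k ⟨ww, s_wj.1⟩) (k ⟨jj, s_wj.2.1⟩)) (z2_sq _))
    rw [map_mul, map_one] at e
    rcases s_two _ e with e | e
    · refine Or.inl (ex.mem_of_triv (ca g) fun q hq => ?_)
      obtain ⟨u, hu, v, hv, rfl⟩ := s.dec q hq
      rw [show (g : G) * (u * v) * (g : G)⁻¹ * (u * v)⁻¹ =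
        g * u * (g : G)⁻¹ * u⁻¹ * (u * (g * v * (g : G)⁻¹ * v⁻¹) * u⁻¹) by group,
        conj_z (ex.comm_a (s.le1 hu)) (ker2 g e v hv)]
      exact mul_mem (ker g hg u hu) (ker2 g e v hv)
    · exact Or.inr fun v hv => Ac.iz p2 (act2 g) (ca g) e hv

theorem res {Y : Type*} [Group Y] (ι : Y →* X2) (inj : Function.Injective ι) (sj : ∀ m, ∃ y, ι y = (m, 1)) :
    (∀ y ∈ pResidual 2 Y, (ι y).2 = 1) ∧ ∀ y, ι y = (-1, 1) → y ∈ pResidual 2 Y := by
  constructor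
  · refine (closure_le ((MonoidHom.snd _ _).comp ι).ker).2 fun y hy => ?_
    obtain ⟨n, hn⟩ := Nat.coprime_two_right.1 hy
    have h := congrArg (fun w => (ι w).2) (pow_orderOf_eq_one y)
    simp only [map_pow, Prod.pow_snd, map_one, Prod.snd_one] at h
    rwa [hn, pow_succ, pow_mul, pow_two, z2_sq, one_pow, one_mul] at h
  · obtain ⟨u, v, u3, v3, e⟩ := s_uv
    have k : ∀ m : S3, m ^ 3 = 1 → ∃ y ∈ pResidual 2 Y, ι y = (m, 1) := fun m h => by
      obtain ⟨y, hy⟩ := sj m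
      refine ⟨y, subset_closure ?_, hy⟩
      exact Nat.Coprime.coprime_dvd_left (orderOf_dvd_of_pow_eq_one (n := 3) (inj (by rw [map_pow, hy]; simp [h])))
        (by norm_num)
    obtain ⟨y1, m1, e1⟩ := k u u3
    obtain ⟨y2, m2, e2⟩ := k v v3
    intro y hy
    rw [show y = y1 * y2 * (y1 * y2) from inj (by simp [hy, e1, e2, e])]
    exact mul_mem (mul_mem m1 m2) (mul_mem m1 m2)

end LA

open LA in
theorem exists_hx (S : Sylow 3 G) (Z : Subgroup G)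
    (hZ : Z = (S : Subgroup G) ⊓ Subgroup.centralizer ((S : Subgroup G) : Set G))
    (C : Subgroup G) (hCZ : C = Subgroup.centralizer (Z : Set G))
    (Q : Subgroup G) (hQ : Q = (Cfsg.pCore 3 C).map C.subtype)
    (hQex : Cfsg.IsExtraspecial 3 Q) (hQcard : Nat.card Q = 3 ^ 5) (hQexp : ∀ a ∈ Q, a ^ 3 = 1)
    (hCQ : Subgroup.centralizer (Q : Set G) ≤ Q)
    (K : Subgroup G)
    (hK : K = ((Cfsg.pResidual 2 (C ⧸ Cfsg.pCore 3 C)).comap (QuotientGroup.mk' (Cfsg.pCore 3 C))).map C.subtype)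
    (r : ℕ) (A : Fin (r + 1) → Subgroup G) (hA0 : A 0 = Z) (hAr : A (Fin.last r) = Q)
    (hmono : ∀ i : Fin r, A i.castSucc < A i.succ)
    (hmax : ∀ i : Fin r, ∀ B : Subgroup G, A i.castSucc < B → B < A i.succ → ∃ k ∈ K, ∃ b ∈ B, k * b * k⁻¹ ∉ B)
    (e : Nonempty (C ⧸ Cfsg.pCore 3 C ≃* Matrix.SpecialLinearGroup (Fin 2) (ZMod 3)) ∨
      Nonempty (C ⧸ Cfsg.pCore 3 C ≃* Matrix.SpecialLinearGroup (Fin 2) (ZMod 3) × Multiplicative (ZMod 2)))
    (hone : ∃! i : Fin r, (∃ k ∈ K, ∃ a ∈ A i.succ, k * a * k⁻¹ * a⁻¹ ∉ A i.castSucc)) :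
    ∃ a : G, Z = zpowers a ∧ Q = Q3 a ∧ Nonempty (Hx a) := by
  have SC : (S : Subgroup G) ≤ C := fun g hg => by
    rw [hCZ]
    intro z hz
    rw [hZ] at hz
    exact (hz.2 g hg).symm
  have QS : Q ≤ S := hQ ▸ GT.pCoreOf_le_sylow_of_le S SC
  obtain ⟨z, hz, -⟩ := GT.PG.exists_esz hQex
  have Zz : Z ≤ zpowers z := fun w hw => by
    rw [hZ] at hw
    have : w ∈ centralizer (Q : Set G) := centralizer_le QS hw.2
    exact hz.center_eq ▸ ⟨hCQ this, this⟩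
  obtain ⟨a, aZ, a1⟩ : ∃ a ∈ Z, a ≠ 1 := by
    have : Nontrivial S := ⟨⟨⟨z, QS hz.z_mem⟩, 1, fun h => hz.z_ne_one (congrArg Subtype.val h)⟩⟩
    have := S.isPGroup'.center_nontrivial
    obtain ⟨w, hw⟩ := exists_ne (1 : center S)
    refine ⟨w.1, hZ ▸ ⟨w.1.2, fun g hg => congrArg Subtype.val (mem_center_iff.1 w.2 ⟨g, hg⟩)⟩, fun h => hw ?_⟩
    exact Subtype.ext (Subtype.ext h)
  have az := hz.zpowers_eq_of_mem (Zz aZ) a1
  have Za : Z = zpowers a := le_antisymm (az ▸ Zz) (zpowers_le.2 aZ)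
  have hC : C = centralizer {a} := by rw [hCZ, Za, zpowers_eq_closure, centralizer_closure]
  clear hCZ hZ
  subst hC
  have eQ : Q = Q3 a := hQ
  clear hQ
  subst eQ Za
  have ex : Ex a := ⟨by rw [← Nat.card_zpowers, az, hz.card_zpowers], hz.zpowers_le (Zz aZ), by rw [hQcard]; norm_num,
    az ▸ hz.comm_mem, fun g hg => az ▸ hz.center_eq ▸ ⟨hCQ hg, hg⟩⟩
  refine ⟨a, rfl, rfl, ?_⟩
  obtain ⟨ι, inj, sj⟩ : ∃ ι : centralizer ({a} : Set G) ⧸ pCore 3 (centralizer ({a} : Set G)) →* X2,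
      Function.Injective ι ∧ ∀ m, ∃ y, ι y = (m, 1) := by
    rcases e with ⟨⟨e⟩⟩ | ⟨⟨e⟩⟩
    · exact ⟨(MonoidHom.inl _ _).comp e.toMonoidHom, fun y y' h => e.injective (congrArg Prod.fst h),
        fun m => ⟨e.symm m, Prod.ext (e.apply_symm_apply m) rfl⟩⟩
    · exact ⟨e.toMonoidHom, e.injective, fun m => e.surjective _⟩
  obtain ⟨k1, k2⟩ := res ι inj sj
  have kπ : ∀ g, ι.comp (QuotientGroup.mk' _) g = 1 ↔ (g : G) ∈ Q3 a := fun g => by
    rw [MonoidHom.comp_apply, map_eq_one_iff _ inj, QuotientGroup.mk'_apply, QuotientGroup.eq_one_iff]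
    exact (mem_map_iff_mem (f := (centralizer ({a} : Set G)).subtype) (subtype_injective _)).symm
  have sπ : ∀ m, ∃ g, ι.comp (QuotientGroup.mk' _) g = (m, 1) := fun m => by
    obtain ⟨y, hy⟩ := sj m
    obtain ⟨g, rfl⟩ := QuotientGroup.mk_surjective y
    exact ⟨g, hy⟩
  obtain ⟨τ, hτ⟩ := exists_tau ex _ kπ sπ
  obtain ⟨n, hn⟩ : ∃ n : Q8, n.1 = -1 := ⟨⟨-1, s_wj.2.2.1⟩, rfl⟩
  have πn : ι.comp (QuotientGroup.mk' _) (τ n) = (-1, 1) := by rw [hτ, hn]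
  have t2 : (τ n : G) * τ n = 1 := by
    rw [← coe_mul, ← map_mul, show n * n = 1 from Subtype.ext (by simp [hn]), map_one,
      coe_one]
  have t1 : (τ n : G) ≠ 1 := fun h => by
    rw [show τ n = 1 from Subtype.ext h, map_one] at πn
    exact s_wj.2.2.2 (congrArg Prod.fst πn).symm
  rcases ex.types t2 t1 (mem_cen.1 (τ _).2) with hA | ⟨P1, P2, x, y, s, p1, tx, ty, c2⟩
  swap
  · exact caseB ex hQexp (fun h => S.not_dvd_index (h.trans (index_dvd_of_le SC))) _ (fun g => (kπ g).1) sπ τ hτ hn rfl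
      s p1 tx ty c2
  exfalso
  obtain ⟨B, b1, b2, b3⟩ := caseA ex _ (fun g => (kπ g).1) sπ _ πn hA
  have mono := (Fin.strictMono_iff_lt_succ.2 hmono).monotone
  have all : ∀ i : Fin r, ∃ k ∈ K, ∃ a ∈ A i.succ, k * a * k⁻¹ * a⁻¹ ∉ A i.castSucc := fun i => by
    obtain ⟨x, hx, hx'⟩ := SetLike.exists_of_lt (hmono i)
    have xQ : x ∈ Q3 a := hAr ▸ mono (Fin.le_last _) hx
    refine ⟨τ n, by rw [hK]; exact ⟨_, k2 _ πn, rfl⟩, x, hx, fun h => hx' ?_⟩
    have h' := mono (Fin.zero_le i.castSucc) (hA0.ge (hA x xQ))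
    have := inv_mem (mul_mem (inv_mem h) h')
    rwa [show ∀ t : G, ((t * x * t⁻¹ * x⁻¹)⁻¹ * (t * x * t⁻¹ * x))⁻¹ = x * (x ^ 3)⁻¹ from fun t => by group,
      hQexp x xQ, inv_one, mul_one] at this
  obtain ⟨i, -, hi⟩ := hone
  obtain rfl : r = 1 := by
    have : Unique (Fin r) := ⟨⟨i⟩, fun j => hi j (all j)⟩
    rw [← Nat.card_fin r, Nat.card_unique]
  obtain ⟨k, hk, b, hb, h⟩ := hmax 0 B (hA0.le.trans_lt b1) (b2.trans_le hAr.ge)
  rw [hK] at hk
  obtain ⟨g, hg, rfl⟩ := hk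
  exact h (b3 g (k1 _ hg) b hb)

end Cfsg.Agent.Tr8
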