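import Mathlib
import Cfsg.Agent.Tr8.Defs
import Cfsg.Agent.F4T.LocA

/-!
The action of `C(a)` on the two factors of `Q3 a`.
-/

set_option autoImplicit false
set_option linter.unusedSectionVars false

namespace Cfsg.Agent.Tr8

open Cfsg.Agent.Spor Cfsg.Agent.Rec Cfsg.Agent.Inv.Fz Cfsg.Agent.T16 Cfsg.Agent.T3 Cfsg.Agent.T3.LB Subgroup
open Cfsg.Agent.GT.PG
open scoped commutatorElement

universe u

variable {G : Type u} [Group G] [Finite G]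

theorem s_two : ∀ m : S3, m * m = 1 → m = 1 ∨ m = -1 := by decide +kernel

/-- `ψ` is the action of `C(a)` on the factor `P = ⟨a, x, y⟩` of `Q3 a = P P'`. -/
structure Ft (a : G) (P P' : Subgroup G) (x y : G) (ψ : centralizer ({a} : Set G) →* S3) : Prop where
  ex : Ex a
  exp : ∀ q ∈ Q3 a, q ^ 3 = 1
  sp : Sp2 (Q3 a) P P' a
  p1 : P27 P a x y
  act : ∀ g : centralizer ({a} : Set G), (g * x * (g : G)⁻¹ * (x ^ (ψ g 0 0).val * y ^ (ψ g 1 0).val)⁻¹ ∈ zpowers a) ∧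
    (g * y * (g : G)⁻¹ * (x ^ (ψ g 0 1).val * y ^ (ψ g 1 1).val)⁻¹ ∈ zpowers a)

theorem ca {a : G} (g : centralizer ({a} : Set G)) : (g : G) * a = a * g := mem_cen.1 g.2

theorem QN {a : G} (ex : Ex a) : Q3 a ≤ centralizer {a} := fun _ hq => mem_cen.2 (ex.comm_a hq)

namespace Ft

variable {a x y x' y' : G} {P P' : Subgroup G} {ψ ψ' : centralizer ({a} : Set G) →* S3} (D : Ft a P P' x y ψ)
include D

theorem es : ESZ 3 (Q3 a) a := D.ex.esz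
theorem c12 : ∀ p ∈ P, ∀ q ∈ P', p * q = q * p := fun _ hp _ hq => D.sp.comm hp hq

theorem n1 (g : centralizer ({a} : Set G)) : (g : G) ∈ normalizer (P : Set G) :=
  D.p1.norm (ca g) (om_co D.p1 (D.act g).1).1 (om_co D.p1 (D.act g).2).1

theorem n2 (g : centralizer ({a} : Set G)) : (g : G) ∈ normalizer (P' : Set G) := D.sp.norm2 (norm_Q3 (ca g)) (D.n1 g)

/-- The action on the other factor. -/
theorem other (p : P27 P' a x' y') : ∃ ψ', Ft a P' P x' y' ψ' :=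
  (p.exists_psi le_rfl fun g hg => D.n2 ⟨g, hg⟩).imp fun _ h => ⟨D.ex, D.exp, D.sp.symm, p, h.1⟩

theorem xQ : x ∈ Q3 a := D.sp.le1 D.p1.hx
theorem yQ : y ∈ Q3 a := D.sp.le1 D.p1.hy
theorem x3 : x ^ 3 = 1 := D.exp _ D.xQ
theorem y3 : y ^ 3 = 1 := D.exp _ D.yQ
theorem cube1 {p : G} (hp : p ∈ P) : p ^ 3 = 1 := D.exp _ (D.sp.le1 hp)
theorem xy : x * y * x⁻¹ * y⁻¹ = a := D.p1.xy

theorem xz : x ∉ zpowers a := fun h => D.es.z_ne_one (by
  rw [← D.p1.xy]; exact commutatorElement_eq_one_iff_mul_comm.2 (D.es.commute_of_mem_zpowers D.yQ h).symm.eq)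

theorem vx : y * x * y⁻¹ = x * a⁻¹ := by
  have xa : Commute x a := D.ex.comm_a D.xQ
  calc _ = x * (x⁻¹ * (x * y * x⁻¹ * y⁻¹)⁻¹ * x) := by group
    _ = _ := by rw [D.xy, mul_assoc, ← xa.inv_right.eq]; group

theorem key (g : centralizer ({a} : Set G)) {p : G} (hp : p ∈ P) :
    om a (g * p * (g : G)⁻¹) y = ψ g 0 0 * om a p y + ψ g 0 1 * om a x p ∧
      om a x (g * p * (g : G)⁻¹) = ψ g 1 0 * om a p y + ψ g 1 1 * om a x p := by
  obtain ⟨m1, e1, e2⟩ := om_co D.p1 (D.act g).1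
  obtain ⟨m2, e3, e4⟩ := om_co D.p1 (D.act g).2
  have h := D.p1
  refine ⟨by rw [h.om_conj_left h.es (ca g) hp h.hy m1 m2, e1, e3], ?_⟩
  rw [om_swap h.es (conj_mem_of_mem_norm (D.n1 g) hp) h.hx, h.om_conj_left h.es (ca g) hp h.hx m1 m2,
    om_swap h.es h.hx m1, om_swap h.es h.hx m2, e2, e4]
  ring

variable {g : centralizer ({a} : Set G)}

theorem ap {k : ZMod 3} (h : ψ g = tv k) {p : G} (hp : p ∈ P) :
    g * p * (g : G)⁻¹ * p⁻¹ * (x ^ (k * om a x p).val)⁻¹ ∈ zpowers a := by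
  obtain ⟨k1, k2⟩ := D.key g hp
  have m := conj_mem_of_mem_norm (D.n1 g) hp
  have e := D.p1.es
  have m' := pow_mem D.p1.hx (k * om a x p).val
  rw [h] at k1 k2
  apply D.p1.mem_z' (mul_mem (mul_mem m (inv_mem hp)) (inv_mem m'))
  · rw [om_mul_right e D.p1.hx (mul_mem m (inv_mem hp)) (inv_mem m'), om_mul_right e D.p1.hx m (inv_mem hp),
      om_inv_right e D.p1.hx hp, om_inv_right e D.p1.hx m', om_pow_right e D.p1.hx D.p1.hx, om_self e D.p1.hx, k2]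
    simp [tv]
  · rw [om_mul_left e (mul_mem m (inv_mem hp)) (inv_mem m') D.p1.hy, om_mul_left e m (inv_mem hp) D.p1.hy,
      om_inv_left e hp D.p1.hy, om_inv_left e m' D.p1.hy, om_pow_left e D.p1.hx D.p1.hy, om_one e D.p1.xy, k1]
    simp [tv]

theorem triv1 (h : ψ g = 1) {p : G} (hp : p ∈ P) : g * p * (g : G)⁻¹ * p⁻¹ ∈ zpowers a := by
  simpa using D.ap (h.trans tv_zero.symm) hp

theorem au {k : ZMod 3} (h : ψ g = tv k) : g * x * (g : G)⁻¹ * x⁻¹ ∈ zpowers a := by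
  simpa [om_self D.p1.es D.p1.hx] using D.ap h D.p1.hx

/-- The action of a transvection on `y`. -/
theorem ay {k : ZMod 3} (h : ψ g = tv k) : g * y * (g : G)⁻¹ * y⁻¹ * (x ^ k.val)⁻¹ ∈ zpowers a := by
  simpa [om_one D.p1.es D.p1.xy] using D.ap h D.p1.hy

theorem col1 {i j : ZMod 3} (h : g * x * (g : G)⁻¹ * (x ^ i.val * y ^ j.val)⁻¹ ∈ zpowers a) : ψ g 0 0 = i ∧ ψ g 1 0 = j := by
  obtain ⟨-, e1, e2⟩ := om_co D.p1 (D.act g).1
  obtain ⟨-, e3, e4⟩ := om_co D.p1 h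
  exact ⟨e1.symm.trans e3, e2.symm.trans e4⟩

theorem col2 {i j : ZMod 3} (h : g * y * (g : G)⁻¹ * (x ^ i.val * y ^ j.val)⁻¹ ∈ zpowers a) : ψ g 0 1 = i :=
  (om_co D.p1 (D.act g).2).2.1.symm.trans (om_co D.p1 h).2.1

/-- An element fixing `x` modulo `⟨a⟩` is a transvection. -/
theorem typ (h : g * x * (g : G)⁻¹ * x⁻¹ ∈ zpowers a) : ψ g = tv (ψ g 0 1) := by
  have := D.col1 (g := g) (i := 1) (j := 0) (by simpa [ZMod.val_one] using h)
  exact F4L.LA.s_tv _ this.1 this.2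

theorem one1 (h : ∀ p ∈ P, g * p * (g : G)⁻¹ * p⁻¹ ∈ zpowers a) : ψ g = 1 := by
  have h1 := D.col1 (g := g) (i := 1) (j := 0) (by simpa [ZMod.val_one] using h _ D.p1.hx)
  exact s_ext _ h1.1 h1.2 (D.col2 (j := 1) (by simpa [ZMod.val_one] using h _ D.p1.hy))

theorem neg (h : ∀ p ∈ P, Iz a g p) : ψ g = -1 := by
  have e : ∀ w : G, w ^ 3 = 1 → w ^ (-1 : ZMod 3).val = w⁻¹ := fun w h => by rw [pow_val_neg h, ZMod.val_one, pow_one]
  have h1 := D.col1 (g := g) (i := -1) (j := 0) (by rw [e _ D.x3]; simpa [Iz] using h _ D.p1.hx)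
  exact s_neg _ h1.1 h1.2 (D.col2 (j := -1) (by rw [e _ D.y3]; simpa [Iz] using h _ D.p1.hy))

theorem oneQ (h : (g : G) ∈ Q3 a) : ψ g = 1 := D.one1 fun _ hp => D.ex.comm _ h _ (D.sp.le1 hp)

theorem ker (D' : Ft a P' P x' y' ψ') (h1 : ψ g = 1) (h2 : ψ' g = 1) : (g : G) ∈ Q3 a := by
  refine D.ex.mem_of_triv (ca g) fun q hq => ?_
  obtain ⟨u, hu, v, hv, rfl⟩ := D.sp.dec q hq
  have e : g * (u * v) * (g : G)⁻¹ * (u * v)⁻¹ = (g * u * (g : G)⁻¹ * u⁻¹) * (u * (g * v * (g : G)⁻¹ * v⁻¹) * u⁻¹) := by group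
  rw [e, conj_z (D.ex.comm_a (D.sp.le1 hu)) (D'.triv1 h2 hv)]
  exact mul_mem (D.triv1 h1 hu) (D'.triv1 h2 hv)

theorem o12 {p q : G} (hp : p ∈ P) (hq : q ∈ P') : om a p q = 0 ∧ om a q p = 0 :=
  ⟨(om_eq_zero D.es (D.sp.le1 hp) (D.sp.le2 hq)).2 (D.c12 p hp q hq),
    (om_eq_zero D.es (D.sp.le2 hq) (D.sp.le1 hp)).2 (D.c12 p hp q hq).symm⟩

theorem keyQ {k : ZMod 3} (h : ψ g = tv k) {q : G} (hq : q ∈ Q3 a) :
    om a (g * q * (g : G)⁻¹ * q⁻¹) y = k * om a x q ∧ om a x (g * q * (g : G)⁻¹ * q⁻¹) = 0 := by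
  have m := conj_mem_of_mem_norm (norm_Q3 (ca g)) hq
  rw [om_mul_left D.es m (inv_mem hq) D.yQ, om_inv_left D.es hq D.yQ, om_mul_right D.es D.xQ m (inv_mem hq),
    om_inv_right D.es D.xQ hq]
  obtain ⟨u, hu, v, hv, rfl⟩ := D.sp.dec q hq
  have mu := conj_mem_of_mem_norm (D.n1 g) hu
  have mv := conj_mem_of_mem_norm (D.n2 g) hv
  obtain ⟨k1, k2⟩ := D.key g hu
  rw [← conj_mul, om_mul_left D.es (D.sp.le1 mu) (D.sp.le2 mv) D.yQ, om_mul_left D.es (D.sp.le1 hu) (D.sp.le2 hv) D.yQ,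
    om_mul_right D.es D.xQ (D.sp.le1 mu) (D.sp.le2 mv), om_mul_right D.es D.xQ (D.sp.le1 hu) (D.sp.le2 hv),
    (D.o12 D.p1.hy mv).2, (D.o12 D.p1.hy hv).2, (D.o12 D.p1.hx mv).1, (D.o12 D.p1.hx hv).1, k1, k2, h]
  simp [tv]

theorem cu {k : ZMod 3} (h : ψ g = tv k) (hk : k ≠ 0) {q : G} (hq : q ∈ Q3 a) (e : q * g = g * q) : q * x = x * q := by
  have e1 := (D.keyQ h hq).1
  rw [← e, mul_inv_cancel_right, mul_inv_cancel, om_z_left D.es (one_mem _) D.yQ] at e1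
  exact ((om_eq_zero D.es D.xQ hq).1 ((mul_eq_zero.1 e1.symm).resolve_left hk)).symm

theorem cen_uw {u w q : G} (hu : u ∈ P) (uz : u ∉ zpowers a) (hw : w ∈ P') (wz : w ∉ zpowers a) (hq : q ∈ Q3 a)
    (e1 : q * u = u * q) (e2 : q * w = w * q) : ∃ z ∈ zpowers a, ∃ i j : ZMod 3, q = z * u ^ i.val * w ^ j.val := by
  obtain ⟨p, hp, p', hp', rfl⟩ := D.sp.dec q hq
  rw [mul_assoc, ← D.c12 _ hu _ hp', ← mul_assoc, ← mul_assoc, mul_left_inj] at e1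
  rw [← mul_assoc, ← D.c12 _ hp _ hw, mul_assoc, mul_assoc, mul_right_inj] at e2
  obtain ⟨z, hz, i, rfl⟩ := cen_w D.sp.es1 D.sp.c1 hu uz hp e1
  obtain ⟨z', hz', j, rfl⟩ := cen_w D.sp.es2 D.sp.c2 hw wz hp' e2
  refine ⟨z * z', mul_mem hz hz', i, j, ?_⟩
  rw [mul_assoc z z', ← zc (D.ex.comm_a (D.sp.le1 (pow_mem hu _))) hz']; group

/-- An element centralising `x x'` fixes `x` modulo `⟨a⟩`. -/
theorem typ0 (hx : x' ∈ P') (h : g * (x * x') = x * x' * g) : g * x * (g : G)⁻¹ * x⁻¹ ∈ zpowers a := by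
  have m1 := conj_mem_of_mem_norm (D.n1 g) D.p1.hx
  have m2 := conj_mem_of_mem_norm (D.n2 g) hx
  refine D.sp.inf (mul_mem m1 (inv_mem D.p1.hx)) ?_
  have : g * x * (g : G)⁻¹ * x⁻¹ = x * (x' * (g * x' * (g : G)⁻¹)⁻¹) * x⁻¹ * (x * x⁻¹) := by
    calc _ = g * (x * x') * (g : G)⁻¹ * (g * x' * (g : G)⁻¹)⁻¹ * x⁻¹ := by group
      _ = _ := by rw [h]; group
  rw [this, D.c12 _ D.p1.hx _ (mul_mem hx (inv_mem m2))]
  simpa using mul_mem hx (inv_mem m2)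

end Ft

namespace Hx

variable {a : G} (D : Hx a)

theorem p1 : P27 D.P1 a D.x1 D.y1 :=
  ⟨D.sp.es1, D.fac.card, D.fac.P_eq ▸ mem_clos (by simp), D.fac.P_eq ▸ mem_clos (by simp), D.fac.xy⟩

/-- The first factor; the second one is `D.ft.other`. -/
theorem ft : Ft a D.P1 D.P2 D.x1 D.y1 D.ψ := ⟨D.ex, D.exp, D.sp, D.p1, D.fac.act⟩

include D in
theorem es : ESZ 3 (Q3 a) a := D.ex.esz

theorem exists_ft : ∃ x y ψ', Ft a D.P2 D.P1 x y ψ' := by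
  obtain ⟨p, hp, q, hq, e⟩ := D.sp.es2.exists_pair fun e => by
    have := D.sp.es2.eq_zpowers_iff_card.1 e
    have := D.sp.c2
    omega
  exact ⟨p, q, D.ft.other ⟨D.sp.es2, D.sp.c2, hp, hq, e⟩⟩

/-- The involution. -/
def T1 : centralizer ({a} : Set G) := ⟨D.r, D.fac.R_le D.fac.t_mem⟩

theorem ta : D.r * a = a * D.r := ca D.T1
theorem iz1 {p : G} (hp : p ∈ D.P1) : Iz a D.r p := D.p1.iz D.ta D.fac.tx D.fac.ty hp
theorem neg1 : D.ψ D.T1 = -1 := D.ft.neg fun _ => D.iz1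
theorem tP2 {p : G} (hp : p ∈ D.P2) : D.r * p = p * D.r := D.comm _ D.fac.t_mem p hp

theorem mem1 {q : G} (hq : q ∈ Q3 a) (h : D.r * q * D.r⁻¹ = q⁻¹) : q ∈ D.P1 :=
  D.sp.mem_iff (fun _ => D.iz1) (fun _ => D.tP2) hq (by rw [Iz, h]; simp)

theorem fixz {p : G} (hp : p ∈ D.P1) (h : D.r * p = p * D.r) : p ∈ zpowers a := by
  have h1 := D.iz1 hp
  rw [Iz, h, mul_inv_cancel_right, show p * p = p ^ 3 * p⁻¹ by rw [pow_three]; group, D.ft.cube1 hp, one_mul] at h1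
  exact inv_mem_iff.1 h1

theorem mem2 {q : G} (hq : q ∈ Q3 a) (h : q * D.r = D.r * q) : q ∈ D.P2 := by
  obtain ⟨u, hu, v, hv, rfl⟩ := D.sp.dec q hq
  rw [mul_assoc, ← D.tP2 hv, ← mul_assoc, ← mul_assoc, mul_left_inj] at h
  exact mul_mem (D.sp.es2.zpowers_le (D.fixz hu h.symm)) hv

variable {x y : G} {ψ' : centralizer ({a} : Set G) →* S3} {g : centralizer ({a} : Set G)}

theorem oneR (D' : Ft a D.P2 D.P1 x y ψ') (h : (g : G) ∈ D.R) : ψ' g = 1 :=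
  D'.one1 fun p hp => by rw [D.comm _ h p hp]; simp

theorem ker2 (D' : Ft a D.P2 D.P1 x y ψ') (h : D.ψ g = 1) : (g : G) ∈ Q3 a ∨ ψ' g = -1 := (D.ker g h).imp_right D'.neg

/-- An element of odd order in the kernel. -/
theorem ker3 (h : D.ψ g = 1) {k : ℕ} (h3 : (g : G) ^ 3 ^ k = 1) : (g : G) ∈ Q3 a := by
  obtain ⟨x, y, ψ', D'⟩ := D.exists_ft
  refine (D.ker2 D' h).resolve_right fun e => ?_
  have := congrArg ψ' (show g ^ 3 ^ k = 1 from Subtype.ext h3)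
  rw [map_pow, e, map_one, (Odd.pow (by decide) : Odd (3 ^ k)).neg_one_pow] at this
  exact absurd this (by decide +kernel)

/-- An element of the kernel fixing a non-central element of the second factor modulo `⟨a⟩`. -/
theorem kerx (h : D.ψ g = 1) {w : G} (hw : w ∈ D.P2) (wz : w ∉ zpowers a) (e : g * w * (g : G)⁻¹ * w⁻¹ ∈ zpowers a) :
    (g : G) ∈ Q3 a := (D.ker g h).resolve_right fun k => wz (by
  have := mul_mem (inv_mem (k w hw)) e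
  rwa [show ((g : G) * w * (g : G)⁻¹ * w)⁻¹ * (g * w * (g : G)⁻¹ * w⁻¹) = (w ^ 3)⁻¹ * w by rw [pow_three]; group,
    D.exp w (D.sp.le2 hw), inv_one, one_mul] at this)

theorem r4 (hr : (g : G) ∈ D.R) : D.ψ g ^ 4 = 1 ∧ (g : G) ^ 4 = 1 := by
  have h8 : (g : G) ^ 8 = 1 := congrArg Subtype.val (D.fac.cardR ▸ pow_card_eq_one' (x := (⟨g, hr⟩ : D.R)))
  have h4 := s_eight (D.ψ g) (by rw [← map_pow, show g ^ 8 = 1 from Subtype.ext h8, map_one])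
  exact ⟨h4, congrArg Subtype.val (D.fac.inj (g ^ 4) (pow_mem hr 4) (by rw [map_pow, h4]))⟩

theorem surj1 {m : S3} (hm : m ^ 4 = 1) : ∃ r : centralizer ({a} : Set G), (r : G) ∈ D.R ∧ D.ψ r = m := by
  let f : D.R → {m : S3 // m ^ 4 = 1} := fun r => ⟨D.ψ ⟨r, D.fac.R_le r.2⟩, (D.r4 r.2).1⟩
  have inj : Function.Injective f := fun r s e => by
    have := D.fac.inj (⟨r, D.fac.R_le r.2⟩ * ⟨s, D.fac.R_le s.2⟩⁻¹) (mul_mem r.2 (inv_mem s.2))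
      (by rw [map_mul, map_inv, mul_inv_eq_one]; exact congrArg Subtype.val e)
    exact Subtype.ext (congrArg (fun w : centralizer ({a} : Set G) => (w : G)) (mul_inv_eq_one.1 this))
  have bij := (Nat.bijective_iff_injective_and_card f).2 ⟨inj, by
    rw [D.fac.cardR, Nat.card_eq_fintype_card, Fintype.card_subtype, s_card]⟩
  obtain ⟨r, hr⟩ := bij.2 ⟨m, hm⟩
  exact ⟨_, r.2, congrArg Subtype.val hr⟩

theorem eqR {r s : centralizer ({a} : Set G)} (hr : (r : G) ∈ D.R) (hs : (s : G) ∈ D.R) (h : D.ψ r = D.ψ s) : (r : G) = s :=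
  congrArg Subtype.val (mul_inv_eq_one.1 (D.fac.inj (r * s⁻¹) (mul_mem hr (inv_mem hs))
    (by rw [map_mul, map_inv, h, mul_inv_cancel])))

theorem rt {r : G} (hr : r ∈ D.R) : r * D.r = D.r * r :=
  (D.eqR (r := ⟨r, D.fac.R_le hr⟩ * D.T1) (s := D.T1 * ⟨r, D.fac.R_le hr⟩) (mul_mem hr D.fac.t_mem)
    (mul_mem D.fac.t_mem hr) (by rw [map_mul, map_mul, D.neg1]; simp) :)

/-- The involution of `R` is a square. -/
theorem exists_sqrt : ∃ k ∈ D.R, k * k = D.r := by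
  obtain ⟨q, hq, e⟩ := D.surj1 ww_rel.1
  exact ⟨q, hq, D.eqR (r := q * q) (s := D.T1) (mul_mem hq hq) D.fac.t_mem (by rw [map_mul, e, D.neg1, ww_rel.2.1])⟩

include D in
/-- Involutions of `C(a)` are central modulo `Q3 a`. -/
theorem f2 {s : G} (sa : s * a = a * s) (s2 : s * s = 1) {k : G} (ka : k * a = a * k) : k * s * k⁻¹ * s⁻¹ ∈ Q3 a := by
  obtain ⟨x, y, ψ', D'⟩ := D.exists_ft
  have h : ∀ ψ : centralizer ({a} : Set G) →* S3,
      ψ (⟨k, mem_cen.2 ka⟩ * ⟨s, mem_cen.2 sa⟩ * ⟨k, mem_cen.2 ka⟩⁻¹ * ⟨s, mem_cen.2 sa⟩⁻¹) = 1 := fun ψ => by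
    rcases s_two (ψ ⟨s, mem_cen.2 sa⟩) (by rw [← map_mul, ← map_one ψ]; exact congrArg ψ (Subtype.ext s2)) with e | e <;>
      simp only [map_mul, map_inv, e, s_negc]
    group
  exact D.ft.ker D' (h _) (h _)

include D in
/-- 3-subgroups of `C(a)` are abelian modulo `Q3 a`, of order at most 3. -/
theorem f1 {T : Subgroup G} (hT : T ≤ centralizer {a}) (h3 : IsPGroup 3 T) :
    (∀ y ∈ T, ∀ z ∈ T, y * z * y⁻¹ * z⁻¹ ∈ Q3 a) ∧ (Q3 a).relIndex T ∣ 3 := by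
  have k : ∀ y : T, D.ψ.comp (inclusion hT) y = 1 ↔ (y : G) ∈ Q3 a := fun y =>
    ⟨fun h => (h3 y).elim fun _ hk => D.ker3 (g := inclusion hT y) h (congrArg Subtype.val hk),
      fun h => D.ft.oneQ (g := inclusion hT y) h⟩
  refine ⟨fun y hy z hz => (k (⟨y, hy⟩ * ⟨z, hz⟩ * ⟨y, hy⟩⁻¹ * ⟨z, hz⟩⁻¹)).1 (range_comm h3 _ s_nine _ _), ?_⟩
  rw [relIndex, show (Q3 a).subgroupOf T = (D.ψ.comp (inclusion hT)).ker from Subgroup.ext fun y => (k y).symm, index_ker]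
  exact card_range_dvd h3 _ s_nine

theorem wt (g : centralizer ({a} : Set G)) : g * D.r * (g : G)⁻¹ * D.r⁻¹ ∈ D.P1 ∧
    D.r * (g * D.r * (g : G)⁻¹ * D.r⁻¹) * D.r⁻¹ = (g * D.r * (g : G)⁻¹ * D.r⁻¹)⁻¹ := by
  have h1 : D.r * (g * D.r * (g : G)⁻¹ * D.r⁻¹) * D.r⁻¹ = (g * D.r * (g : G)⁻¹ * D.r⁻¹)⁻¹ := by
    have := inv_eq_of_mul_eq_one_left D.fac.t2
    calc _ = D.r * g * D.r * (g : G)⁻¹ * (D.r * D.r)⁻¹ := by group
      _ = D.r * g * D.r⁻¹ * (g : G)⁻¹ := by rw [D.fac.t2, this]; group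
      _ = _ := by group
  exact ⟨D.mem1 (D.f2 D.ta D.fac.t2 (ca g)) h1, h1⟩

theorem adj1 (g : centralizer ({a} : Set G)) : ∃ p ∈ D.P1, p * g * D.r = D.r * (p * g) := by
  obtain ⟨h1, h2⟩ := D.wt g
  refine ⟨_, h1, ?_⟩
  have h3 := D.ft.cube1 h1
  obtain ⟨w, hw⟩ : ∃ w, w = g * D.r * (g : G)⁻¹ * D.r⁻¹ := ⟨_, rfl⟩
  rw [← hw] at h2 h3 ⊢
  calc _ = w * (g * D.r * (g : G)⁻¹ * D.r⁻¹) * D.r * g := by group
    _ = w ^ 3 * (w⁻¹ * D.r * g) := by rw [← hw, pow_three]; group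
    _ = _ := by rw [h3, ← h2]; group

theorem nR (h1 : g * D.r = D.r * g) {r : G} (hr : r ∈ D.R) : g * r * (g : G)⁻¹ ∈ D.R := by
  obtain ⟨x, y, ψ', D'⟩ := D.exists_ft
  let r' : centralizer ({a} : Set G) := ⟨r, D.fac.R_le hr⟩
  obtain ⟨s, hs, e⟩ := D.surj1 (m := D.ψ (g * r' * g⁻¹)) (by
    rw [map_mul, map_mul, map_inv, conj_pow, (D.r4 (g := r') hr).1]; group)
  have hQ : g * r * (g : G)⁻¹ * (s : G)⁻¹ ∈ Q3 a := D.ft.ker D' (g := g * r' * g⁻¹ * s⁻¹)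
    (by rw [map_mul, map_inv, e, mul_inv_cancel]) (by
      simp only [map_mul, map_inv, show ψ' r' = 1 from D.oneR D' hr, D.oneR D' hs]; group)
  have hz : g * r * (g : G)⁻¹ * (s : G)⁻¹ ∈ zpowers a := D.sp.inf ((D.sp.m1 _).2 ⟨hQ, fun v hv => by
      have := D.comm r hr _ (conj_mem_of_mem_norm (D.ft.n2 g⁻¹) hv)
      have c : Commute (g * r * (g : G)⁻¹) v := by
        calc _ = g * (r * ((g⁻¹ : centralizer ({a} : Set G)) * v * ((g⁻¹ : centralizer ({a} : Set G)) : G)⁻¹)) * (g : G)⁻¹ := by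
              push_cast; group
          _ = _ := by rw [this]; push_cast; group
      exact c.mul_left (show Commute (s : G) v from D.comm s hs v hv).inv_left⟩)
    (D.mem2 hQ ((((show Commute (g : G) D.r from h1).mul_left (D.rt hr)).mul_left
      (show Commute (g : G) D.r from h1).inv_left).mul_left (show Commute (s : G) D.r from D.rt hs).inv_left))
  have h4 := (show Commute (g * r * (g : G)⁻¹ * (s : G)⁻¹) s from (zc (ca s) hz).symm).mul_pow 4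
  rw [inv_mul_cancel_right, conj_pow, show r ^ 4 = 1 from (D.r4 (g := r') hr).2, (D.r4 hs).2, mul_one, mul_one,
    mul_inv_cancel, pow_succ, D.es.pow_eq_one_of_mem_zpowers hz, one_mul] at h4
  exact mul_inv_eq_one.1 h4.symm ▸ hs

theorem fix_inv (h1 : g * D.r = D.r * g) {p : G} (hp : p ∈ D.P1) (e : D.r * p * D.r⁻¹ = p⁻¹)
    (h : g * p * (g : G)⁻¹ * p⁻¹ ∈ zpowers a) : g * p = p * g := by
  refine mul_inv_eq_iff_eq_mul.1 (eq_of_inv D.ex D.ta (D.ex.comm_a (D.sp.le1 hp)) e ?_ h)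
  calc _ = D.r * g * p * (D.r * g)⁻¹ := by group
    _ = g * (D.r * p * D.r⁻¹) * (g : G)⁻¹ := by rw [← h1]; group
    _ = _ := by rw [e]; group

theorem cx {k : ZMod 3} (h : D.ψ g = tv k) (ht : g * D.r = D.r * g) : g * D.x1 = D.x1 * g :=
  D.fix_inv ht D.p1.hx D.fac.tx (D.ft.au h)

theorem cen1 (h1 : g * D.r = D.r * g) (h : D.ψ g = 1) : ∀ p ∈ D.P1 ⊔ D.R, g * p = p * g := by
  have : D.P1 ⊔ D.R ≤ centralizer {(g : G)} := by
    refine sup_le (D.fac.P_eq ▸ clos_le.2 ?_) fun r hr => mem_cen.2 ?_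
    · simp only [List.forall_mem_cons, List.not_mem_nil, false_imp_iff, implies_true, and_true, mem_cen]
      exact ⟨(ca g).symm, (D.fix_inv h1 D.p1.hx D.fac.tx (D.ft.triv1 h D.p1.hx)).symm,
        (D.fix_inv h1 D.p1.hy D.fac.ty (D.ft.triv1 h D.p1.hy)).symm⟩
    · exact (mul_inv_eq_iff_eq_mul.1 (D.eqR (r := g * ⟨r, D.fac.R_le hr⟩ * g⁻¹) (s := ⟨r, D.fac.R_le hr⟩)
        (D.nR h1 hr) hr (by rw [map_mul, map_mul, map_inv, h]; simp))).symm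
  exact fun p hp => (mem_cen.1 (this hp)).symm

theorem vc (h : D.ψ g = tv 1) (ct : g * D.r = D.r * g) : D.y1 * g * D.y1⁻¹ = g * D.x1⁻¹ * a⁻¹ := by
  have c := D.cx h ct
  have h1 := D.ft.ay h
  have xQ := D.ft.xQ
  have yQ := D.ft.yQ
  rw [ZMod.val_one, pow_one] at h1
  have e : g * D.y1 * (g : G)⁻¹ = a * D.x1 * D.y1 := by
    refine eq_of_inv D.ex D.ta (D.ex.comm_a (mul_mem (mul_mem D.ex.mem xQ) yQ)) ?_ ?_ ?_
    · calc _ = D.r * a * D.r⁻¹ * (D.r * D.x1 * D.r⁻¹) * (D.r * D.y1 * D.r⁻¹) := by group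
        _ = a * (D.y1⁻¹ * D.x1⁻¹) * (D.x1 * D.y1 * D.x1⁻¹ * D.y1⁻¹) := by rw [D.fac.tx, D.fac.ty, D.ta]; group
        _ = D.y1⁻¹ * D.x1⁻¹ * a ^ 3 * a⁻¹ := by
          rw [D.fac.xy, ← D.ex.comm_a (mul_mem (inv_mem yQ) (inv_mem xQ)), pow_three]; group
        _ = _ := by rw [D.es.z_pow]; group
    · calc _ = D.r * g * D.y1 * (D.r * g)⁻¹ := by group
        _ = g * (D.r * D.y1 * D.r⁻¹) * (g : G)⁻¹ := by rw [← ct]; group
        _ = _ := by rw [D.fac.ty]; group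
    · convert mul_mem h1 (inv_mem (mem_zpowers a)) using 1; group
  calc _ = (a * D.x1)⁻¹ * (a * D.x1 * D.y1) * g * D.y1⁻¹ := by group
    _ = (a * D.x1)⁻¹ * g := by rw [← e]; group
    _ = _ := by
      rw [← ((show Commute (g : G) a from ca g).mul_right (show Commute (g : G) D.x1 from c)).inv_right.eq]; group

theorem tr1 {p : G} (hp : p ∈ D.P1) (pz : p ∉ zpowers a) : ∃ r ∈ D.R, ∃ z ∈ zpowers a, p = z * (r * D.x1 * r⁻¹) := by
  obtain ⟨m, m4, e1, e2⟩ := F4L.LA.s_tr (om a p D.y1) (om a D.x1 p) fun h => pz (D.p1.mem_z' hp h.1 h.2)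
  obtain ⟨r, hr, rfl⟩ := D.surj1 m4
  have h1 := (D.fac.act r).1
  rw [e1, e2] at h1
  exact ⟨r, hr, _, mul_mem (D.p1.coord hp) (inv_mem h1), by group⟩

/-- The relations of `3^(1+2) : SL₂(3)` for any frame with the given letters. -/
theorem car {c : centralizer ({a} : Set G)} (h : D.ψ c = tv 1) (ct : c * D.r = D.r * c) (f : Fr G) (ea : f.a = a)
    (ec : f.c3 = c) (eu : f.c1 * f.c2⁻¹ = D.x1) (ev : f.v = D.y1) (et : f.t = D.r) : ∃ q ∈ D.R, f.CaR q ∧ f.Q1 q = D.R := by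
  obtain ⟨q, hq, e⟩ := D.surj1 ww_rel.1
  have hq' : c * q * (c : G)⁻¹ ∈ D.R := D.nR ct hq
  have car : f.CaR q := by
    refine ⟨?_, by rw [ea]; exact ca q, ?_, ?_, ?_⟩
    · rw [et]
      exact D.eqR (r := q * q) (s := D.T1) (mul_mem hq hq) D.fac.t_mem (by rw [map_mul, e, D.neg1, ww_rel.2.1])
    · rw [eu, ev]
      refine eq_of_inv D.ex D.ta (D.ex.comm_a D.ft.yQ) D.fac.ty ?_ ?_
      · calc _ = D.r * q * D.x1 * (D.r * q)⁻¹ := by group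
          _ = q * (D.r * D.x1 * D.r⁻¹) * (q : G)⁻¹ := by rw [← D.rt hq]; group
          _ = _ := by rw [D.fac.tx]; group
      · have := (D.fac.act q).1
        rw [e] at this
        simpa [ww, ZMod.val_one] using this
    · rw [ec]
      exact D.eqR (r := q * (c * q * c⁻¹) * q⁻¹) (s := (c * q * c⁻¹)⁻¹) (mul_mem (mul_mem hq hq') (inv_mem hq)) (inv_mem hq')
        (by simp only [map_mul, map_inv, e, h, ww_rel.2.2.1])
    · rw [ec]
      exact D.eqR (r := c * (c * q * c⁻¹) * c⁻¹) (s := q * (c * q * c⁻¹)) (D.nR ct hq') (mul_mem hq hq')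
        (by simp only [map_mul, map_inv, e, h, ww_rel.2.2.2])
  obtain ⟨C, hC⟩ := car.cod
  refine ⟨q, hq, car, eq_of_le_of_card_ge (clos_le.2 ?_) (by rw [(Fr.gQ6 hC).2, D.fac.cardR])⟩
  simp only [List.forall_mem_cons, List.not_mem_nil, false_imp_iff, implies_true, and_true, ec]
  exact ⟨hq, hq'⟩

/-- Changing the second basis element by an element centralising `r` and `x₁`. -/
theorem facC {k : centralizer ({a} : Set G)} (h1 : k * D.r = D.r * k) : Fac a (centralizer {a}) D.P1 D.R D.r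
    (k * D.x1 * (k : G)⁻¹) (k * D.y1 * (k : G)⁻¹) (D.ψ.comp (MulAut.conj k⁻¹).toMonoidHom) := by
  have e : (k : G) * a * (k : G)⁻¹ = a := by rw [ca k]; group
  have xy : k * D.x1 * (k : G)⁻¹ * (k * D.y1 * (k : G)⁻¹) * (k * D.x1 * (k : G)⁻¹)⁻¹ * (k * D.y1 * (k : G)⁻¹)⁻¹ = a := by
    calc _ = k * (D.x1 * D.y1 * D.x1⁻¹ * D.y1⁻¹) * (k : G)⁻¹ := by group
      _ = a := by rw [D.fac.xy, e]
  have tt : ∀ w, D.r * w * D.r⁻¹ = w⁻¹ → D.r * (k * w * (k : G)⁻¹) * D.r⁻¹ = (k * w * (k : G)⁻¹)⁻¹ := fun w hw => by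
    calc _ = D.r * k * w * (D.r * k)⁻¹ := by group
      _ = k * (D.r * w * D.r⁻¹) * (k : G)⁻¹ := by rw [← h1]; group
      _ = _ := by rw [hw]; group
  refine ⟨(P27.mk D.p1.es D.p1.card (conj_mem_of_mem_norm (D.ft.n1 k) D.p1.hx) (conj_mem_of_mem_norm (D.ft.n1 k) D.p1.hy)
    xy).eq_clos, D.fac.card, xy, tt _ D.fac.tx, tt _ D.fac.ty, D.fac.P_le, D.fac.R_le, D.fac.t_mem, D.fac.t2,
    D.fac.cardR, fun g hg h => ?_, fun g => ?_⟩
  · have := D.fac.inj (k⁻¹ * g * k⁻¹⁻¹) (D.nR (g := k⁻¹) (show Commute (k : G) D.r from h1).inv_left.eq hg) h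
    exact conj_eq_one.1 this
  · have h := D.fac.act (k⁻¹ * g * k⁻¹⁻¹)
    refine ⟨?_, ?_⟩ <;> rw [conj_pow, conj_pow]
    · rw [← conj_z (ca k) h.1] at h
      convert h.1 using 1; simp only [MonoidHom.comp_apply, MulEquiv.coe_toMonoidHom, MulAut.conj_apply]; push_cast; group
    · rw [← conj_z (ca k) h.2] at h
      convert h.2 using 1; simp only [MonoidHom.comp_apply, MulEquiv.coe_toMonoidHom, MulAut.conj_apply]; push_cast; group

end Hx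

end Cfsg.Agent.Tr8
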