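import Mathlib
import Cfsg.Agent.Tr8.Defs
import Cfsg.Agent.F4T.LocA

/-! The action of `C(a)` on both factors of `Q3 a`. -/

set_option autoImplicit false
set_option linter.unusedSectionVars false

namespace Cfsg.Agent.Tr8.B1

open Cfsg.Agent.Spor Cfsg.Agent.Rec Cfsg.Agent.Inv.Fz Cfsg.Agent.T16 Cfsg.Agent.T3 Cfsg.Agent.T3.LB Subgroup
open Cfsg.Agent.GT.PG Cfsg.Agent.F4L.LA
open scoped commutatorElement

universe u

variable {G : Type u} [Group G] [Finite G]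

/-- `ψ` is the action of `C(a)` on `⟨a, x, y⟩ / ⟨a⟩`. -/
def Act (a x y : G) (ψ : centralizer ({a} : Set G) →* S3) : Prop :=
  ∀ g : centralizer ({a} : Set G), (g * x * (g : G)⁻¹ * (x ^ (ψ g 0 0).val * y ^ (ψ g 1 0).val)⁻¹ ∈ zpowers a) ∧
    (g * y * (g : G)⁻¹ * (x ^ (ψ g 0 1).val * y ^ (ψ g 1 1).val)⁻¹ ∈ zpowers a)

/-- Bases of both factors. -/
structure Tw (a : G) where
  P1 : Subgroup G
  P2 : Subgroup G
  x1 : G
  y1 : G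
  x2 : G
  y2 : G
  ψ1 : centralizer ({a} : Set G) →* S3
  ψ2 : centralizer ({a} : Set G) →* S3
  ex : Ex a
  exp : ∀ q ∈ Q3 a, q ^ 3 = 1
  sp : Sp2 (Q3 a) P1 P2 a
  p1 : P27 P1 a x1 y1
  p2 : P27 P2 a x2 y2
  act1 : Act a x1 y1 ψ1
  act2 : Act a x2 y2 ψ2

theorem ca {a : G} (g : centralizer ({a} : Set G)) : (g : G) * a = a * g := mem_cen.1 g.2

theorem Act.norm {a x y : G} {P : Subgroup G} {ψ : centralizer ({a} : Set G) →* S3} (h : Act a x y ψ)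
    (p : P27 P a x y) (g : centralizer ({a} : Set G)) : (g : G) ∈ normalizer (P : Set G) :=
  p.norm (ca g) (om_co p (h g).1).1 (om_co p (h g).2).1

namespace Tw

variable {a : G} (D : Tw a)

/-- The two factors interchanged. -/
def symm : Tw a := ⟨D.P2, D.P1, D.x2, D.y2, D.x1, D.y1, D.ψ2, D.ψ1, D.ex, D.exp, D.sp.symm, D.p2, D.p1, D.act2, D.act1⟩

include D in
theorem es : ESZ 3 (Q3 a) a := D.ex.esz
theorem c12 : ∀ p ∈ D.P1, ∀ q ∈ D.P2, p * q = q * p := fun _ hp _ hq => D.sp.comm hp hq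
theorem n1 (g : centralizer ({a} : Set G)) : (g : G) ∈ normalizer (D.P1 : Set G) := D.act1.norm D.p1 g
theorem n2 (g : centralizer ({a} : Set G)) : (g : G) ∈ normalizer (D.P2 : Set G) := D.act2.norm D.p2 g
theorem xQ : D.x1 ∈ Q3 a := D.sp.le1 D.p1.hx
theorem yQ : D.y1 ∈ Q3 a := D.sp.le1 D.p1.hy
theorem x3 : D.x1 ^ 3 = 1 := D.exp _ D.xQ
theorem y3 : D.y1 ^ 3 = 1 := D.exp _ D.yQ

theorem xz : D.x1 ∉ zpowers a := fun h => D.es.z_ne_one (by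
  rw [← D.p1.xy]; exact commutatorElement_eq_one_iff_mul_comm.2 (D.es.commute_of_mem_zpowers D.yQ h).symm.eq)

theorem key (g : centralizer ({a} : Set G)) {p : G} (hp : p ∈ D.P1) :
    om a (g * p * (g : G)⁻¹) D.y1 = D.ψ1 g 0 0 * om a p D.y1 + D.ψ1 g 0 1 * om a D.x1 p ∧
      om a D.x1 (g * p * (g : G)⁻¹) = D.ψ1 g 1 0 * om a p D.y1 + D.ψ1 g 1 1 * om a D.x1 p := by
  obtain ⟨m1, e1, e2⟩ := om_co D.p1 (D.act1 g).1
  obtain ⟨m2, e3, e4⟩ := om_co D.p1 (D.act1 g).2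
  have h := D.p1
  refine ⟨by rw [h.om_conj_left h.es (ca g) hp h.hy m1 m2, e1, e3], ?_⟩
  rw [om_swap h.es (conj_mem_of_mem_norm (D.n1 g) hp) h.hx, h.om_conj_left h.es (ca g) hp h.hx m1 m2,
    om_swap h.es h.hx m1, om_swap h.es h.hx m2, e2, e4]
  ring

theorem ap {g : centralizer ({a} : Set G)} {k : ZMod 3} (h : D.ψ1 g = tv k) {p : G} (hp : p ∈ D.P1) :
    g * p * (g : G)⁻¹ * p⁻¹ * (D.x1 ^ (k * om a D.x1 p).val)⁻¹ ∈ zpowers a := by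
  obtain ⟨k1, k2⟩ := D.key g hp
  have m := conj_mem_of_mem_norm (D.n1 g) hp
  have e := D.p1.es
  have m' := pow_mem D.p1.hx (k * om a D.x1 p).val
  rw [h] at k1 k2
  apply D.p1.mem_z' (mul_mem (mul_mem m (inv_mem hp)) (inv_mem m'))
  · rw [om_mul_right e D.p1.hx (mul_mem m (inv_mem hp)) (inv_mem m'), om_mul_right e D.p1.hx m (inv_mem hp),
      om_inv_right e D.p1.hx hp, om_inv_right e D.p1.hx m', om_pow_right e D.p1.hx D.p1.hx, om_self e D.p1.hx, k2]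
    simp [tv]
  · rw [om_mul_left e (mul_mem m (inv_mem hp)) (inv_mem m') D.p1.hy, om_mul_left e m (inv_mem hp) D.p1.hy,
      om_inv_left e hp D.p1.hy, om_inv_left e m' D.p1.hy, om_pow_left e D.p1.hx D.p1.hy, om_one e D.p1.xy, k1]
    simp [tv]

theorem triv1 {g : centralizer ({a} : Set G)} (h : D.ψ1 g = 1) {p : G} (hp : p ∈ D.P1) :
    g * p * (g : G)⁻¹ * p⁻¹ ∈ zpowers a := by
  simpa using D.ap (h.trans tv_zero.symm) hp

theorem col1 {g : centralizer ({a} : Set G)} {i j : ZMod 3}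
    (h : g * D.x1 * (g : G)⁻¹ * (D.x1 ^ i.val * D.y1 ^ j.val)⁻¹ ∈ zpowers a) : D.ψ1 g 0 0 = i ∧ D.ψ1 g 1 0 = j := by
  obtain ⟨-, e1, e2⟩ := om_co D.p1 (D.act1 g).1
  obtain ⟨-, e3, e4⟩ := om_co D.p1 h
  exact ⟨e1.symm.trans e3, e2.symm.trans e4⟩

theorem col2 {g : centralizer ({a} : Set G)} {i j : ZMod 3}
    (h : g * D.y1 * (g : G)⁻¹ * (D.x1 ^ i.val * D.y1 ^ j.val)⁻¹ ∈ zpowers a) :
    D.ψ1 g 0 1 = i := (om_co D.p1 (D.act1 g).2).2.1.symm.trans (om_co D.p1 h).2.1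

theorem one1 {g : centralizer ({a} : Set G)} (h : ∀ p ∈ D.P1, g * p * (g : G)⁻¹ * p⁻¹ ∈ zpowers a) : D.ψ1 g = 1 := by
  have h1 := D.col1 (g := g) (i := 1) (j := 0) (by simpa [ZMod.val_one] using h _ D.p1.hx)
  exact s_ext _ h1.1 h1.2 (D.col2 (j := 1) (by simpa [ZMod.val_one] using h _ D.p1.hy))

theorem neg1 {g : centralizer ({a} : Set G)} (h : ∀ p ∈ D.P1, Iz a g p) : D.ψ1 g = -1 := by
  have e : ∀ w : G, w ^ 3 = 1 → w ^ (-1 : ZMod 3).val = w⁻¹ := fun w h => by rw [pow_val_neg h, ZMod.val_one, pow_one]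
  have h1 := D.col1 (g := g) (i := -1) (j := 0) (by rw [e _ D.x3]; simpa [Iz] using h _ D.p1.hx)
  exact s_neg _ h1.1 h1.2 (D.col2 (j := -1) (by rw [e _ D.y3]; simpa [Iz] using h _ D.p1.hy))

theorem ker {g : centralizer ({a} : Set G)} (h1 : D.ψ1 g = 1) (h2 : D.ψ2 g = 1) : (g : G) ∈ Q3 a := by
  refine D.ex.mem_of_triv (ca g) fun q hq => ?_
  obtain ⟨u, hu, v, hv, rfl⟩ := D.sp.dec q hq
  have e : g * (u * v) * (g : G)⁻¹ * (u * v)⁻¹ = (g * u * (g : G)⁻¹ * u⁻¹) * (u * (g * v * (g : G)⁻¹ * v⁻¹) * u⁻¹) := by group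
  rw [e, conj_z (D.ex.comm_a (D.sp.le1 hu)) (D.symm.triv1 h2 hv)]
  exact mul_mem (D.triv1 h1 hu) (D.symm.triv1 h2 hv)

theorem cen_uw {q : G} (hq : q ∈ Q3 a) (e1 : q * D.x1 = D.x1 * q) (e2 : q * D.x2 = D.x2 * q) :
    ∃ z ∈ zpowers a, ∃ i j : ZMod 3, q = z * D.x1 ^ i.val * D.x2 ^ j.val := by
  obtain ⟨p, hp, p', hp', rfl⟩ := D.sp.dec q hq
  rw [mul_assoc, ← D.c12 _ D.p1.hx _ hp', ← mul_assoc, ← mul_assoc, mul_left_inj] at e1
  rw [← mul_assoc, ← D.c12 _ hp _ D.p2.hx, mul_assoc, mul_assoc, mul_right_inj] at e2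
  obtain ⟨z, hz, i, rfl⟩ := cen_w D.p1.es D.p1.card D.p1.hx D.xz hp e1
  obtain ⟨z', hz', j, rfl⟩ := cen_w D.p2.es D.p2.card D.p2.hx D.symm.xz hp' e2
  refine ⟨z * z', mul_mem hz hz', i, j, ?_⟩
  rw [mul_assoc z z', ← zc (D.ex.comm_a (D.sp.le1 (pow_mem D.p1.hx _))) hz']; group

theorem yyQ : D.x1 * D.x2 ∈ Q3 a := mul_mem D.xQ D.symm.xQ

theorem x12 : D.x1 * D.x2 = D.x2 * D.x1 := D.c12 _ D.p1.hx _ D.p2.hx

theorem ynz : D.x1 * D.x2 ∉ zpowers a := fun h =>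
  D.xz (D.sp.inf D.p1.hx ((mul_mem_cancel_right D.p2.hx).1 (D.p2.es.zpowers_le h)))

theorem typ0 {u : centralizer ({a} : Set G)} (h : u * (D.x1 * D.x2) = D.x1 * D.x2 * u) :
    u * D.x1 * (u : G)⁻¹ * D.x1⁻¹ ∈ zpowers a := by
  have m1 := conj_mem_of_mem_norm (D.n1 u) D.p1.hx
  have m2 := conj_mem_of_mem_norm (D.n2 u) D.p2.hx
  refine D.sp.inf (mul_mem m1 (inv_mem D.p1.hx)) ?_
  have : u * D.x1 * (u : G)⁻¹ * D.x1⁻¹ = D.x1 * (D.x2 * (u * D.x2 * (u : G)⁻¹)⁻¹) * D.x1⁻¹ * (D.x1 * D.x1⁻¹) := by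
    calc _ = u * (D.x1 * D.x2) * (u : G)⁻¹ * (u * D.x2 * (u : G)⁻¹)⁻¹ * D.x1⁻¹ := by group
      _ = _ := by rw [h]; group
  rw [this, D.c12 _ D.p1.hx _ (mul_mem D.p2.hx (inv_mem m2))]
  simpa using mul_mem D.p2.hx (inv_mem m2)

theorem typ1 {u : centralizer ({a} : Set G)} (h : u * (D.x1 * D.x2) = D.x1 * D.x2 * u) : ∃ i, D.ψ1 u = tv i := by
  have := D.col1 (g := u) (i := 1) (j := 0) (by simpa [ZMod.val_one] using D.typ0 h)
  exact ⟨_, s_tv _ this.1 this.2⟩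

theorem typ2 {u : centralizer ({a} : Set G)} (h : u * (D.x1 * D.x2) = D.x1 * D.x2 * u) : ∃ i, D.ψ2 u = tv i :=
  D.symm.typ1 (by rwa [x12] at h)

theorem o12 {p q : G} (hp : p ∈ D.P1) (hq : q ∈ D.P2) : om a p q = 0 ∧ om a q p = 0 :=
  ⟨(om_eq_zero D.es (D.sp.le1 hp) (D.sp.le2 hq)).2 (D.c12 p hp q hq),
    (om_eq_zero D.es (D.sp.le2 hq) (D.sp.le1 hp)).2 (D.c12 p hp q hq).symm⟩

theorem VQ : zpowers a ⊔ zpowers (D.x1 * D.x2) ≤ Q3 a := sup_le D.es.zpowers_le (zpowers_le.2 D.yyQ)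

theorem omV {v : G} (hv : v ∈ zpowers a ⊔ zpowers (D.x1 * D.x2)) : om a v D.y1 = om a v D.y2 := by
  have y2 : D.y2 ∈ Q3 a := D.symm.yQ
  have x2 : D.x2 ∈ Q3 a := D.symm.xQ
  have m := mul_mem D.yQ (inv_mem y2)
  have : zpowers a ⊔ zpowers (D.x1 * D.x2) ≤ centralizer {D.y1 * D.y2⁻¹} := by
    refine sup_le (zpowers_le.2 (mem_cen.2 (D.ex.comm_a m).symm)) (zpowers_le.2 (mem_cen.2 ((om_eq_zero D.es D.yyQ m).1 ?_)))
    rw [om_mul_right D.es D.yyQ D.yQ (inv_mem y2), om_inv_right D.es D.yyQ y2, om_mul_left D.es D.xQ x2 D.yQ,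
      om_mul_left D.es D.xQ x2 y2, om_one D.es D.p1.xy, om_one D.es D.p2.xy, (D.o12 D.p1.hx D.p2.hy).1,
      (D.o12 D.p1.hy D.p2.hx).2]
    ring
  have h := (om_eq_zero D.es (D.VQ hv) m).2 (mem_cen.1 (this hv))
  rw [om_mul_right D.es (D.VQ hv) D.yQ (inv_mem y2), om_inv_right D.es (D.VQ hv) y2] at h
  linear_combination h

theorem memB {s : G} (hs : s ∈ clos [a, D.x1, D.x2]) : s ∈ Q3 a ∧ s * D.x1 = D.x1 * s ∧ s * D.x2 = D.x2 * s := by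
  have : clos [a, D.x1, D.x2] ≤ Q3 a ⊓ (centralizer {D.x1} ⊓ centralizer {D.x2}) := by
    refine clos_le.2 ?_
    simp only [List.forall_mem_cons, List.not_mem_nil, false_imp_iff, implies_true, and_true, mem_inf, mem_cen, true_and]
    exact ⟨⟨D.ex.mem, (D.ex.comm_a D.xQ).symm, (D.ex.comm_a D.symm.xQ).symm⟩, ⟨D.xQ, D.x12⟩, D.symm.xQ, D.x12.symm⟩
  exact ⟨(this hs).1, mem_cen.1 (this hs).2.1, mem_cen.1 (this hs).2.2⟩

theorem keyQ {g : centralizer ({a} : Set G)} {k : ZMod 3} (h : D.ψ1 g = tv k) {q : G} (hq : q ∈ Q3 a) :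
    om a (g * q * (g : G)⁻¹ * q⁻¹) D.y1 = k * om a D.x1 q ∧ om a D.x1 (g * q * (g : G)⁻¹ * q⁻¹) = 0 := by
  have m := conj_mem_of_mem_norm (norm_Q3 (ca g)) hq
  rw [om_mul_left D.es m (inv_mem hq) D.yQ, om_inv_left D.es hq D.yQ, om_mul_right D.es D.xQ m (inv_mem hq),
    om_inv_right D.es D.xQ hq]
  obtain ⟨u, hu, v, hv, rfl⟩ := D.sp.dec q hq
  have mu := conj_mem_of_mem_norm (D.n1 g) hu
  have mv := conj_mem_of_mem_norm (D.n2 g) hv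
  obtain ⟨k1, k2⟩ := D.key g hu
  rw [← conj_mul, om_mul_left D.es (D.sp.le1 mu) (D.sp.le2 mv) D.yQ, om_mul_left D.es (D.sp.le1 hu) (D.sp.le2 hv) D.yQ,
    om_mul_right D.es D.xQ (D.sp.le1 mu) (D.sp.le2 mv), om_mul_right D.es D.xQ (D.sp.le1 hu) (D.sp.le2 hv),
    (D.o12 D.p1.hy mv).2, (D.o12 D.p1.hy hv).2, (D.o12 D.p1.hx mv).1, (D.o12 D.p1.hx hv).1, k1, k2, h]
  simp [tv]

section main

variable (ex : Ex (D.x1 * D.x2)) (aQ : a ∈ Q3 (D.x1 * D.x2))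
include ex aQ

omit aQ in
theorem zy {z : G} (h : z ∈ zpowers a) (h' : z ∈ zpowers (D.x1 * D.x2)) : z = 1 := by
  by_contra h1
  exact D.ynz (by rw [← zp_eq D.ex.ord h h1, zp_eq ex.ord h' h1]; exact mem_zpowers _)

omit aQ in
theorem anz : a ∉ zpowers (D.x1 * D.x2) := fun h => D.es.z_ne_one (D.zy ex (mem_zpowers a) h)

theorem xnQ : D.x1 ∉ Q3 (D.x1 * D.x2) := fun h => by
  have h0 := dc ex.esz aQ (D.anz ex) h fun u hu ua =>
    commutatorElement_eq_one_iff_mul_comm.1 (D.zy ex (D.typ0 (u := ⟨u, mem_cen.2 ua⟩) (ex.comm_a hu))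
      (ex.comm u hu _ h))
  rw [sup_comm] at h0
  have h1 := D.omV h0
  rw [om_one D.es D.p1.xy, (D.o12 D.p1.hx D.p2.hy).1] at h1
  exact one_ne_zero h1

theorem ab {s : G} (hs : s ∈ Q3 (D.x1 * D.x2)) (h : s ∈ Q3 a) (h1 : s * D.x1 = D.x1 * s) (h2 : s * D.x2 = D.x2 * s) :
    s ∈ zpowers a ⊔ zpowers (D.x1 * D.x2) := by
  obtain ⟨z, hz, i, j, rfl⟩ := D.cen_uw h h1 h2
  have e : z * D.x1 ^ i.val * D.x2 ^ j.val = z * D.x1 ^ (i - j).val * (D.x1 * D.x2) ^ j.val := by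
    rw [(show Commute D.x1 D.x2 from D.x12).mul_pow, ← mul_assoc, mul_assoc z (D.x1 ^ (i - j).val), ← pow_val_add D.x3,
      sub_add_cancel]
  by_cases hij : i - j = 0
  · rw [e, hij]
    simpa using mul_mem (mem_sup_left hz : _ ∈ zpowers a ⊔ zpowers (D.x1 * D.x2))
      (mem_sup_right (pow_mem (mem_zpowers _) j.val))
  · rw [e, mul_mem_cancel_right (pow_mem ex.mem _), mul_mem_cancel_left (zpowers_le.2 aQ hz)] at hs
    have := pow_mem hs (i - j).val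
    rw [← pow_val_mul D.x3, z3_sq _ hij, ZMod.val_one, pow_one] at this
    exact (D.xnQ ex aQ this).elim

theorem stab0 {w : G} (hw : w ∈ Q3 a) (hw' : w ∈ Q3 (D.x1 * D.x2)) (wV : w ∉ zpowers a ⊔ zpowers (D.x1 * D.x2))
    {u : centralizer ({a} : Set G)} (h : u * (D.x1 * D.x2) = D.x1 * D.x2 * u) {i k : ZMod 3}
    (h1 : D.ψ1 u = tv i) (h2 : D.ψ2 u = tv k) : i + k = 0 := by
  have x2 : D.x2 ∈ Q3 a := D.symm.xQ
  have l := (om_eq_zero D.es D.yyQ hw).2 (ex.comm_a hw').symm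
  rw [om_mul_left D.es D.xQ x2 hw] at l
  have l0 : om a D.x1 w ≠ 0 := fun e => wV (D.ab ex aQ hw' hw ((om_eq_zero D.es D.xQ hw).1 e).symm
    ((om_eq_zero D.es x2 hw).1 (by linear_combination l - e)).symm)
  obtain ⟨k1, k2⟩ := D.keyQ h1 hw
  obtain ⟨k3, k4⟩ : om a (u * w * (u : G)⁻¹ * w⁻¹) D.y2 = k * om a D.x2 w ∧ om a D.x2 (u * w * (u : G)⁻¹ * w⁻¹) = 0 :=
    D.symm.keyQ h2 hw
  have m := mul_mem (conj_mem_of_mem_norm (norm_Q3 (ca u)) hw) (inv_mem hw)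
  have e := D.omV (D.ab ex aQ (mul_mem (conj_mem_of_mem_norm (norm_Q3 h) hw') (inv_mem hw'))
    m ((om_eq_zero D.es D.xQ m).1 k2).symm ((om_eq_zero D.es x2 m).1 k4).symm)
  rw [k1, k3] at e
  exact (mul_eq_zero.1 (show (i + k) * om a D.x1 w = 0 by linear_combination e + k * l)).resolve_right l0

end main

end Tw

end Cfsg.Agent.Tr8.B1
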