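import Mathlib
import Cfsg.Agent.Tr8.Defs
import Cfsg.Agent.Tr8.Hk
import Cfsg.Agent.Tr8.LocB1a

/-! The conjugates of `⟨a⟩` in `Q`. -/

set_option autoImplicit false
set_option linter.unusedSectionVars false

namespace Cfsg.Agent.Tr8

open Cfsg.Agent.Spor Cfsg.Agent.Rec Cfsg.Agent.Inv.Fz Cfsg.Agent.T16 Cfsg.Agent.T3 Cfsg.Agent.T3.LB Subgroup
open Cfsg.Agent.GT.PG Cfsg.Agent.F4L.LA
open scoped commutatorElement

universe u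

variable {G : Type u} [Group G] [Finite G]

namespace B1

/-- The facts that pass to the conjugates of `a` and `a⁻¹`. -/
structure Hp (a : G) : Prop where
  ex : Ex a
  f1 : ∀ T : Subgroup G, IsPGroup 3 T → ∀ p ∈ T, ∀ q ∈ T, p * a = a * p → q * a = a * q → p * q * p⁻¹ * q⁻¹ ∈ Q3 a
  f2 : ∀ s k : G, s * a = a * s → s * s = 1 → k * a = a * k → k * s * k⁻¹ * s⁻¹ ∈ Q3 a

theorem hp {a : G} (D : Hx a) : Hp a :=
  ⟨D.ex, fun T hT p hp q hq pa qa => (D.f1 (T := T ⊓ centralizer {a}) inf_le_right (hT.to_le inf_le_left)).1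
    p ⟨hp, mem_cen.2 pa⟩ q ⟨hq, mem_cen.2 qa⟩, fun _ _ sa s2 ka => D.f2 sa s2 ka⟩

theorem Hp.inv {a : G} (h : Hp a) : Hp a⁻¹ := by
  refine ⟨ex_inv h.ex, ?_, ?_⟩ <;> simp only [Q3_inv, comm_inv]
  exacts [h.f1, h.f2]

theorem Hp.cj {a : G} (h : Hp a) (g : G) : Hp (g * a * g⁻¹) := by
  refine ⟨ex_cj h.ex g, fun T hT p hp q hq pa qa => ?_, fun s k sa s2 ka => ?_⟩
  · obtain ⟨p, rfl⟩ : ∃ y, p = g * y * g⁻¹ := ⟨g⁻¹ * p * g, by group⟩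
    obtain ⟨q, rfl⟩ : ∃ y, q = g * y * g⁻¹ := ⟨g⁻¹ * q * g, by group⟩
    have := h.f1 (T.map (MulAut.conj g⁻¹).toMonoidHom) (hT.map _) p ⟨_, hp, by simp [mul_assoc]⟩ q
      ⟨_, hq, by simp [mul_assoc]⟩ (comm_cj.1 pa) (comm_cj.1 qa)
    rw [Q3_cj]
    convert conj_mem_cj.2 this using 1
    group
  · obtain ⟨s, rfl⟩ : ∃ y, s = g * y * g⁻¹ := ⟨g⁻¹ * s * g, by group⟩
    obtain ⟨k, rfl⟩ : ∃ y, k = g * y * g⁻¹ := ⟨g⁻¹ * k * g, by group⟩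
    have := h.f2 s k (comm_cj.1 sa) (by rwa [conj_mul, conj_eq_one] at s2) (comm_cj.1 ka)
    rw [Q3_cj]
    convert conj_mem_cj.2 this using 1
    group

theorem Hp.ze {a x : G} (h : Hp a) (hz : ZE a x) : Hp x := by
  rcases hz with hz | hz <;> obtain ⟨g, rfl⟩ := isConj_iff.1 hz
  exacts [h.cj g, h.inv.cj g]

theorem Hp.mem {a y : G} (h : Hp a) (hy : ZE a y) (yQ : y ∈ Q3 a) (yz : y ∉ zpowers a) : a ∈ Q3 y := by
  obtain ⟨p, hp, q, hq, c1, c2, e⟩ := cm h.ex yQ yz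
  exact e ▸ (h.ze hy).f1 _ h.ex.esz.isPGroup p hp q hq c1 c2

variable {a : G} (D : Hx a)

theorem nP2 {u : G} (hu : u ∈ D.P2) (h : ZE a u) : u ∈ zpowers a := by
  have hu' := (hp D).ze h
  have k : ∀ w ∈ D.P1, D.r * w * D.r⁻¹ = w⁻¹ → w ∈ Q3 u := fun w hw tw => by
    have h1 := hu'.f2 D.r w (D.tP2 hu) D.fac.t2 (D.sp.comm hw hu)
    have h2 : w * D.r * w⁻¹ * D.r⁻¹ = w ^ 3 * w⁻¹ := by
      rw [mul_assoc w, mul_assoc w, ← conj_inv, tw, pow_three]; group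
    rw [h2, D.ft.cube1 hw, one_mul] at h1
    exact inv_mem_iff.1 h1
  have := hu'.ex.comm _ (k _ D.p1.hx D.fac.tx) _ (k _ D.p1.hy D.fac.ty)
  rw [D.fac.xy] at this
  rw [zp_eq hu'.ex.ord this D.es.z_ne_one]
  exact mem_zpowers u

theorem nx : ¬ ZE a D.x1 := fun h => by
  have ex := ((hp D).ze h).ex
  have aQ := (hp D).mem h D.ft.xQ D.ft.xz
  have anz : a ∉ zpowers D.x1 := fun e => D.ft.xz (by rw [zp_eq ex.ord e D.es.z_ne_one]; exact mem_zpowers _)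
  have tn : D.r ∈ normalizer (Q3 D.x1 : Set G) := cj_eq_iff.1 (by rw [← Q3_cj, D.fac.tx, Q3_inv])
  have k : ∀ p ∈ Q3 D.x1, p * a = a * p → ∃ w ∈ zpowers D.x1, D.r * p * D.r⁻¹ = w * p := fun p hp pa => by
    obtain ⟨h1, h2⟩ := D.wt ⟨p, mem_cen.2 pa⟩
    change p * D.r * p⁻¹ * D.r⁻¹ ∈ _ at h1
    change D.r * (p * D.r * p⁻¹ * D.r⁻¹) * D.r⁻¹ = (p * D.r * p⁻¹ * D.r⁻¹)⁻¹ at h2
    have h3 : p * D.r * p⁻¹ * D.r⁻¹ ∈ Q3 D.x1 := by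
      have := mul_mem hp (conj_mem_of_mem_norm tn (inv_mem hp))
      simpa only [mul_assoc] using this
    obtain ⟨z, hz, i, e⟩ := cen_w D.p1.es D.p1.card D.p1.hx D.ft.xz h1 (ex.comm_a h3)
    have e' : p * D.r * p⁻¹ * D.r⁻¹ = D.x1 ^ i.val :=
      eq_of_inv D.ex D.ta (D.ex.comm_a (pow_mem D.ft.xQ _)) (by rw [← conj_pow, D.fac.tx, inv_pow]) h2
        (by rw [e]; simpa using hz)
    exact ⟨(D.x1 ^ i.val)⁻¹, inv_mem (pow_mem (mem_zpowers _) _), by rw [← e']; group⟩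
  obtain ⟨p, hp, q, hq, pa, qa, e⟩ := cm ex aQ anz
  obtain ⟨v, hv, ev⟩ := k p hp pa
  obtain ⟨w, hw, ew⟩ := k q hq qa
  have vQ := ex.esz.zpowers_le hv
  have wQ := ex.esz.zpowers_le hw
  have e1 : ⁅v * p, w * q⁆ = D.x1 := comm_of_om ex.esz (mul_mem vQ hp) (mul_mem wQ hq) (by
    rw [om_mul_left ex.esz vQ hp (mul_mem wQ hq), om_z_left ex.esz hv (mul_mem wQ hq), om_mul_right ex.esz hp wQ hq,
      om_z_right ex.esz hw hp, om_one ex.esz e]; ring)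
  refine ex.esz.z_ne_one (eq_one_of_sq ex.esz (mem_zpowers _) ?_)
  calc _ = D.r * (p * q * p⁻¹ * q⁻¹) * D.r⁻¹ := by rw [e, D.fac.tx]
    _ = ⁅D.r * p * D.r⁻¹, D.r * q * D.r⁻¹⁆ := by rw [commutatorElement_def]; group
    _ = _ := by rw [ev, ew, e1]

theorem nP1 {u : G} (hu : u ∈ D.P1) (h : ZE a u) : u ∈ zpowers a := by
  by_contra hz
  obtain ⟨k, hk, z, hz', rfl⟩ := D.tr1 hu hz
  obtain ⟨n, hn⟩ := zc_pow (x := D.x1) D.ex.ord (D.ex.comm_a D.ft.yQ) (inv_mem (mem_zpowers a))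
    (inv_ne_one.2 D.es.z_ne_one) (by rw [D.ft.vx, zc (D.ex.comm_a D.ft.xQ) (inv_mem (mem_zpowers a))]) hz'
  refine nx D (ze_conj h (IsConj.symm (isConj_iff.2 ⟨k * D.y1 ^ n, ?_⟩)))
  calc _ = k * (D.y1 ^ n * D.x1 * (D.y1 ^ n)⁻¹) * k⁻¹ := by group
    _ = k * z * k⁻¹ * (k * D.x1 * k⁻¹) := by rw [hn]; group
    _ = _ := by rw [conj_z (mem_cen.1 (D.fac.R_le hk)) hz']

theorem exists_x2 {y : G} (hy : y ∈ Q3 a) (hz : y ∉ zpowers a) (hc : ZE a y) :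
    ∃ x2 ∈ D.P2, x2 ∉ zpowers a ∧ ZE a (D.x1 * x2) := by
  obtain ⟨p, hp1, q, hq, rfl⟩ := D.sp.dec y hy
  obtain ⟨k, hk, z, hz1, rfl⟩ := D.tr1 hp1 fun e => hz (nP2 D (mul_mem (D.sp.es2.zpowers_le e) hq) hc)
  have m := mul_mem (D.sp.es2.zpowers_le hz1) hq
  refine ⟨z * q, m, fun e => hz (nP1 D (mul_mem hp1 (D.sp.es1.zpowers_le ((mul_mem_cancel_left hz1).1 e))) hc),
    ze_conj hc (IsConj.symm (isConj_iff.2 ⟨k, ?_⟩))⟩
  have c := zc (D.ex.comm_a (conj_mem_of_mem_norm (norm_Q3 (mem_cen.1 (D.fac.R_le hk))) D.ft.xQ)) hz1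
  calc _ = k * D.x1 * k⁻¹ * (k * (z * q)) * k⁻¹ := by group
    _ = k * D.x1 * k⁻¹ * z * q := by rw [D.comm k hk _ m]; group
    _ = _ := by rw [c]

end B1

open B1 in
theorem Hx.lb {a y : G} (D : Hx a) (hy : y ∈ Q3 a) (hz : y ∉ zpowers a) (hc : ZE a y) : Nonempty (Lb a) := by
  obtain ⟨x2, hx2, x2z, cy⟩ := exists_x2 D hy hz hc
  obtain ⟨y2, hy2, xy2⟩ := D.sp.es2.exists_commutator_eq hx2 x2z
  have p2 : P27 D.P2 a x2 y2 := ⟨D.sp.es2, D.sp.c2, hx2, hy2, xy2⟩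
  obtain ⟨ψ2, F⟩ := D.ft.other p2
  let W : Tw a := ⟨D.P1, D.P2, D.x1, D.y1, x2, y2, D.ψ, ψ2, D.ex, D.exp, D.sp, D.p1, p2, D.ft.act, F.act⟩
  have ex : Ex (D.x1 * x2) := ((hp D).ze cy).ex
  have aQ : a ∈ Q3 (D.x1 * x2) := (hp D).mem cy W.yyQ W.ynz
  have k0 : ∀ p : centralizer ({a} : Set G), (p : G) ∈ Q3 (D.x1 * x2) → D.ψ p = 1 → (p : G) ∈ Q3 a :=
    fun p hp h => D.ker3 h (ex.esz.pow_sq_eq_one hp)
  obtain ⟨p, q, hp, hq, pd, pq⟩ : ∃ p q : centralizer ({a} : Set G), (p : G) ∈ Q3 (D.x1 * x2) ∧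
      (q : G) ∈ Q3 (D.x1 * x2) ∧ D.ψ p = tv 1 ∧ ¬ Commute (p : G) q := by
    obtain ⟨p, hp, q, hq, pa, qa, e⟩ := cm ex aQ (W.anz ex)
    have nc : ¬ Commute p q := fun c => ex.esz.z_ne_one (by rw [← e, c.eq]; group)
    have k1 : ∀ p q : centralizer ({a} : Set G), (p : G) ∈ Q3 (D.x1 * x2) → (q : G) ∈ Q3 (D.x1 * x2) →
        ¬ Commute (p : G) q → (p : G) ∉ Q3 a → ∃ p q : centralizer ({a} : Set G), (p : G) ∈ Q3 (D.x1 * x2) ∧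
          (q : G) ∈ Q3 (D.x1 * x2) ∧ D.ψ p = tv 1 ∧ ¬ Commute (p : G) q := fun p q hp hq nc pQ => by
      obtain ⟨i, hi⟩ : ∃ i, D.ψ p = tv i := W.typ1 (ex.comm_a hp)
      have : ∀ i : ZMod 3, i = 0 ∨ i = 1 ∨ -i = 1 := by decide
      rcases this i with rfl | rfl | h
      · exact (pQ (k0 p hp (hi.trans tv_zero))).elim
      · exact ⟨p, q, hp, hq, hi, nc⟩
      · exact ⟨p⁻¹, q, inv_mem hp, hq, by rw [map_inv, hi, tv_inv, h], fun c => nc (by simpa using c.inv_left)⟩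
    by_cases pQ : p ∈ Q3 a
    · exact k1 ⟨q, mem_cen.2 qa⟩ ⟨p, mem_cen.2 pa⟩ hq hp (fun c => nc c.symm) fun qQ =>
        W.ynz (e ▸ D.ex.comm p pQ q qQ)
    · exact k1 ⟨p, mem_cen.2 pa⟩ ⟨q, mem_cen.2 qa⟩ hp hq nc pQ
  obtain ⟨j, hj⟩ : ∃ j, D.ψ q = tv j := W.typ1 (ex.comm_a hq)
  have wy : ((q * p ^ (-j).val : centralizer ({a} : Set G)) : G) ∈ Q3 (D.x1 * x2) := mul_mem hq (pow_mem hp _)
  have wQ := k0 _ wy (by rw [map_mul, map_pow, hj, pd, tv_pow, tv_mul, one_mul, add_neg_cancel, tv_zero])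
  have wV : ((q * p ^ (-j).val : centralizer ({a} : Set G)) : G) ∉ zpowers a ⊔ zpowers (D.x1 * x2) := fun h => by
    have c : Commute ((q : G) * (p : G) ^ (-j).val) p := mem_cen.1 ((sup_le (zpowers_le.2 (mem_cen.2 (ca p).symm))
      (zpowers_le.2 (mem_cen.2 (ex.comm_a hp).symm)) : _ ≤ centralizer {(p : G)}) h)
    exact pq (by simpa using (c.mul_left ((Commute.refl (p : G)).pow_left (-j).val).inv_left).symm)
  obtain ⟨k, hk⟩ : ∃ k, ψ2 p = tv k := W.typ2 (ex.comm_a hp)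
  have ek : k = -1 := by linear_combination W.stab0 ex aQ wQ wy wV (ex.comm_a hp) pd hk
  have d2 := F.ay hk
  rw [ek, pow_val_neg F.x3, ZMod.val_one, pow_one, inv_inv] at d2
  exact ⟨{ D with
    x2 := x2, y2 := y2, d := p, p2 := p2, pd := pd, dy := ex.comm_a hp, d2 := d2, cy := cy
    nP := fun u hu h => hu.elim (nP1 D · h) (nP2 D · h)
    ab := fun s hs hB => W.ab ex aQ hs (W.memB hB).1 (W.memB hB).2.1 (W.memB hB).2.2 }⟩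

end Cfsg.Agent.Tr8
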