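import Mathlib
import Cfsg.Agent.Tr8.Defs

/-! The action of `C(a)` on the first factor (kit for `LocB2`). -/

set_option autoImplicit false
set_option linter.unusedSectionVars false

namespace Cfsg.Agent.Tr8

open Cfsg.Agent.Spor Cfsg.Agent.Rec Cfsg.Agent.Inv.Fz Cfsg.Agent.T16 Cfsg.Agent.T3 Cfsg.Agent.T3.LB Cfsg.Agent.GT.PG Subgroup
open scoped commutatorElement

universe u

variable {G : Type u} [Group G] [Finite G]

theorem k_cu0 {a e q x y : G} (ex : Ex a) (ea : e * a = a * e) (hq : q ∈ Q3 a) (qe : q * e = e * q) (hx : x ∈ Q3 a)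
    (hy : y ∈ Q3 a) (h : e * y * e⁻¹ * y⁻¹ * x⁻¹ ∈ zpowers a) : q * x = x * q := by
  have es := ex.esz
  have h1 := om_conj es ea hq hy
  obtain ⟨z, hz, e1⟩ : ∃ z ∈ zpowers a, e * y * e⁻¹ = z * x * y := ⟨_, h, by group⟩
  rw [← qe, mul_inv_cancel_right, e1, om_mul_right es hq (mul_mem (es.zpowers_le hz) hx) hy,
    om_mul_right es hq (es.zpowers_le hz) hx, om_z_right es hz hq] at h1
  exact (om_eq_zero es hq hx).1 (by linear_combination h1)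

/-- No abelian subgroup of `Q` has order 81. -/
theorem k_notQ {a : G} (ex : Ex a) {E : Subgroup G} (hc : Nat.card E = 81) (hE : ∀ x ∈ E, ∀ y ∈ E, x * y = y * x) :
    ¬ E ≤ Q3 a := fun hQ => by
  have es := ex.esz
  obtain ⟨x, hx, xz⟩ : ∃ x ∈ E, x ∉ zpowers a := by
    by_contra hn
    push Not at hn
    have := card_le_of_le (hn : E ≤ zpowers a)
    rw [hc, es.card_zpowers] at this
    omega
  have h1 := card_mul_relIndex (inf_le_right : centralizer {x} ⊓ Q3 a ≤ Q3 a)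
  rw [inf_relIndex_right, es.relIndex_centralizer (hQ hx) xz, ex.card] at h1
  have h2 : E = centralizer {x} ⊓ Q3 a :=
    eq_of_le_of_card_ge (le_inf (fun y hy => mem_cen.2 (hE y hy x hx)) hQ) (by omega)
  obtain ⟨y, hy, e⟩ := es.exists_commutator_eq (hQ hx) xz
  have e2 := es.split (hQ hx) hy e
  have c2 := es.card_split (hQ hx) hy e
  rw [ex.card] at c2
  obtain ⟨x', hx', y', hy', e'⟩ := e2.exists_pair fun e => by have := e2.eq_zpowers_iff_card.1 e; omega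
  exact es.not_commute_of_eq e' (hE x' (h2 ▸ mem_inf.2 ⟨hx'.1.2, hx'.1.1⟩) y' (h2 ▸ mem_inf.2 ⟨hy'.1.2, hy'.1.1⟩))

theorem k_xz {P : Subgroup G} {a x y : G} (p : P27 P a x y) : x ∉ zpowers a := fun h => p.es.z_ne_one (by
  rw [← p.xy]; exact commutatorElement_eq_one_iff_mul_comm.2 (p.es.commute_of_mem_zpowers p.hy h).symm.eq)

namespace Hx

variable {a : G} (D : Hx a)

include D in
theorem kes : ESZ 3 (Q3 a) a := D.ex.esz

theorem kp1 : P27 D.P1 a D.x1 D.y1 :=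
  ⟨D.sp.es1, D.fac.card, D.fac.P_eq ▸ mem_clos (by simp), D.fac.P_eq ▸ mem_clos (by simp), D.fac.xy⟩

theorem kca (g : centralizer ({a} : Set G)) : (g : G) * a = a * g := mem_cen.1 g.2

theorem kn1 (g : centralizer ({a} : Set G)) : (g : G) ∈ normalizer (D.P1 : Set G) :=
  D.kp1.norm (kca g) (om_co D.kp1 (D.fac.act g).1).1 (om_co D.kp1 (D.fac.act g).2).1

theorem kn2 (g : centralizer ({a} : Set G)) : (g : G) ∈ normalizer (D.P2 : Set G) :=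
  D.sp.norm2 (norm_Q3 (kca g)) (D.kn1 g)

include D in
theorem kQN : Q3 a ≤ centralizer {a} := fun _ hq => mem_cen.2 (D.ex.comm_a hq)

theorem kxQ : D.x1 ∈ Q3 a := D.sp.le1 D.kp1.hx
theorem kyQ : D.y1 ∈ Q3 a := D.sp.le1 D.kp1.hy
theorem kxz : D.x1 ∉ zpowers a := k_xz D.kp1

theorem kkey (g : centralizer ({a} : Set G)) {p : G} (hp : p ∈ D.P1) :
    om a (g * p * (g : G)⁻¹) D.y1 = D.ψ g 0 0 * om a p D.y1 + D.ψ g 0 1 * om a D.x1 p ∧
      om a D.x1 (g * p * (g : G)⁻¹) = D.ψ g 1 0 * om a p D.y1 + D.ψ g 1 1 * om a D.x1 p := by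
  obtain ⟨m1, e1, e2⟩ := om_co D.kp1 (D.fac.act g).1
  obtain ⟨m2, e3, e4⟩ := om_co D.kp1 (D.fac.act g).2
  have h := D.kp1
  refine ⟨by rw [h.om_conj_left h.es (kca g) hp h.hy m1 m2, e1, e3], ?_⟩
  rw [om_swap h.es (conj_mem_of_mem_norm (D.kn1 g) hp) h.hx, h.om_conj_left h.es (kca g) hp h.hx m1 m2,
    om_swap h.es h.hx m1, om_swap h.es h.hx m2, e2, e4]
  ring

theorem kap {g : centralizer ({a} : Set G)} {k : ZMod 3} (h : D.ψ g = tv k) {p : G} (hp : p ∈ D.P1) :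
    g * p * (g : G)⁻¹ * p⁻¹ * (D.x1 ^ (k * om a D.x1 p).val)⁻¹ ∈ zpowers a := by
  obtain ⟨k1, k2⟩ := D.kkey g hp
  have m := conj_mem_of_mem_norm (D.kn1 g) hp
  have e := D.kp1.es
  have m' := pow_mem D.kp1.hx (k * om a D.x1 p).val
  rw [h] at k1 k2
  apply D.kp1.mem_z' (mul_mem (mul_mem m (inv_mem hp)) (inv_mem m'))
  · rw [om_mul_right e D.kp1.hx (mul_mem m (inv_mem hp)) (inv_mem m'), om_mul_right e D.kp1.hx m (inv_mem hp),
      om_inv_right e D.kp1.hx hp, om_inv_right e D.kp1.hx m', om_pow_right e D.kp1.hx D.kp1.hx, om_self e D.kp1.hx, k2]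
    simp [tv]
  · rw [om_mul_left e (mul_mem m (inv_mem hp)) (inv_mem m') D.kp1.hy, om_mul_left e m (inv_mem hp) D.kp1.hy,
      om_inv_left e hp D.kp1.hy, om_inv_left e m' D.kp1.hy, om_pow_left e D.kp1.hx D.kp1.hy, om_one e D.kp1.xy, k1]
    simp [tv]

theorem ktriv {g : centralizer ({a} : Set G)} (h : D.ψ g = 1) {p : G} (hp : p ∈ D.P1) :
    g * p * (g : G)⁻¹ * p⁻¹ ∈ zpowers a := by
  simpa using D.kap (h.trans tv_zero.symm) hp

theorem kau {g : centralizer ({a} : Set G)} {k : ZMod 3} (h : D.ψ g = tv k) :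
    g * D.x1 * (g : G)⁻¹ * D.x1⁻¹ ∈ zpowers a := by
  simpa [om_self D.kp1.es D.kp1.hx] using D.kap h D.kp1.hx

theorem kay {g : centralizer ({a} : Set G)} (h : D.ψ g = tv 1) :
    g * D.y1 * (g : G)⁻¹ * D.y1⁻¹ * D.x1⁻¹ ∈ zpowers a := by
  have h1 := D.kap h D.kp1.hy
  rwa [om_one D.kp1.es D.kp1.xy, one_mul, ZMod.val_one, pow_one] at h1

theorem kcol1 {g : centralizer ({a} : Set G)} {i j : ZMod 3}
    (h : g * D.x1 * (g : G)⁻¹ * (D.x1 ^ i.val * D.y1 ^ j.val)⁻¹ ∈ zpowers a) : D.ψ g 0 0 = i ∧ D.ψ g 1 0 = j := by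
  obtain ⟨-, e1, e2⟩ := om_co D.kp1 (D.fac.act g).1
  obtain ⟨-, e3, e4⟩ := om_co D.kp1 h
  exact ⟨e1.symm.trans e3, e2.symm.trans e4⟩

theorem kcol2 {g : centralizer ({a} : Set G)} {i j : ZMod 3}
    (h : g * D.y1 * (g : G)⁻¹ * (D.x1 ^ i.val * D.y1 ^ j.val)⁻¹ ∈ zpowers a) : D.ψ g 0 1 = i :=
  (om_co D.kp1 (D.fac.act g).2).2.1.symm.trans (om_co D.kp1 h).2.1

theorem kone {g : centralizer ({a} : Set G)} (h : ∀ p ∈ D.P1, g * p * (g : G)⁻¹ * p⁻¹ ∈ zpowers a) : D.ψ g = 1 := by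
  have h1 := D.kcol1 (g := g) (i := 1) (j := 0) (by simpa [ZMod.val_one] using h _ D.kp1.hx)
  exact s_ext _ h1.1 h1.2 (D.kcol2 (j := 1) (by simpa [ZMod.val_one] using h _ D.kp1.hy))

theorem koneQ {g : centralizer ({a} : Set G)} (h : (g : G) ∈ Q3 a) : D.ψ g = 1 :=
  D.kone fun _ hp => D.ex.comm _ h _ (D.sp.le1 hp)

/-- An element of the kernel which fixes a non-central element of `P₂` modulo the centre lies in `Q`. -/
theorem kkerQ {g : centralizer ({a} : Set G)} (h : D.ψ g = 1) {p : G} (hp : p ∈ D.P2) (pz : p ∉ zpowers a)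
    (e : g * p * (g : G)⁻¹ * p⁻¹ ∈ zpowers a) : (g : G) ∈ Q3 a := by
  refine (D.ker g h).resolve_right fun h1 => pz ?_
  have h2 := mul_mem (inv_mem e) (h1 p hp)
  rw [show (g * p * (g : G)⁻¹ * p⁻¹)⁻¹ * (g * p * (g : G)⁻¹ * p) = p ^ 3 * p⁻¹ by rw [pow_three]; group,
    D.exp p (D.sp.le2 hp), one_mul] at h2
  exact inv_mem_iff.1 h2

theorem kp2 : ∃ p ∈ D.P2, p ∉ zpowers a := by
  by_contra hn
  push Not at hn
  have := card_le_of_le (hn : D.P2 ≤ zpowers a)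
  rw [D.sp.c2, D.kes.card_zpowers] at this
  omega

theorem kcenQ {g : centralizer ({a} : Set G)} (h : D.ψ g = 1) (e : ∀ p ∈ D.P2, g * p = p * g) : (g : G) ∈ Q3 a := by
  obtain ⟨p, hp, pz⟩ := D.kp2
  exact D.kkerQ h hp pz (by rw [e p hp]; simp)

theorem ksqQ {g : centralizer ({a} : Set G)} (h : D.ψ g = 1) : (g : G) * g ∈ Q3 a := by
  rcases D.ker g h with h1 | h1
  · exact mul_mem h1 h1
  · obtain ⟨p, hp, pz⟩ := D.kp2
    refine D.kkerQ (g := g * g) (by rw [map_mul, h, one_mul]) hp pz ?_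
    have h2 := h1 p hp
    rw [Iz] at h2
    have h3 : ((g * g : centralizer ({a} : Set G)) : G) * p * ((g * g : centralizer ({a} : Set G)) : G)⁻¹ * p⁻¹ =
        g * (g * p * (g : G)⁻¹ * p) * (g : G)⁻¹ * (p * (g * p * (g : G)⁻¹ * p)⁻¹ * p⁻¹) := by push_cast; group
    rw [h3, conj_z (kca g) h2, conj_z (D.ex.comm_a (D.sp.le2 hp)) (inv_mem h2), mul_inv_cancel]
    exact one_mem _

/-- The involution of the quaternion group. -/
def kT : centralizer ({a} : Set G) := ⟨D.r, D.fac.R_le D.fac.t_mem⟩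

theorem kta : D.r * a = a * D.r := kca D.kT

theorem kneg : D.ψ D.kT = -1 := by
  have e : ∀ w : G, w ^ 3 = 1 → w ^ (-1 : ZMod 3).val = w⁻¹ := fun w h => by rw [pow_val_neg h, ZMod.val_one, pow_one]
  have h1 := D.kcol1 (g := D.kT) (i := -1) (j := 0) (by
    rw [e _ (D.exp _ D.kxQ), show (D.kT : G) = D.r from rfl, D.fac.tx]; simp)
  exact s_neg _ h1.1 h1.2 (D.kcol2 (j := -1) (by
    rw [e _ (D.exp _ D.kyQ), show (D.kT : G) = D.r from rfl, D.fac.ty]; simp))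

theorem ktP2 {p : G} (hp : p ∈ D.P2) : D.r * p = p * D.r := D.comm _ D.fac.t_mem p hp

theorem kiz {p : G} (hp : p ∈ D.P1) : Iz a D.r p := D.kp1.iz D.kta D.fac.tx D.fac.ty hp

theorem kmem1 {q : G} (hq : q ∈ Q3 a) (h : D.r * q * D.r⁻¹ = q⁻¹) : q ∈ D.P1 :=
  D.sp.mem_iff (fun _ => D.kiz) (fun _ => D.ktP2) hq (by rw [Iz, h]; simp)

theorem kfixz {p : G} (hp : p ∈ D.P1) (h : D.r * p = p * D.r) : p ∈ zpowers a := by
  have h1 := D.kiz hp
  rw [Iz, h, mul_inv_cancel_right, show p * p = p ^ 3 * p⁻¹ by rw [pow_three]; group, D.exp p (D.sp.le1 hp),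
    one_mul] at h1
  exact inv_mem_iff.1 h1

theorem kmem2 {q : G} (hq : q ∈ Q3 a) (h1 : q * D.r = D.r * q) : q ∈ D.P2 := by
  obtain ⟨u, hu, v, hv, rfl⟩ := D.sp.dec q hq
  refine mul_mem (D.sp.es2.zpowers_le (D.kfixz hu ?_)) hv
  rw [mul_assoc, ← D.ktP2 hv, ← mul_assoc, ← mul_assoc, mul_left_inj] at h1
  exact h1.symm

theorem kr4 {r : centralizer ({a} : Set G)} (hr : (r : G) ∈ D.R) : D.ψ r ^ 4 = 1 ∧ (r : G) ^ 4 = 1 := by
  have h8 : (r : G) ^ 8 = 1 := congrArg Subtype.val (D.fac.cardR ▸ pow_card_eq_one' (x := (⟨r, hr⟩ : D.R)))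
  have h4 := s_eight (D.ψ r) (by rw [← map_pow, show r ^ 8 = 1 from Subtype.ext h8, map_one])
  exact ⟨h4, congrArg Subtype.val (D.fac.inj (r ^ 4) (pow_mem hr 4) (by rw [map_pow, h4]))⟩

theorem ksurj {m : S3} (hm : m ^ 4 = 1) : ∃ r : centralizer ({a} : Set G), (r : G) ∈ D.R ∧ D.ψ r = m := by
  let f : D.R → {m : S3 // m ^ 4 = 1} := fun r => ⟨D.ψ ⟨r, D.fac.R_le r.2⟩, (D.kr4 r.2).1⟩
  have inj : Function.Injective f := fun r s e => by
    have := D.fac.inj (⟨r, D.fac.R_le r.2⟩ * ⟨s, D.fac.R_le s.2⟩⁻¹) (mul_mem r.2 (inv_mem s.2))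
      (by rw [map_mul, map_inv, mul_inv_eq_one]; exact congrArg Subtype.val e)
    exact Subtype.ext (congrArg (fun w : centralizer ({a} : Set G) => (w : G)) (mul_inv_eq_one.1 this))
  have bij := (Nat.bijective_iff_injective_and_card f).2 ⟨inj, by
    rw [D.fac.cardR, Nat.card_eq_fintype_card, Fintype.card_subtype, s_card]⟩
  obtain ⟨r, hr⟩ := bij.2 ⟨m, hm⟩
  exact ⟨_, r.2, congrArg Subtype.val hr⟩

theorem keqR {r s : centralizer ({a} : Set G)} (hr : (r : G) ∈ D.R) (hs : (s : G) ∈ D.R) (h : D.ψ r = D.ψ s) :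
    (r : G) = s :=
  congrArg Subtype.val (mul_inv_eq_one.1 (D.fac.inj (r * s⁻¹) (mul_mem hr (inv_mem hs))
    (by rw [map_mul, map_inv, h, mul_inv_cancel])))

theorem krt {r : G} (hr : r ∈ D.R) : r * D.r = D.r * r :=
  (D.keqR (r := ⟨r, D.fac.R_le hr⟩ * D.kT) (s := D.kT * ⟨r, D.fac.R_le hr⟩) (mul_mem hr D.fac.t_mem)
    (mul_mem D.fac.t_mem hr) (by rw [map_mul, map_mul, D.kneg]; simp) :)

/-- The commutator of `g` with an element of `R` centralises `P₂`. -/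
theorem kcomm2 (g : centralizer ({a} : Set G)) {k p : G} (hk : k ∈ D.R) (hp : p ∈ D.P2) :
    g * k * (g : G)⁻¹ * k⁻¹ * p = p * (g * k * (g : G)⁻¹ * k⁻¹) := by
  have h1 := D.comm k hk _ (conj_mem_of_mem_norm (inv_mem (D.kn2 g)) hp)
  have h2 := D.comm k⁻¹ (inv_mem hk) p hp
  calc _ = g * k * (g : G)⁻¹ * (k⁻¹ * p) := by group
    _ = g * (k * ((g : G)⁻¹ * p * (g : G)⁻¹⁻¹)) * (g : G)⁻¹ * k⁻¹ := by rw [h2]; group
    _ = _ := by rw [h1]; group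

theorem kwt (g : centralizer ({a} : Set G)) : g * D.r * (g : G)⁻¹ * D.r⁻¹ ∈ D.P1 ∧
    D.r * (g * D.r * (g : G)⁻¹ * D.r⁻¹) * D.r⁻¹ = (g * D.r * (g : G)⁻¹ * D.r⁻¹)⁻¹ := by
  have h1 : D.r * (g * D.r * (g : G)⁻¹ * D.r⁻¹) * D.r⁻¹ = (g * D.r * (g : G)⁻¹ * D.r⁻¹)⁻¹ := by
    have := inv_eq_of_mul_eq_one_left D.fac.t2
    calc _ = D.r * g * D.r * (g : G)⁻¹ * (D.r * D.r)⁻¹ := by group
      _ = D.r * g * D.r⁻¹ * (g : G)⁻¹ := by rw [D.fac.t2, this]; group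
      _ = _ := by group
  refine ⟨D.kmem1 (D.kcenQ (g := g * D.kT * g⁻¹ * D.kT⁻¹) ?_ fun p hp => D.kcomm2 g D.fac.t_mem hp) h1, h1⟩
  simp only [map_mul, map_inv, D.kneg, s_negc]

theorem kadj (g : centralizer ({a} : Set G)) : ∃ p ∈ D.P1, p * g * D.r = D.r * (p * g) := by
  obtain ⟨h1, h2⟩ := D.kwt g
  refine ⟨_, h1, ?_⟩
  have h3 := D.exp _ (D.sp.le1 h1)
  obtain ⟨w, hw⟩ : ∃ w, w = g * D.r * (g : G)⁻¹ * D.r⁻¹ := ⟨_, rfl⟩
  rw [← hw] at h2 h3 ⊢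
  calc _ = w * (g * D.r * (g : G)⁻¹ * D.r⁻¹) * D.r * g := by group
    _ = w ^ 3 * (w⁻¹ * D.r * g) := by rw [← hw, pow_three]; group
    _ = _ := by rw [h3, ← h2]; group

theorem kfix {g p : G} (hp : p ∈ D.P1) (e : D.r * p * D.r⁻¹ = p⁻¹) (ht : g * D.r = D.r * g)
    (h : g * p * g⁻¹ * p⁻¹ ∈ zpowers a) : g * p = p * g := by
  refine mul_inv_eq_iff_eq_mul.1 (eq_of_inv D.ex D.kta (D.ex.comm_a (D.sp.le1 hp)) e ?_ h)
  calc _ = D.r * g * p * (D.r * g)⁻¹ := by group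
    _ = g * (D.r * p * D.r⁻¹) * g⁻¹ := by rw [← ht]; group
    _ = _ := by rw [e]; group

theorem kcen_uw {u w q : G} (hu : u ∈ D.P1) (uz : u ∉ zpowers a) (hw : w ∈ D.P2) (wz : w ∉ zpowers a) (hq : q ∈ Q3 a)
    (e1 : q * u = u * q) (e2 : q * w = w * q) : ∃ z ∈ zpowers a, ∃ i j : ZMod 3, q = z * u ^ i.val * w ^ j.val := by
  obtain ⟨p, hp, p', hp', rfl⟩ := D.sp.dec q hq
  rw [mul_assoc, ← D.sp.comm hu hp', ← mul_assoc, ← mul_assoc, mul_left_inj] at e1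
  rw [← mul_assoc, ← D.sp.comm hp hw, mul_assoc, mul_assoc, mul_right_inj] at e2
  obtain ⟨z, hz, i, rfl⟩ := cen_w D.sp.es1 D.sp.c1 hu uz hp e1
  obtain ⟨z', hz', j, rfl⟩ := cen_w D.sp.es2 D.sp.c2 hw wz hp' e2
  refine ⟨z * z', mul_mem hz hz', i, j, ?_⟩
  rw [mul_assoc z z', ← zc (D.ex.comm_a (D.sp.le1 (pow_mem hu _))) hz']; group

include D in
theorem kord {u : G} (hu : u ∈ Q3 a) (uz : u ∉ zpowers a) : orderOf u = 3 :=
  orderOf_eq_prime (D.exp u hu) fun e => uz (e ▸ one_mem _)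

end Hx

end Cfsg.Agent.Tr8
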