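import Mathlib
import Cfsg.Agent.Tr8.Defs
import Cfsg.Agent.Tr8.LocB2K
import Cfsg.Agent.F4T.LocB

/-! The Thompson subgroup (PLAN section LocB2). -/

set_option autoImplicit false
set_option linter.unusedSectionVars false

namespace Cfsg.Agent.Tr8

open Cfsg.Agent.Spor Cfsg.Agent.Rec Cfsg.Agent.Inv.Fz Cfsg.Agent.T16 Cfsg.Agent.T3 Cfsg.Agent.T3.LB Subgroup
open scoped commutatorElement

universe u

variable {G : Type u} [Group G] [Finite G]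

namespace Lb

variable {a : G} (D : Lb a)

abbrev BB : Subgroup G := clos [a, D.x1, D.x2]
abbrev JJ : Subgroup G := centralizer (D.BB : Set G)
abbrev SS : Subgroup G := Q3 a ⊔ D.JJ

theorem x2Q : D.x2 ∈ Q3 a := D.sp.le2 D.p2.hx
theorem y2Q : D.y2 ∈ Q3 a := D.sp.le2 D.p2.hy
theorem x2z : D.x2 ∉ zpowers a := k_xz D.p2
theorem x2a : D.x2 * a = a * D.x2 := D.ex.comm_a D.x2Q
theorem y2a : D.y2 * a = a * D.y2 := D.ex.comm_a D.y2Q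
theorem x12 : D.x1 * D.x2 = D.x2 * D.x1 := D.sp.comm D.kp1.hx D.p2.hx

theorem xy2 : D.x2 * D.y2 * D.x2⁻¹ = a * D.y2 := by
  have e : D.x2 * D.y2 * D.x2⁻¹ * D.y2⁻¹ = a := D.p2.xy
  exact mul_inv_eq_iff_eq_mul.1 e

theorem yx2 : D.y2 * D.x2 * D.y2⁻¹ = a⁻¹ * D.x2 := by
  calc _ = (D.x2 * D.y2 * D.x2⁻¹ * D.y2⁻¹)⁻¹ * D.x2 := by group
    _ = _ := by rw [D.xy2]; group

theorem BQ : D.BB ≤ Q3 a := clos_le.2 (by
  simp only [List.forall_mem_cons, List.not_mem_nil, false_imp_iff, implies_true, and_true]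
  exact ⟨D.ex.mem, D.kxQ, D.x2Q⟩)

theorem memJ {g : G} : g ∈ D.JJ ↔ g * a = a * g ∧ g * D.x1 = D.x1 * g ∧ g * D.x2 = D.x2 * g := by
  refine ⟨fun h => ⟨(h _ (mem_clos (by simp))).symm, (h _ (mem_clos (by simp))).symm,
    (h _ (mem_clos (by simp))).symm⟩, fun h y hy => mem_cen.1 ((clos_le.2 ?_ : D.BB ≤ centralizer {g}) hy)⟩
  simp only [List.forall_mem_cons, List.not_mem_nil, false_imp_iff, implies_true, and_true, mem_cen]
  exact ⟨h.1.symm, h.2.1.symm, h.2.2.symm⟩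

theorem BJ : D.BB ≤ D.JJ := clos_le.2 (by
  simp only [List.forall_mem_cons, List.not_mem_nil, false_imp_iff, implies_true, and_true, memJ]
  exact ⟨⟨trivial, (D.ex.comm_a D.kxQ).symm, D.x2a.symm⟩, ⟨D.ex.comm_a D.kxQ, trivial, D.x12⟩, D.x2a, D.x12.symm⟩)

theorem memB {q : G} (hq : q ∈ Q3 a) (h1 : q * D.x1 = D.x1 * q) (h2 : q * D.x2 = D.x2 * q) : q ∈ D.BB := by
  obtain ⟨z, hz, i, j, rfl⟩ := D.kcen_uw D.kp1.hx D.kxz D.p2.hx D.x2z hq h1 h2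
  exact mul_mem (mul_mem (zpowers_le.2 (mem_clos (by simp)) hz) (pow_mem (mem_clos (by simp)) _))
    (pow_mem (mem_clos (by simp)) _)

theorem cardB : Nat.card D.BB = 27 := by
  have e : D.BB = zpowers D.x2 ⊔ (zpowers D.x1 ⊔ zpowers a) := by
    refine le_antisymm (clos_le.2 ?_) ?_
    · simp only [List.forall_mem_cons, List.not_mem_nil, false_imp_iff, implies_true, and_true]
      exact ⟨mem_sup_right (mem_sup_right (mem_zpowers _)), mem_sup_right (mem_sup_left (mem_zpowers _)),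
        mem_sup_left (mem_zpowers _)⟩
    · simp only [sup_le_iff, zpowers_le]
      exact ⟨mem_clos (by simp), mem_clos (by simp), mem_clos (by simp)⟩
  rw [e]
  exact card27 D.ex.ord (D.kord D.kxQ D.kxz) (D.kord D.x2Q D.x2z) (D.ex.comm_a D.kxQ) D.x2a D.x12.symm D.kxz fun hm =>
    D.x2z (D.sp.inf ((sup_le (zpowers_le.2 D.kp1.hx) D.sp.es1.zpowers_le : _ ≤ D.P1) hm) D.p2.hx)

theorem JN : D.JJ ≤ centralizer {a} := fun _ hg => mem_cen.2 (D.memJ.1 hg).1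

theorem SN : D.SS ≤ centralizer {a} := sup_le D.kQN D.JN

theorem JQ : D.JJ ≤ normalizer (Q3 a : Set G) := fun _ hg => norm_Q3 (D.memJ.1 hg).1

theorem tyS {g : centralizer ({a} : Set G)} (h : (g : G) ∈ D.SS) :
    ∃ i, D.ψ g = tv i ∧ g * D.x2 * (g : G)⁻¹ * D.x2⁻¹ ∈ zpowers a := by
  rw [SS, sup_comm] at h
  obtain ⟨j, hj, q, hq, e⟩ := (mem_sup_iff_of_le_normalizer D.JQ).1 h
  obtain rfl : g = ⟨j, D.JN hj⟩ * ⟨q, D.kQN hq⟩ := Subtype.ext e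
  have h1 := D.kcol1 (g := ⟨j, D.JN hj⟩) (i := 1) (j := 0) (by simp [(D.memJ.1 hj).2.1, ZMod.val_one])
  obtain ⟨i, hi⟩ := F4L.lb_tv _ h1.1 h1.2
  refine ⟨i, by rw [map_mul, hi, D.koneQ hq, mul_one], ?_⟩
  have h2 := D.ex.comm q hq _ D.x2Q
  have h3 : j * q * D.x2 * (j * q)⁻¹ * D.x2⁻¹ = j * (q * D.x2 * q⁻¹ * D.x2⁻¹) * j⁻¹ := by
    calc _ = j * (q * D.x2 * q⁻¹ * D.x2⁻¹) * j⁻¹ * (j * D.x2 * j⁻¹ * D.x2⁻¹) := by group
      _ = _ := by rw [(D.memJ.1 hj).2.2]; group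
  change j * q * D.x2 * (j * q)⁻¹ * D.x2⁻¹ ∈ _
  rwa [h3, conj_z (D.memJ.1 hj).1 h2]

theorem zeV {s : G} (hs : s ∈ zpowers a ⊔ zpowers (D.x1 * D.x2)) (h1 : s ≠ 1) : ZE a s := by
  have ya := D.ex.comm_a (mul_mem D.kxQ D.x2Q)
  obtain ⟨z, hz, w, hw, rfl⟩ := (mem_sup_iff_of_le_normalizer (zpowers_le.2 (mem_normalizer_of_conj_mem fun y hy => by
    rwa [conj_z ya.symm hy]))).1 hs
  have k : ∀ z ∈ zpowers a, ZE a (z * (D.x1 * D.x2)) := fun z hz => by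
    obtain ⟨n, hn⟩ := zc_pow (x := D.x1 * D.x2) D.ex.ord (D.ex.comm_a D.kyQ) (inv_mem (mem_zpowers a))
      (inv_ne_one.2 D.kes.z_ne_one) (by
        calc _ = (D.x1 * D.y1 * D.x1⁻¹ * D.y1⁻¹)⁻¹ * D.x1 * (D.y1 * D.x2 * D.y1⁻¹) := by group
          _ = _ := by rw [D.fac.xy, D.sp.comm D.kp1.hy D.p2.hx]; group) hz
    exact hn ▸ ze_cj D.cy _
  have o : orderOf (D.x1 * D.x2) = 3 := D.kord (mul_mem D.kxQ D.x2Q) fun h => D.x2z (D.sp.inf (by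
    simpa using mul_mem (inv_mem D.kp1.hx) (D.sp.es1.zpowers_le h)) D.p2.hx)
  have t : ∀ i : ZMod 3, i.val = 0 ∨ i.val = 1 ∨ i = -1 := by decide
  have t' : ∀ w : G, w ^ 3 = 1 → w ^ (-1 : ZMod 3).val = w⁻¹ := fun w h => by rw [pow_val_neg h, ZMod.val_one, pow_one]
  obtain ⟨j, rfl⟩ := exists_val o hw
  rcases t j with e | e | e <;> rw [e] at h1 ⊢
  · obtain ⟨i, rfl⟩ := exists_val D.ex.ord hz
    rcases t i with e | e | e <;> rw [e] at h1 ⊢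
    · simp at h1
    · simpa using ze_refl a
    · rw [t' a D.kes.z_pow]; simpa using ze_inv (ze_refl a)
  · simpa using k z hz
  · rw [t' _ (o ▸ pow_orderOf_eq_one _), ← (show Commute (D.x1 * D.x2) z from zc ya hz).inv_left.eq]
    simpa using ze_inv (k _ (inv_mem hz))

/-- The action on `y₂` modulo the centre. -/
def Wy (g : G) : Prop := g * D.y2 * g⁻¹ * D.y2⁻¹ * D.x2 ∈ zpowers a

theorem Wy.mul {D : Lb a} {g q : G} (h : D.Wy g) (ga : g * a = a * g) (hq : q ∈ Q3 a) : D.Wy (q * g) := by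
  have h1 := D.ex.comm q hq _ (conj_mem_of_mem_norm (norm_Q3 ga) D.y2Q)
  have h2 := mul_mem h1 h
  rwa [show q * (g * D.y2 * g⁻¹) * q⁻¹ * (g * D.y2 * g⁻¹)⁻¹ * (g * D.y2 * g⁻¹ * D.y2⁻¹ * D.x2) =
    q * g * D.y2 * (q * g)⁻¹ * D.y2⁻¹ * D.x2 by group] at h2

/-- The element `c` before it is known to have order 3. -/
structure Pc (c : centralizer ({a} : Set G)) : Prop where
  p1 : D.ψ c = tv 1
  cr : c * D.r = D.r * c
  x1 : c * D.x1 = D.x1 * c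
  x2 : c * D.x2 = D.x2 * c
  yc : D.y2 * c * D.y2⁻¹ = c * D.x2 * a

theorem exists_pc : ∃ c, D.Pc c := by
  obtain ⟨p, hp, e1⟩ := D.kadj D.d
  have pQ := D.sp.le1 hp
  have da := Hx.kca D.d
  have pa := D.ex.comm_a pQ
  have c0a : p * D.d * a = a * (p * D.d) := (show Commute p a from pa).mul_left da
  have p0 : D.ψ (⟨p, D.kQN pQ⟩ * D.d) = tv 1 := by rw [map_mul, D.koneQ pQ, one_mul, D.pd]
  have c0x : p * D.d * D.x1 = D.x1 * (p * D.d) := D.kfix D.kp1.hx D.fac.tx e1 (D.kau p0)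
  have hz := D.kau D.pd
  have e2 : p * D.d * D.x2 * (p * D.d)⁻¹ = (D.d * D.x1 * (D.d : G)⁻¹ * D.x1⁻¹)⁻¹ * D.x2 := by
    have e3 : D.d * D.x2 * (D.d : G)⁻¹ = (D.d * D.x1 * (D.d : G)⁻¹ * D.x1⁻¹)⁻¹ * D.x2 := by
      calc _ = (D.d * D.x1 * (D.d : G)⁻¹)⁻¹ * (D.d * (D.x1 * D.x2)) * (D.d : G)⁻¹ := by group
        _ = D.x1⁻¹ * (D.d * D.x1 * (D.d : G)⁻¹ * D.x1⁻¹)⁻¹ * D.x1⁻¹⁻¹ * D.x2 := by rw [D.dy]; group
        _ = _ := by rw [conj_z (show Commute D.x1 a from D.ex.comm_a D.kxQ).inv_left.eq (inv_mem hz)]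
    calc _ = p * (D.d * D.x2 * (D.d : G)⁻¹) * p⁻¹ := by group
      _ = p * (D.d * D.x1 * (D.d : G)⁻¹ * D.x1⁻¹)⁻¹ * p⁻¹ * (p * D.x2 * p⁻¹) := by rw [e3]; group
      _ = _ := by rw [conj_z pa (inv_mem hz), D.sp.comm hp D.p2.hx]; group
  obtain ⟨n, hn⟩ := fixup D.ex.ord D.y2a (inv_mem (mem_zpowers a)) (inv_ne_one.2 D.kes.z_ne_one) D.yx2 (inv_mem hz) e2
  have w1 : D.Wy (D.y2 ^ n * (p * D.d)) := Wy.mul (Wy.mul D.d2 da pQ) c0a (pow_mem D.y2Q n)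
  have c1a : D.y2 ^ n * (p * D.d) * a = a * (D.y2 ^ n * (p * D.d)) :=
    ((show Commute D.y2 a from D.y2a).pow_left n).mul_left c0a
  have c1r : D.y2 ^ n * (p * D.d) * D.r = D.r * (D.y2 ^ n * (p * D.d)) :=
    (show Commute (D.y2 ^ n) D.r from (D.ktP2 (pow_mem D.p2.hy n)).symm).mul_left e1
  have c1x : D.y2 ^ n * (p * D.d) * D.x1 = D.x1 * (D.y2 ^ n * (p * D.d)) :=
    (show Commute (D.y2 ^ n) D.x1 from (D.sp.comm D.kp1.hx (pow_mem D.p2.hy n)).symm).mul_left c0x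
  have p1 : D.ψ ⟨D.y2 ^ n * (p * D.d), mem_cen.2 c1a⟩ = tv 1 := by
    rw [← p0, ← one_mul (D.ψ (_ * _)), ← D.koneQ (g := ⟨D.y2 ^ n, D.kQN (pow_mem D.y2Q n)⟩) (pow_mem D.y2Q n),
      ← map_mul]
    rfl
  generalize D.y2 ^ n * (p * (D.d : G)) = c1 at *
  obtain ⟨m, hm⟩ := zc_pow D.ex.ord D.x2a (mem_zpowers a) D.kes.z_ne_one D.xy2
    (mul_mem (inv_mem w1) (inv_mem (mem_zpowers a)))
  have xm := pow_mem D.x2Q m
  have cx2 : Commute (D.x2 ^ m * c1) D.x2 := ((Commute.refl D.x2).pow_left m).mul_left hn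
  have ca : Commute (D.x2 ^ m * c1) a := ((show Commute D.x2 a from D.x2a).pow_left m).mul_left c1a
  refine ⟨⟨D.x2 ^ m, D.kQN xm⟩ * ⟨c1, mem_cen.2 c1a⟩, ?_, ?_, ?_, ?_, ?_⟩
  · rw [map_mul, D.koneQ (g := ⟨D.x2 ^ m, _⟩) xm, one_mul, p1]
  · exact (show Commute (D.x2 ^ m) D.r from (D.ktP2 (pow_mem D.p2.hx m)).symm).mul_left c1r
  · exact (show Commute (D.x2 ^ m) D.x1 from (D.sp.comm D.kp1.hx (pow_mem D.p2.hx m)).symm).mul_left c1x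
  · exact cx2
  change D.y2 * (D.x2 ^ m * c1) * D.y2⁻¹ = D.x2 ^ m * c1 * D.x2 * a
  obtain ⟨z, hz', e4⟩ : ∃ z ∈ zpowers a, c1 * D.y2 * c1⁻¹ * D.y2⁻¹ * D.x2 = z := ⟨_, w1, rfl⟩
  rw [e4] at hm
  have e5 : D.x2 ^ m * c1 * D.y2 * (D.x2 ^ m * c1)⁻¹ = a⁻¹ * D.x2⁻¹ * D.y2 := by
    calc _ = D.x2 ^ m * (c1 * D.y2 * c1⁻¹ * D.y2⁻¹ * D.x2) * (D.x2 ^ m)⁻¹ * D.x2⁻¹ *
          (D.x2 ^ m * D.y2 * (D.x2 ^ m)⁻¹) := by group
      _ = z * (D.x2⁻¹ * (z⁻¹ * a⁻¹) * D.x2⁻¹⁻¹) * D.x2⁻¹ * D.y2 := by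
        rw [e4, hm, conj_z ((show Commute D.x2 a from D.x2a).pow_left m).eq hz']; group
      _ = _ := by
        rw [conj_z (show Commute D.x2 a from D.x2a).inv_left.eq (mul_mem (inv_mem hz') (inv_mem (mem_zpowers a)))]; group
  calc _ = (D.x2 ^ m * c1 * D.y2 * (D.x2 ^ m * c1)⁻¹ * D.y2⁻¹)⁻¹ * (D.x2 ^ m * c1) := by group
    _ = D.x2 * (a * (D.x2 ^ m * c1)) := by rw [e5]; group
    _ = _ := by rw [← ca.eq, ← mul_assoc, ← cx2.eq]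

namespace Pc

variable {D} {c : centralizer ({a} : Set G)} (h : D.Pc c)
include h

theorem cJ : (c : G) ∈ D.JJ := D.memJ.2 ⟨Hx.kca c, h.x1, h.x2⟩

theorem wy : D.Wy c := by
  have e : (c : G) * D.y2 * (c : G)⁻¹ * D.y2⁻¹ * D.x2 = a⁻¹ := by
    calc _ = c * (D.y2 * c * D.y2⁻¹)⁻¹ * D.x2 := by group
      _ = c * a⁻¹ * (c : G)⁻¹ * (c * D.x2 * (c : G)⁻¹)⁻¹ * D.x2 := by rw [h.yc]; group
      _ = _ := by rw [h.x2, conj_z (Hx.kca c) (inv_mem (mem_zpowers a))]; group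
  rw [Wy, e]; exact inv_mem (mem_zpowers a)

theorem memQ {g : centralizer ({a} : Set G)} {i : ZMod 3} (h1 : D.ψ g = tv i)
    (h2 : g * D.x2 * (g : G)⁻¹ * D.x2⁻¹ ∈ zpowers a) : (g : G) * ((c : G) ^ i.val)⁻¹ ∈ Q3 a := by
  refine D.kkerQ (g := g * (c ^ i.val)⁻¹) ?_ D.p2.hx D.x2z ?_
  · rw [map_mul, map_inv, map_pow, mul_inv_eq_one, h1, h.p1, tv_pow, one_mul]
  · have e := ((show Commute (c : G) D.x2 from h.x2).pow_left i.val).inv_left.eq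
    have : ((g * (c ^ i.val)⁻¹ : centralizer ({a} : Set G)) : G) * D.x2 *
        ((g * (c ^ i.val)⁻¹ : centralizer ({a} : Set G)) : G)⁻¹ * D.x2⁻¹ = g * D.x2 * (g : G)⁻¹ * D.x2⁻¹ := by
      push_cast
      rw [mul_assoc (g : G), e]; group
    rwa [this]

theorem dec {g : G} (hg : g ∈ D.JJ) : ∃ b ∈ D.BB, ∃ i : ZMod 3, g = b * (c : G) ^ i.val := by
  obtain ⟨i, h1, h2⟩ := D.tyS (g := ⟨g, D.JN hg⟩) (mem_sup_right hg)
  have h3 := D.memJ.1 (mul_mem hg (inv_mem (pow_mem h.cJ i.val)))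
  exact ⟨_, D.memB (h.memQ h1 h2) h3.2.1 h3.2.2, i, by simp⟩

theorem comm : ∀ x ∈ D.JJ, ∀ y ∈ D.JJ, x * y = y * x := fun x hx y hy => by
  obtain ⟨b, hb, i, rfl⟩ := h.dec hx
  refine (show Commute b y from hy b hb).mul_left (Commute.pow_left ?_ _)
  obtain ⟨b', hb', j, rfl⟩ := h.dec hy
  exact (show Commute b' c from h.cJ b' hb').symm.mul_right ((Commute.refl _).pow_right _)

theorem J_eq : D.JJ = clos [(c : G), D.x1, D.x2, a] := by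
  refine le_antisymm (fun g hg => ?_) (clos_le.2 ?_)
  · obtain ⟨b, hb, i, rfl⟩ := h.dec hg
    exact mul_mem ((clos_le.2 fun x hx => mem_clos (by simp at hx ⊢; tauto) : D.BB ≤ _) hb)
      (pow_mem (mem_clos (by simp)) _)
  · simp only [List.forall_mem_cons, List.not_mem_nil, false_imp_iff, implies_true, and_true]
    exact ⟨h.cJ, D.BJ (mem_clos (by simp)), D.BJ (mem_clos (by simp)), D.BJ (mem_clos (by simp))⟩

theorem card : Nat.card D.JJ = 81 := by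
  let φ : D.BB × ZMod 3 → D.JJ := fun p => ⟨p.1 * (c : G) ^ p.2.val, mul_mem (D.BJ p.1.2) (pow_mem h.cJ _)⟩
  have h1 : Function.Bijective φ := by
    refine ⟨fun p p' e => ?_, fun g => ?_⟩
    · have e1 : (p.1 : G) * (c : G) ^ p.2.val = p'.1 * (c : G) ^ p'.2.val := congrArg Subtype.val e
      have e2 : (⟨p.1, D.kQN (D.BQ p.1.2)⟩ : centralizer ({a} : Set G)) * c ^ p.2.val =
          ⟨p'.1, D.kQN (D.BQ p'.1.2)⟩ * c ^ p'.2.val := Subtype.ext e1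
      have e3 := congrArg D.ψ e2
      rw [map_mul, map_mul, D.koneQ (g := ⟨p.1, _⟩) (D.BQ p.1.2), D.koneQ (g := ⟨p'.1, _⟩) (D.BQ p'.1.2),
         map_pow, map_pow, h.p1, tv_pow, tv_pow,
        one_mul, one_mul, one_mul, one_mul] at e3
      have e4 := tv_inj _ _ e3
      rw [e4, mul_left_inj] at e1
      exact Prod.ext (Subtype.ext e1) e4
    · obtain ⟨b, hb, i, e⟩ := h.dec g.2
      exact ⟨(⟨b, hb⟩, i), Subtype.ext e.symm⟩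
  rw [← Nat.card_eq_of_bijective φ h1, Nat.card_prod, cardB, Nat.card_zmod]

theorem pgS : IsPGroup 3 D.SS :=
  D.kes.isPGroup.to_sup_of_normal_left' (IsPGroup.of_card (n := 4) h.card) D.JQ

theorem syl0 : IsSylIn 3 D.SS (centralizer {a}) := by
  refine ⟨D.SN, h.pgS, fun T hT hTa hST => le_antisymm (fun u hu => ?_) hST⟩
  have cT : (c : G) ∈ T := hST (mem_sup_right h.cJ)
  obtain ⟨n, hn⟩ := range_pow hT (D.ψ.comp (inclusion hTa)) s_nine (x := ⟨c, cT⟩)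
    (fun e => absurd (h.p1.symm.trans e) (by decide +kernel)) ⟨u, hu⟩
  obtain ⟨k, hk⟩ := hT (⟨u, hu⟩ * (⟨c, cT⟩ ^ n)⁻¹)
  have h1 : u * ((c : G) ^ n)⁻¹ ∈ Q3 a := F4L.lb_sq (k := k) (congrArg Subtype.val hk) (D.ksqQ hn)
  simpa [SS] using mul_mem (mem_sup_left h1 : _ ∈ D.SS) (mem_sup_right (zpow_mem h.cJ n))

theorem syl : IsSylIn 3 D.SS ⊤ := by
  refine isSylIn_of_not_dvd le_top h.pgS ?_
  rw [relIndex_top_right, ← relIndex_mul_index D.SN]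
  exact fun e => ((Nat.Prime.dvd_mul Nat.prime_three).1 e).elim h.syl0.not_dvd_relIndex D.idx

theorem wc (g : G) (hE : cj g D.JJ ≤ D.SS) : cj g D.JJ = D.JJ := by
  have hc : Nat.card (cj g D.JJ) = 81 := by rw [card_cj, h.card]
  have hab : ∀ x ∈ cj g D.JJ, ∀ y ∈ cj g D.JJ, x * y = y * x := by
    rintro _ ⟨x, hx, rfl⟩ _ ⟨y, hy, rfl⟩
    rw [← map_mul, h.comm x hx y hy, map_mul]
  generalize cj g D.JJ = E at *
  have hEN := hE.trans D.SN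
  have hk : ∀ e : centralizer ({a} : Set G), (e : G) ∈ E → D.ψ e = 1 → (e : G) ∈ Q3 a := fun e he h0 => by
    obtain ⟨i, -, h2⟩ := D.tyS (hE he)
    exact D.kkerQ h0 D.p2.hx D.x2z h2
  obtain ⟨e, he, h1⟩ : ∃ e : centralizer ({a} : Set G), (e : G) ∈ E ∧ D.ψ e = tv 1 := by
    obtain ⟨e, he, eQ⟩ := SetLike.not_le_iff_exists.1 (k_notQ D.ex hc hab)
    obtain ⟨i, h1, -⟩ := D.tyS (g := ⟨e, hEN he⟩) (hE he)
    have t : ∀ i : ZMod 3, i = 0 ∨ i = 1 ∨ -i = 1 := by decide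
    rcases t i with e' | e' | e'
    · exact absurd (hk _ he (by rw [h1, e', tv_zero])) eQ
    · exact ⟨⟨e, hEN he⟩, he, by rw [h1, e']⟩
    · exact ⟨⟨e, hEN he⟩⁻¹, inv_mem he, by rw [map_inv, h1, tv_inv, e']⟩
  have w : D.Wy e := by
    obtain ⟨i, -, h2⟩ := D.tyS (hE he)
    have h3 := h.wy.mul (Hx.kca c) (h.memQ h1 h2)
    rwa [ZMod.val_one, pow_one, inv_mul_cancel_right] at h3
  have h3 : E ⊓ Q3 a ≤ D.BB := fun q hq =>
    D.memB hq.2 (k_cu0 D.ex (Hx.kca e) hq.2 (hab q hq.1 e he) D.kxQ D.kyQ (D.kay h1))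
      ((Commute.inv_right_iff (a := q)).1 (k_cu0 D.ex (Hx.kca e) hq.2 (hab q hq.1 e he) (inv_mem D.x2Q) D.y2Q
        (by rw [inv_inv]; exact w)))
  let π := D.ψ.comp (inclusion hEN)
  have h4 := Nat.le_of_dvd (by norm_num) (card_range_dvd (h.pgS.to_le hE) π s_nine)
  have h5 := π.ker.card_mul_index
  have h6 : Nat.card π.ker ≤ Nat.card (E ⊓ Q3 a : Subgroup G) := by
    rw [← card_map_of_injective E.subtype_injective]
    refine card_le_of_le ?_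
    rintro _ ⟨x, hx, rfl⟩
    exact mem_inf.2 ⟨x.2, hk (inclusion hEN x) x.2 hx⟩
  rw [index_ker, hc] at h5
  have h7 : E ⊓ Q3 a = D.BB := eq_of_le_of_card_ge h3 (by rw [cardB]; nlinarith)
  exact eq_of_le_of_card_ge (fun x hx b hb => hab b (h7.ge hb).1 x hx) (by rw [hc, h.card])

theorem hh : ∃ g ∈ normalizer (D.JJ : Set G), g * D.x1 * g⁻¹ ∉ Q3 a := by
  have m : ∀ x ∈ [a, D.x1, D.x2], x ∈ D.JJ := fun x hx => D.BJ (mem_clos hx)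
  obtain ⟨b, hb, hQ, g, e⟩ : ∃ b ∈ D.JJ, Q3 b = Q3 a ∧ ∃ g, g * b * g⁻¹ = D.x1 * D.x2 := by
    rcases D.cy with e | e
    · exact ⟨a, m _ (by simp), rfl, isConj_iff.1 e⟩
    · exact ⟨a⁻¹, inv_mem (m _ (by simp)), Q3_inv a, isConj_iff.1 e⟩
  obtain ⟨n, -, hn, e'⟩ := exists_norm_conj h.syl le_sup_right (fun g _ => h.wc g) (x := b) (mem_top g)
    (fun y hy => h.comm y hy _ hb)
    (fun y hy => by rw [e]; exact h.comm y hy _ (mul_mem (m _ (by simp)) (m _ (by simp))))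
  refine ⟨n, hn, fun hq => ?_⟩
  have h1 := D.memJ.1 (conj_mem_of_mem_norm hn (m D.x1 (by simp)))
  have h2 : n * D.x1 * n⁻¹ ∈ Q3 (D.x1 * D.x2) := by
    rw [← e, ← e', Q3_cj, conj_mem_cj, hQ]
    exact D.kxQ
  have h3 := D.zeV (D.ab _ h2 (D.memB hq h1.2.1 h1.2.2)) fun e => D.kxz (conj_eq_one.1 e ▸ one_mem _)
  exact D.kxz (D.nP _ (.inl D.kp1.hx) (by simpa [mul_assoc] using ze_cj h3 n⁻¹))

theorem c3 : (c : G) ^ 3 = 1 := by
  obtain ⟨g, hg, h1⟩ := h.hh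
  obtain ⟨b, hb, i, e⟩ := h.dec (conj_mem_of_mem_norm hg (D.BJ (mem_clos (x := D.x1) (by simp))))
  have h2 : (b * (c : G) ^ i.val) ^ 3 = 1 := by rw [← e, conj_pow, D.exp _ D.kxQ]; group
  rw [((show Commute b c from h.cJ b hb).pow_right _).mul_pow, D.exp _ (D.BQ hb), one_mul, ← pow_mul] at h2
  have h3 : ((c : G) ^ 3) ^ 3 = 1 := D.exp _ (D.kkerQ (g := c ^ 3) (by rw [map_pow, h.p1]; decide +kernel)
    D.p2.hx D.x2z (by
      rw [coe_pow, ((show Commute (c : G) D.x2 from h.x2).pow_left 3).eq]; simp))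
  have t : ∀ i : ZMod 3, i.val = 0 ∨ i.val = 1 ∨ i.val = 2 := by decide
  rcases t i with e' | e' | e' <;> rw [e'] at h2 e
  · exact absurd (by simpa [e] using D.BQ hb) h1
  · exact h2
  · rw [← pow_mul, show 3 * 3 = 2 * 3 + 3 from rfl, pow_add, h2, one_mul] at h3
    exact h3

end Pc

/-- The element `t`, when it is not trivial. -/
structure Tt (t : centralizer ({a} : Set G)) : Prop where
  p : D.ψ t = 1
  t2 : (t : G) * t = 1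
  tr : t * D.r = D.r * t
  tP : ∀ g ∈ D.P1, t * g = g * t
  tx : t * D.x2 * (t : G)⁻¹ = D.x2⁻¹
  ty : t * D.y2 * (t : G)⁻¹ = D.y2⁻¹

theorem exists_tt {g0 : centralizer ({a} : Set G)} (h0 : D.ψ g0 = 1) (hQ : (g0 : G) ∉ Q3 a) : ∃ t, D.Tt t := by
  obtain ⟨p, hp, e1⟩ := D.kadj g0
  have pQ := D.sp.le1 hp
  obtain ⟨g, hg⟩ : ∃ g : centralizer ({a} : Set G), g = ⟨p, D.kQN pQ⟩ * g0 := ⟨_, rfl⟩
  have g1 : D.ψ g = 1 := by rw [hg, map_mul, D.koneQ pQ, h0, one_mul]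
  have gQ : (g : G) ∉ Q3 a := fun h => hQ ((mul_mem_cancel_left pQ).1 (hg ▸ h :))
  have gr : g * D.r = D.r * g := by rw [hg]; exact e1
  have gP : ∀ y ∈ D.P1, g * y = y * g := fun y hy => by
    refine (mem_cen.1 ((clos_le.2 ?_ : clos [a, D.x1, D.y1] ≤ centralizer {(g : G)}) (D.fac.P_eq ▸ hy))).symm
    simp only [List.forall_mem_cons, List.not_mem_nil, false_imp_iff, implies_true, and_true, mem_cen]
    exact ⟨(Hx.kca g).symm, (D.kfix D.kp1.hx D.fac.tx gr (D.ktriv g1 D.kp1.hx)).symm,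
      (D.kfix D.kp1.hy D.fac.ty gr (D.ktriv g1 D.kp1.hy)).symm⟩
  have g2 := D.ksqQ g1
  have s1 : D.ψ (g ^ 3) = 1 := by rw [map_pow, g1, one_pow]
  have s2 : (g : G) ^ 3 * (g : G) ^ 3 = 1 := by
    rw [← D.exp _ g2, ← pow_two, ← pow_two, ← pow_mul, ← pow_mul]
  have iz : ∀ y ∈ D.P2, Iz a ((g : G) ^ 3) y := (D.ker _ s1).resolve_left fun h => gQ (by
    rw [coe_pow, pow_succ, pow_two] at h
    exact (mul_mem_cancel_left g2).1 h)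
  have sa : (g : G) ^ 3 * a = a * (g : G) ^ 3 := Hx.kca (g ^ 3)
  have sr : Commute ((g : G) ^ 3) D.r := (show Commute (g : G) D.r from gr).pow_left 3
  have sP : ∀ y ∈ D.P1, Commute ((g : G) ^ 3) y := fun y hy => (show Commute (g : G) y from gP y hy).pow_left 3
  have key : ∀ y ∈ D.P2, ∃ z ∈ zpowers a, (g : G) ^ 3 * (z * y) * ((g : G) ^ 3)⁻¹ = (z * y)⁻¹ := fun y hy => by
    refine ⟨_, iz y hy, ?_⟩
    obtain ⟨z, hz, e⟩ : ∃ z ∈ zpowers a, (g : G) ^ 3 * y * ((g : G) ^ 3)⁻¹ * y = z := ⟨_, iz y hy, rfl⟩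
    rw [e]
    have z3 := D.kes.pow_eq_one_of_mem_zpowers hz
    have zy := (show Commute y z from zc (D.ex.comm_a (D.sp.le2 hy)) hz).inv_left.inv_right.eq
    calc _ = (g : G) ^ 3 * z * ((g : G) ^ 3)⁻¹ * ((g : G) ^ 3 * y * ((g : G) ^ 3)⁻¹ * y) * y⁻¹ := by group
      _ = z ^ 3 * (z⁻¹ * y⁻¹) := by rw [e, conj_z sa hz, pow_three]; group
      _ = _ := by rw [z3, one_mul, ← zy, mul_inv_rev]
  obtain ⟨z, hz, ez⟩ := key _ D.p2.hx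
  obtain ⟨z', hz', ez'⟩ := key _ D.p2.hy
  obtain ⟨n, hn⟩ := zc_pow D.ex.ord D.y2a (inv_mem (mem_zpowers a)) (inv_ne_one.2 D.kes.z_ne_one) D.yx2 hz
  obtain ⟨m, hm⟩ := zc_pow D.ex.ord D.x2a (mem_zpowers a) D.kes.z_ne_one D.xy2 hz'
  obtain ⟨k, hk⟩ : ∃ k, k = D.y2 ^ n * D.x2 ^ m := ⟨_, rfl⟩
  have kP : k ∈ D.P2 := hk ▸ mul_mem (pow_mem D.p2.hy n) (pow_mem D.p2.hx m)
  have kQ := D.sp.le2 kP
  have kx : k * D.x2 * k⁻¹ = z * D.x2 := by rw [← hn, hk]; group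
  have ky : k * D.y2 * k⁻¹ = z' * D.y2 := by
    calc _ = D.y2 ^ n * (D.x2 ^ m * D.y2 * (D.x2 ^ m)⁻¹) * (D.y2 ^ n)⁻¹ := by rw [hk]; group
      _ = D.y2 ^ n * z' * (D.y2 ^ n)⁻¹ * D.y2 := by rw [hm]; group
      _ = _ := by rw [conj_z ((show Commute D.y2 a from D.y2a).pow_left n).eq hz']
  have inv : ∀ y w : G, k * y * k⁻¹ = w → (g : G) ^ 3 * w * ((g : G) ^ 3)⁻¹ = w⁻¹ →
      k⁻¹ * (g : G) ^ 3 * k * y * (k⁻¹ * (g : G) ^ 3 * k)⁻¹ = y⁻¹ := fun y w e e' => by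
    calc _ = k⁻¹ * ((g : G) ^ 3 * (k * y * k⁻¹) * ((g : G) ^ 3)⁻¹) * k := by group
      _ = _ := by rw [e, e', ← e]; group
  have kr : Commute k D.r := (D.ktP2 kP).symm
  refine ⟨⟨k, D.kQN kQ⟩⁻¹ * g ^ 3 * ⟨k, D.kQN kQ⟩, ?_, ?_, ?_, fun y hy => ?_, ?_, ?_⟩
  rotate_right 2
  · exact inv _ _ kx ez
  · exact inv _ _ ky ez'
  · rw [map_mul, map_mul, map_inv, s1]; simp
  rotate_left
  · exact (kr.inv_left.mul_left sr).mul_left kr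
  rotate_left
  · calc k⁻¹ * (g : G) ^ 3 * k * (k⁻¹ * (g : G) ^ 3 * k) = k⁻¹ * ((g : G) ^ 3 * (g : G) ^ 3) * k := by group
      _ = 1 := by rw [s2]; group
  · have ky' : Commute k y := (D.sp.comm hy kP).symm
    exact (ky'.inv_left.mul_left (sP y hy)).mul_left ky'

theorem Tt.tR {D : Lb a} {t : centralizer ({a} : Set G)} (h : D.Tt t) {k : G} (hk : k ∈ D.R) : t * k = k * t := by
  let k' : centralizer ({a} : Set G) := ⟨k, D.fac.R_le hk⟩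
  have hc : ∀ p ∈ D.P2, t * k * (t : G)⁻¹ * k⁻¹ * p = p * (t * k * (t : G)⁻¹ * k⁻¹) := fun p hp => D.kcomm2 t hk hp
  have wQ : t * k * (t : G)⁻¹ * k⁻¹ ∈ Q3 a :=
    D.kcenQ (g := t * k' * t⁻¹ * k'⁻¹) (by simp only [map_mul, map_inv, h.p]; group) hc
  have c1 : Commute (t : G) D.r := h.tr
  have c2 : Commute k D.r := D.krt hk
  have hz := D.kfixz ((D.sp.m1 _).2 ⟨wQ, hc⟩) (((c1.mul_left c2).mul_left c1.inv_left).mul_left c2.inv_left).symm.eq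
  have k4 : k ^ 4 = 1 := (D.kr4 (r := k') hk).2
  have h4 := (show Commute (t * k * (t : G)⁻¹ * k⁻¹) k from (zc (Hx.kca k') hz).symm).mul_pow 4
  rw [inv_mul_cancel_right, conj_pow, k4, mul_one, mul_one, mul_inv_cancel, pow_succ,
    D.kes.pow_eq_one_of_mem_zpowers hz, one_mul] at h4
  exact mul_inv_eq_iff_eq_mul.1 (mul_inv_eq_one.1 h4.symm)

theorem Tt.tc {D : Lb a} {t c : centralizer ({a} : Set G)} (h : D.Tt t) (hc : D.Pc c) : (t : G) * c = c * t := by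
  obtain ⟨b, hb⟩ : ∃ b : G, b = (c : G)⁻¹ * (t * c * (t : G)⁻¹) := ⟨_, rfl⟩
  have e0 : t * c * (t : G)⁻¹ = c * b := by rw [hb]; group
  have cx : Commute (c : G) D.x2 := hc.x2
  have ti : (t : G)⁻¹ = t := inv_eq_of_mul_eq_one_left h.t2
  have bx : Commute b D.x2 := by
    have e : (t : G) * c * (t : G)⁻¹ * D.x2⁻¹ = D.x2⁻¹ * (t * c * (t : G)⁻¹) := by
      rw [← h.tx]; exact comm_cj.2 hc.x2
    exact hb ▸ cx.inv_left.mul_left ((Commute.inv_right_iff (b := D.x2)).1 e)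
  have bQ : b ∈ Q3 a := hb ▸ D.kkerQ (g := c⁻¹ * (t * c * t⁻¹)) (by simp only [map_mul, map_inv, h.p]; group)
    D.p2.hx D.x2z (by
      change (c : G)⁻¹ * (t * c * (t : G)⁻¹) * D.x2 * ((c : G)⁻¹ * (t * c * (t : G)⁻¹))⁻¹ * D.x2⁻¹ ∈ _
      rw [← hb, bx.eq]; simp)
  have c1 : Commute (t : G) D.r := h.tr
  have c2 : Commute (c : G) D.r := hc.cr
  have bP : b ∈ D.P2 := D.kmem2 bQ (hb ▸ c2.inv_left.mul_left ((c1.mul_left c2).mul_left c1.inv_left))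
  have ba : Commute b a := D.ex.comm_a bQ
  have xa : Commute D.x2 a := D.x2a
  have ya : Commute D.y2 a := D.y2a
  have e1 : D.y2⁻¹ * (c * b) * D.y2 = c * b * D.x2⁻¹ * a := by
    calc _ = (t * D.y2 * (t : G)⁻¹) * (t * c * (t : G)⁻¹) * (t * D.y2 * (t : G)⁻¹)⁻¹ := by rw [h.ty, e0, inv_inv]
      _ = t * (D.y2 * c * D.y2⁻¹) * (t : G)⁻¹ := by group
      _ = (t * c * (t : G)⁻¹) * (t * D.x2 * (t : G)⁻¹) * (t * a * (t : G)⁻¹) := by rw [hc.yc]; group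
      _ = _ := by rw [e0, h.tx, Hx.kca t, mul_inv_cancel_right]
  have e2 : D.y2 * (c * D.x2⁻¹ * a) * D.y2⁻¹ = c := by
    calc _ = (D.y2 * c * D.y2⁻¹) * (D.y2 * D.x2 * D.y2⁻¹)⁻¹ * (D.y2 * a * D.y2⁻¹) := by group
      _ = c * (D.x2 * a * D.x2⁻¹) * a * a := by rw [hc.yc, D.yx2, ya.eq]; group
      _ = c * a ^ 3 := by rw [xa.eq, pow_three]; group
      _ = c := by rw [D.kes.z_pow, mul_one]
  have by2 : b * D.y2 = D.y2 * b := by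
    have e3 : c * b * D.x2⁻¹ * a = c * D.x2⁻¹ * a * b := by
      rw [mul_assoc (c : G), bx.inv_right.eq, mul_assoc (c : G), mul_assoc D.x2⁻¹, ba.eq]; group
    calc _ = (c : G)⁻¹ * D.y2 * (D.y2⁻¹ * (c * b) * D.y2) := by group
      _ = (c : G)⁻¹ * (D.y2 * (c * D.x2⁻¹ * a) * D.y2⁻¹) * D.y2 * b := by rw [e1, e3]; group
      _ = _ := by rw [e2]; group
  have bz := D.p2.mem_z bP bx.eq by2
  have b1 : b = 1 := eq_one_of_sq D.kes bz (inv_eq_of_mul_eq_one_left (by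
    calc b * b = (c : G)⁻¹ * ((t * c * (t : G)⁻¹) * (t * b * (t : G)⁻¹)) := by rw [e0, conj_z (Hx.kca t) bz]; group
      _ = (c : G)⁻¹ * (t * (c * b) * (t : G)⁻¹) := by group
      _ = (c : G)⁻¹ * ((t * t : G) * c * ((t : G) * t)⁻¹) := by rw [← e0]; group
      _ = 1 := by rw [h.t2]; group))
  rw [b1, mul_one] at e0
  exact mul_inv_eq_iff_eq_mul.1 e0

theorem Pc.dec0 {D : Lb a} {c : centralizer ({a} : Set G)} (h : D.Pc c) {g : G} (hg : g * a = a * g) :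
    ∃ k ∈ D.R, ∃ i : ZMod 3, ∃ w : centralizer ({a} : Set G), D.ψ w = 1 ∧ g = k * (c : G) ^ i.val * w := by
  obtain ⟨m, hm, i, e⟩ := s_dec (D.ψ ⟨g, mem_cen.2 hg⟩)
  obtain ⟨k, hk, rfl⟩ := D.ksurj hm
  refine ⟨k, hk, i, (k * c ^ i.val)⁻¹ * ⟨g, mem_cen.2 hg⟩, ?_, by push_cast; group⟩
  rw [map_mul, map_inv, map_mul, map_pow, h.p1, e, inv_mul_cancel]

theorem Tt.ker {D : Lb a} {t w : centralizer ({a} : Set G)} (h : D.Tt t) (hw : D.ψ w = 1) :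
    (w : G) ∈ Q3 a ∨ (w : G) * t ∈ Q3 a := by
  refine (D.ker w hw).imp_right fun h1 => D.kkerQ (g := w * t) (by rw [map_mul, hw, h.p, one_mul]) D.p2.hx D.x2z ?_
  have h2 := h1 _ D.p2.hx
  rw [Iz] at h2
  have e : ((w * t : centralizer ({a} : Set G)) : G) * D.x2 * ((w * t : centralizer ({a} : Set G)) : G)⁻¹ * D.x2⁻¹ =
      D.x2 * ((w : G) * D.x2 * (w : G)⁻¹ * D.x2)⁻¹ * D.x2⁻¹ := by
    calc _ = w * (t * D.x2 * (t : G)⁻¹) * (w : G)⁻¹ * D.x2⁻¹ := by push_cast; group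
      _ = _ := by rw [h.tx]; group
  rw [e, conj_z D.x2a (inv_mem h2)]
  exact inv_mem h2

end Lb

theorem Lb.lc {a : G} (D : Lb a) : Nonempty (Lc a) := by
  obtain ⟨c, h⟩ := D.exists_pc
  have key : ∃ t : G, t * a = a * t ∧ t * c = c * t ∧ (∀ g ∈ D.P1 ⊔ D.R, t * g = g * t) ∧
      (t = 1 ∨ (t * t = 1 ∧ t * D.x2 * t⁻¹ = D.x2⁻¹ ∧ t * D.y2 * t⁻¹ = D.y2⁻¹)) ∧
      ∀ w : centralizer ({a} : Set G), D.ψ w = 1 → ∃ p ∈ Q3 a, (w : G) = p ∨ (w : G) = p * t := by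
    by_cases h0 : ∀ w : centralizer ({a} : Set G), D.ψ w = 1 → (w : G) ∈ Q3 a
    · exact ⟨1, by simp, by simp, by simp, .inl rfl, fun w hw => ⟨w, h0 w hw, .inl rfl⟩⟩
    · push Not at h0
      obtain ⟨g, g1, gQ⟩ := h0
      obtain ⟨t, ht⟩ := D.exists_tt g1 gQ
      refine ⟨t, Hx.kca t, ht.tc h, fun g hg => (mem_cen.1 ((sup_le (fun y hy => mem_cen.2 (ht.tP y hy).symm)
        (fun y hy => mem_cen.2 (ht.tR hy).symm) : D.P1 ⊔ D.R ≤ centralizer {(t : G)}) hg)).symm,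
        .inr ⟨ht.t2, ht.tx, ht.ty⟩, fun w hw => ?_⟩
      rcases ht.ker hw with h1 | h1
      · exact ⟨w, h1, .inl rfl⟩
      · exact ⟨_, h1, .inr (by rw [mul_assoc, ht.t2, mul_one])⟩
  obtain ⟨t, ta, tc, tP, ht, hk⟩ := key
  refine ⟨⟨D.toHx, D.x2, D.y2, c, t, D.p2, h.p1, h.c3, h.cr, h.x1, h.x2, h.yc, ta, tc, tP, ht, fun g hg => ?_, D.cy, D.nP,
    h.J_eq, h.J_eq ▸ h.card, h.J_eq ▸ h.syl, h.J_eq ▸ h.wc, h.J_eq ▸ h.hh⟩⟩
  obtain ⟨k, kR, i, w, hw, e⟩ := h.dec0 hg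
  obtain ⟨p, hp, e' | e'⟩ := hk w hw
  · exact ⟨k, kR, i, p, hp, .inl (by rw [e, e'])⟩
  · exact ⟨k, kR, i, p, hp, .inr (by rw [e, e', mul_assoc (_ * _) p])⟩

end Cfsg.Agent.Tr8
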