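import Mathlib
import Cfsg.Agent.Tr8.Defs
import Cfsg.Agent.F4T.LocC

/-! A reflection outside `N(⟨a⟩)`. -/

set_option autoImplicit false
set_option linter.unusedSectionVars false
set_option maxRecDepth 100000

namespace Cfsg.Agent.Tr8

open Cfsg.Agent.Spor Cfsg.Agent.Rec Cfsg.Agent.Inv.Fz Cfsg.Agent.T16 Cfsg.Agent.T3 Cfsg.Agent.T3.LB Subgroup

universe u

variable {G : Type u} [Group G] [Finite G]

namespace C1

open Cfsg.Agent.F4L

theorem rep_spec : ∀ v : Cv, ∃ i k : Fin 3, ∃ e : Fin 2,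
    v = cY1^[i] (cY2^[k] (cT1^[e] (cRep v))) ∨ -v = cY1^[i] (cY2^[k] (cT1^[e] (cRep v))) := by decide +kernel

/-- The map sends the first basis vector to the third and `v` to the fourth, up to signs. -/
def Fine (f : Cv → Cv) (v : Cv) : Prop :=
  (f (1, 0, 0, 0) = (0, 0, 1, 0) ∨ f (1, 0, 0, 0) = -(0, 0, 1, 0)) ∧ (f v = (0, 0, 0, 1) ∨ f v = -(0, 0, 0, 1))

instance (f : Cv → Cv) (v : Cv) : Decidable (Fine f v) := by unfold Fine; infer_instance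

theorem fine_key : ∀ (b1 b2 : Bool), (∀ w, cZ b1 b2 (cRep (cR 1 0 0 w)) = cZ b1 b2 (cRep w)) →
    ∀ v : Cv, cR 1 0 0 v = v → cZ b1 b2 (cRep v) = true →
      Fine (cR 1 0 0 ∘ cY2 ∘ cY1 ∘ cR 1 0 0 ∘ cT1 ∘ cY2) v ∨ Fine (cR 1 0 0 ∘ cY2 ∘ cY1 ∘ cR 1 0 0 ∘ cY2) v ∨
        Fine (cR 1 0 0 ∘ cY2 ∘ cR 1 0 0 ∘ cY2) v ∨ Fine (cY2 ∘ cR 1 0 0 ∘ cY2) v := by
  decide +kernel

variable {a : G} (D : Lc a)

include D in
theorem es : GT.PG.ESZ 3 (Q3 a) a := D.ex.esz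

theorem p1 : P27 D.P1 a D.x1 D.y1 :=
  ⟨D.sp.es1, D.fac.card, D.fac.P_eq ▸ mem_clos (by simp), D.fac.P_eq ▸ mem_clos (by simp), D.fac.xy⟩

theorem ca (g : centralizer ({a} : Set G)) : (g : G) * a = a * g := mem_cen.1 g.2
theorem xQ : D.x1 ∈ Q3 a := D.sp.le1 (p1 D).hx
theorem yQ : D.y1 ∈ Q3 a := D.sp.le1 (p1 D).hy
theorem x2Q : D.x2 ∈ Q3 a := D.sp.le2 D.p2.hx
theorem y2Q : D.y2 ∈ Q3 a := D.sp.le2 D.p2.hy
theorem c12 : ∀ p ∈ D.P1, ∀ q ∈ D.P2, p * q = q * p := fun p hp => ((D.sp.m1 p).1 hp).2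
theorem ra : D.r * a = a * D.r := ca ⟨D.r, D.fac.R_le D.fac.t_mem⟩

omit D in
theorem nz {P : Subgroup G} {x y : G} (h : P27 P a x y) : x ∉ zpowers a := fun k => h.es.z_ne_one (by
  rw [← h.xy]; exact commutatorElement_eq_one_iff_mul_comm.2 (h.es.commute_of_mem_zpowers h.hy k).symm.eq)

theorem col {g : centralizer ({a} : Set G)} {i j k l : ZMod 3}
    (h : g * D.x1 * (g : G)⁻¹ * (D.x1 ^ i.val * D.y1 ^ j.val)⁻¹ ∈ zpowers a)
    (h' : g * D.y1 * (g : G)⁻¹ * (D.x1 ^ k.val * D.y1 ^ l.val)⁻¹ ∈ zpowers a) :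
    D.ψ g 0 0 = i ∧ D.ψ g 1 0 = j ∧ D.ψ g 0 1 = k := by
  obtain ⟨-, e1, e2⟩ := om_co (p1 D) (D.fac.act g).1
  obtain ⟨-, e3, e4⟩ := om_co (p1 D) h
  exact ⟨e1.symm.trans e3, e2.symm.trans e4, (om_co (p1 D) (D.fac.act g).2).2.1.symm.trans (om_co (p1 D) h').2.1⟩

theorem oneQ {g : centralizer ({a} : Set G)} (h : (g : G) ∈ Q3 a) : D.ψ g = 1 := by
  have := col D (g := g) (i := 1) (j := 0) (k := 0) (l := 1)
    (by simpa [ZMod.val_one] using D.ex.comm _ h _ (xQ D)) (by simpa [ZMod.val_one] using D.ex.comm _ h _ (yQ D))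
  exact s_ext _ this.1 this.2.1 this.2.2

theorem neg1 : D.ψ ⟨D.r, D.fac.R_le D.fac.t_mem⟩ = -1 := by
  have e : ∀ w : G, w ^ 3 = 1 → w ^ (-1 : ZMod 3).val = w⁻¹ := fun w h => by rw [pow_val_neg h, ZMod.val_one, pow_one]
  have := col D (g := ⟨D.r, D.fac.R_le D.fac.t_mem⟩) (i := -1) (j := 0) (k := 0) (l := -1)
    (by rw [e _ (D.exp _ (xQ D)), D.fac.tx]; simp) (by rw [e _ (D.exp _ (yQ D)), D.fac.ty]; simp)
  exact s_neg _ this.1 this.2.1 this.2.2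

theorem exists_sq : ∃ k ∈ D.R, k * k = D.r := by
  have r4 : ∀ r : D.R, D.ψ ⟨r, D.fac.R_le r.2⟩ ^ 4 = 1 := fun r => s_eight _ (by
    have h8 : (r : G) ^ 8 = 1 := congrArg Subtype.val (D.fac.cardR ▸ pow_card_eq_one' (x := r))
    rw [← map_pow, show (⟨r, D.fac.R_le r.2⟩ : centralizer ({a} : Set G)) ^ 8 = 1 from Subtype.ext h8, map_one])
  have eq : ∀ r s : centralizer ({a} : Set G), (r : G) ∈ D.R → (s : G) ∈ D.R → D.ψ r = D.ψ s → (r : G) = s :=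
    fun r s hr hs h => congrArg Subtype.val (mul_inv_eq_one.1 (D.fac.inj (r * s⁻¹) (mul_mem hr (inv_mem hs))
      (by rw [map_mul, map_inv, h, mul_inv_cancel])))
  let f : D.R → {m : S3 // m ^ 4 = 1} := fun r => ⟨_, r4 r⟩
  have bij := (Nat.bijective_iff_injective_and_card f).2
    ⟨fun r s e => Subtype.ext (eq ⟨r, D.fac.R_le r.2⟩ ⟨s, D.fac.R_le s.2⟩ r.2 s.2 (congrArg Subtype.val e)), by
      rw [D.fac.cardR, Nat.card_eq_fintype_card, Fintype.card_subtype, s_card]⟩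
  obtain ⟨k, hk⟩ := bij.2 ⟨ww, ww_rel.1⟩
  have hk' : D.ψ ⟨k, D.fac.R_le k.2⟩ = ww := congrArg Subtype.val hk
  exact ⟨k, k.2, eq (⟨k, D.fac.R_le k.2⟩ * ⟨k, D.fac.R_le k.2⟩) ⟨D.r, D.fac.R_le D.fac.t_mem⟩ (mul_mem k.2 k.2)
    D.fac.t_mem (by rw [map_mul, hk', ww_rel.2.1, neg1])⟩

theorem vc : D.y1 * D.c * D.y1⁻¹ = D.c * D.x1⁻¹ * a⁻¹ := by
  have h1 : D.c * D.y1 * (D.c : G)⁻¹ * (D.x1 * D.y1)⁻¹ ∈ zpowers a := by
    simpa [D.pc, tv, ZMod.val_one] using (D.fac.act D.c).2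
  have e : D.c * D.y1 * (D.c : G)⁻¹ = a * D.x1 * D.y1 := by
    refine eq_of_inv D.ex (ra D) (D.ex.comm_a (mul_mem (mul_mem D.ex.mem (xQ D)) (yQ D))) ?_ ?_ ?_
    · calc _ = D.r * a * D.r⁻¹ * (D.r * D.x1 * D.r⁻¹) * (D.r * D.y1 * D.r⁻¹) := by group
        _ = a * (D.y1⁻¹ * D.x1⁻¹) * (D.x1 * D.y1 * D.x1⁻¹ * D.y1⁻¹) := by rw [D.fac.tx, D.fac.ty, ra D]; group
        _ = D.y1⁻¹ * D.x1⁻¹ * a ^ 3 * a⁻¹ := by
          rw [D.fac.xy, ← D.ex.comm_a (mul_mem (inv_mem (yQ D)) (inv_mem (xQ D))), pow_three]; group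
        _ = _ := by rw [(es D).z_pow]; group
    · calc _ = D.r * D.c * D.y1 * (D.r * D.c)⁻¹ := by group
        _ = D.c * (D.r * D.y1 * D.r⁻¹) * (D.c : G)⁻¹ := by rw [← D.cr]; group
        _ = _ := by rw [D.fac.ty]; group
    · convert mul_mem h1 (inv_mem (mem_zpowers a)) using 1; group
  calc _ = (a * D.x1)⁻¹ * (a * D.x1 * D.y1) * D.c * D.y1⁻¹ := by group
    _ = (a * D.x1)⁻¹ * D.c := by rw [← e]; group
    _ = _ := by
      rw [← ((show Commute (D.c : G) a from ca D.c).mul_right (show Commute (D.c : G) D.x1 from D.cx1)).inv_right.eq]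
      group

omit D in
theorem vx {P : Subgroup G} {x y : G} (h : P27 P a x y) : y * x * y⁻¹ = x * a⁻¹ := by
  have xa : Commute x a := h.es.commute_z h.hx
  calc _ = x * (x⁻¹ * (x * y * x⁻¹ * y⁻¹)⁻¹ * x) := by group
    _ = _ := by rw [show x * y * x⁻¹ * y⁻¹ = a from h.xy, mul_assoc, ← xa.inv_right.eq]; group

theorem bs : Bs4 (D.c : G) D.x1 D.x2 a :=
  ⟨D.cx1, D.cx2, ca D.c, c12 D _ (p1 D).hx _ D.p2.hx, D.ex.comm_a (xQ D), D.ex.comm_a (x2Q D), D.c3, D.exp _ (xQ D),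
    D.exp _ (x2Q D), (es D).z_pow, D.card⟩

theorem aY1 : Acts (D.c : G) D.x1 D.x2 a D.y1 cY1 := by
  have b := bs D
  refine b.acts ?_ ?_ (.trans ?_ jv_3.symm) (.trans ?_ jv_4.symm)
  · rw [vc]
    simp only [jv, pow_val_neg b.x3, pow_val_neg b.a3, ZMod.val_one, ZMod.val_zero, pow_one, pow_zero, mul_one]
  · rw [vx (p1 D)]
    simp only [jv, pow_val_neg b.a3, ZMod.val_one, ZMod.val_zero, pow_one, pow_zero, mul_one, one_mul]
  · rw [c12 D _ (p1 D).hy _ D.p2.hx]; group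
  · rw [D.ex.comm_a (yQ D)]; group

theorem aY2 : Acts (D.c : G) D.x1 D.x2 a D.y2 cY2 := by
  have b := bs D
  refine b.acts ?_ (.trans ?_ jv_2.symm) ?_ (.trans ?_ jv_4.symm)
  · rw [D.yc]
    simp only [jv, ZMod.val_one, ZMod.val_zero, pow_one, pow_zero, mul_one]
  · rw [← c12 D _ (p1 D).hx _ D.p2.hy]; group
  · rw [vx D.p2]
    simp only [jv, pow_val_neg b.a3, ZMod.val_one, ZMod.val_zero, pow_one, pow_zero, mul_one, one_mul]
  · rw [D.ex.comm_a (y2Q D)]; group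

theorem aT1 : Acts (D.c : G) D.x1 D.x2 a D.r cT1 := by
  have b := bs D
  refine b.acts (.trans ?_ jv_1.symm) ?_ (.trans ?_ jv_3.symm) (.trans ?_ jv_4.symm)
  · rw [← D.cr]; group
  · rw [D.fac.tx]
    simp only [jv, pow_val_neg b.x3, ZMod.val_one, ZMod.val_zero, pow_one, pow_zero, mul_one, one_mul]
  · rw [D.comm _ D.fac.t_mem _ D.p2.hx]; group
  · rw [ra D]; group

theorem ze_rep (v : Cv) : ZE a (jv (D.c : G) D.x1 D.x2 a v) ↔ ZE a (jv (D.c : G) D.x1 D.x2 a (cRep v)) := by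
  obtain ⟨i, k, e, hv⟩ := rep_spec v
  have k := (((aY1 D).pow i).mul (((aY2 D).pow k).mul ((aT1 D).pow e))).ze (b := a) (cRep v)
  simp only [Function.comp_apply] at k
  rcases hv with hv | hv <;> rw [← hv] at k
  · exact k
  · rw [← k, (bs D).neg]
    exact ⟨LB.ze_inv, fun e => by simpa using LB.ze_inv e⟩

open Classical in
theorem ze_iff (h0 : ¬ ZE a D.c) (v : Cv) : ZE a (jv (D.c : G) D.x1 D.x2 a v) ↔
    cZ (decide (ZE a (jv (D.c : G) D.x1 D.x2 a (1, 0, 0, 1)))) (decide (ZE a (jv (D.c : G) D.x1 D.x2 a (1, 0, 0, 2))))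
      (cRep v) = true := by
  obtain ⟨z0, z1, z2, z3, z4, z5, z6, z7⟩ := cZ_vals (decide (ZE a (jv (D.c : G) D.x1 D.x2 a (1, 0, 0, 1))))
    (decide (ZE a (jv (D.c : G) D.x1 D.x2 a (1, 0, 0, 2))))
  rw [ze_rep]
  rcases cRep_cases v with e | e | e | e | e | e | e | e <;> rw [e]
  · rw [z0, jv_zero]
    refine iff_of_false (fun e => (es D).z_ne_one ?_) (by simp)
    rcases e with e | e <;> rw [isConj_one_left] at e
    exacts [e, inv_eq_one.1 e]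
  · rw [z1, jv_4]; exact iff_of_true (ze_refl a) rfl
  · rw [z2, jv_3]; exact iff_of_false (fun e => nz D.p2 (D.nP _ (Or.inr D.p2.hx) e)) (by simp)
  · rw [z3, jv_2]; exact iff_of_false (fun e => nz (p1 D) (D.nP _ (Or.inl (p1 D).hx) e)) (by simp)
  · rw [z4]; exact iff_of_true (by simpa [jv, ZMod.val_one] using D.cy) rfl
  · rw [z5, jv_1]; exact iff_of_false h0 (by simp)
  · rw [z6, decide_eq_true_iff]
  · rw [z7, decide_eq_true_iff]

theorem clos_shift {z : G} (hz : z ∈ zpowers a) :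
    clos [D.c * z, D.x1, D.x2, a] = clos [(D.c : G), D.x1, D.x2, a] := by
  have k : ∀ c : G, z ∈ clos [c, D.x1, D.x2, a] := fun c => zpowers_le.2 (mem_clos (by simp)) hz
  refine le_antisymm (clos_le.2 ?_) (clos_le.2 ?_) <;>
    simp only [List.forall_mem_cons, List.not_mem_nil, false_imp_iff, implies_true, and_true] <;>
    refine ⟨?_, mem_clos (by simp), mem_clos (by simp), mem_clos (by simp)⟩
  · exact mul_mem (mem_clos (by simp)) (k _)
  · exact (mul_mem_cancel_right (k _)).1 (mem_clos (by simp))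

/-- The element `c` may be multiplied by a power of `a`. -/
def shift {z : G} (hz : z ∈ zpowers a) : Lc a :=
  { D with
    c := D.c * ⟨z, mem_cen.2 (zc rfl hz).symm⟩
    pc := by rw [map_mul, D.pc, oneQ D ((es D).zpowers_le hz), mul_one]
    c3 := by
      rw [coe_mul, (show Commute (D.c : G) z from zc (ca D.c) hz).mul_pow, D.c3, (es D).pow_eq_one_of_mem_zpowers hz,
        one_mul]
    cr := ((show Commute (D.c : G) D.r from D.cr).mul_left (zc (ra D) hz).symm).eq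
    cx1 := ((show Commute (D.c : G) D.x1 from D.cx1).mul_left (zc (D.ex.comm_a (xQ D)) hz).symm).eq
    cx2 := ((show Commute (D.c : G) D.x2 from D.cx2).mul_left (zc (D.ex.comm_a (x2Q D)) hz).symm).eq
    yc := by
      change D.y2 * (D.c * z) * D.y2⁻¹ = D.c * z * D.x2 * a
      calc _ = D.y2 * D.c * D.y2⁻¹ * (D.y2 * z * D.y2⁻¹) := by group
        _ = D.c * (D.x2 * a * z) := by rw [D.yc, conj_z (D.ex.comm_a (y2Q D)) hz]; group
        _ = _ := by rw [zc (D.ex.comm_a (mul_mem (x2Q D) D.ex.mem)) hz]; group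
    tc := ((show Commute D.t D.c from D.tc).mul_right (zc D.ta hz)).eq
    dec := fun g hg => by
      obtain ⟨k, hk, i, p, hp, e⟩ := D.dec g hg
      refine ⟨k, hk, i, (z ^ i.val)⁻¹ * p, mul_mem (inv_mem (pow_mem ((es D).zpowers_le hz) _)) hp, ?_⟩
      rw [coe_mul, (show Commute (D.c : G) z from zc (ca D.c) hz).mul_pow]
      simpa only [mul_assoc, mul_inv_cancel_left] using e
    J_eq := by rw [coe_mul, clos_shift D hz]; exact D.J_eq
    card := by rw [coe_mul, clos_shift D hz]; exact D.card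
    syl := by rw [coe_mul, clos_shift D hz]; exact D.syl
    wc := by rw [coe_mul, clos_shift D hz]; exact D.wc
    hh := by rw [coe_mul, clos_shift D hz]; exact D.hh }

include D in
theorem exists_p : ∃ (D' : Lc a) (p : G), ¬ ZE a D'.c ∧ p ∈ normalizer (clos [(D'.c : G), D'.x1, D'.x2, a] : Set G) ∧
    (p * D'.x1 * p⁻¹ = D'.c ∨ p * D'.x1 * p⁻¹ = (D'.c : G)⁻¹) := by
  obtain ⟨g, gn, g1⟩ := D.hh
  have b := bs D
  obtain ⟨v, hv⟩ := b.surj (conj_mem_of_mem_norm gn (jv_2 (c := (D.c : G)) ▸ jv_mem (0, 1, 0, 0)))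
  have v0 : v.1 ≠ 0 := fun e => g1 (by
    rw [hv, jv, e, ZMod.val_zero, pow_zero, one_mul]
    exact mul_mem (mul_mem (pow_mem (xQ D) _) (pow_mem (x2Q D) _)) (pow_mem D.ex.mem _))
  obtain ⟨i, k, l, hl⟩ := cRep_one v v0
  have ac := ((aY1 D).pow i).mul ((aY2 D).pow k)
  obtain ⟨p, hp⟩ : ∃ p, p = D.y1 ^ (i : ℕ) * D.y2 ^ (k : ℕ) * g := ⟨_, rfl⟩
  have pn : p ∈ normalizer (clos [(D.c : G), D.x1, D.x2, a] : Set G) := hp ▸ mul_mem (b.norm ac) gn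
  have hz : a ^ l.val ∈ zpowers a := pow_mem (mem_zpowers a) _
  have e1 : jv (D.c : G) D.x1 D.x2 a (1, 0, 0, l) = D.c * a ^ l.val := by simp [jv, ZMod.val_one]
  have e2 : p * D.x1 * p⁻¹ = D.c * a ^ l.val ∨ p * D.x1 * p⁻¹ = (D.c * a ^ l.val)⁻¹ := by
    have : p * D.x1 * p⁻¹ = jv (D.c : G) D.x1 D.x2 a (cY1^[i] (cY2^[k] v)) := by
      rw [← Function.comp_apply (f := cY1^[i]), ← ac v, ← hv, hp]; group
    rw [this, ← e1, ← b.neg]
    exact hl.imp (congrArg _) (congrArg _)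
  refine ⟨shift D hz, p, fun e => nz (p1 D) (D.nP _ (Or.inl (p1 D).hx) ?_), (clos_shift D hz).symm ▸ pn, e2⟩
  have : ZE a (p * D.x1 * p⁻¹) := by
    rcases e2 with e2 | e2 <;> rw [e2]
    exacts [e, LB.ze_inv e]
  simpa [mul_assoc] using LB.ze_cj this p⁻¹

/-- The square of an element of `C(a)` does not invert `x₂`. -/
theorem sq_ne {m : G} (hm : m * a = a * m) : m * m * D.x2 * (m * m)⁻¹ ≠ D.x2⁻¹ := fun e => by
  have xa := D.ex.comm_a (x2Q D)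
  have k : ∃ z ∈ zpowers a, m * D.x2 * m⁻¹ = z * D.x2 ∨ m * D.x2 * m⁻¹ = (z * D.x2)⁻¹ := by
    obtain ⟨k, hk, i, p, hp, h⟩ := D.dec m hm
    have c1 : Commute (k * (D.c : G) ^ i.val) D.x2 :=
      (show Commute k D.x2 from D.comm k hk _ D.p2.hx).mul_left ((show Commute (D.c : G) D.x2 from D.cx2).pow_left _)
    have c2 : Commute (k * (D.c : G) ^ i.val) a :=
      (show Commute k a from ca ⟨k, D.fac.R_le hk⟩).mul_left ((show Commute (D.c : G) a from ca D.c).pow_left _)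
    have hz := D.ex.comm p hp _ (x2Q D)
    have e1 : k * (D.c : G) ^ i.val * p * D.x2 * (k * (D.c : G) ^ i.val * p)⁻¹ = p * D.x2 * p⁻¹ * D.x2⁻¹ * D.x2 := by
      have := ((show Commute (k * (D.c : G) ^ i.val) _ from zc c2 hz).mul_right c1).eq
      generalize k * (D.c : G) ^ i.val = s at *
      calc _ = s * (p * D.x2 * p⁻¹ * D.x2⁻¹ * D.x2) * s⁻¹ := by group
        _ = _ := by rw [this]; group
    refine ⟨_, hz, ?_⟩
    rcases h with rfl | rfl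
    · exact .inl e1
    rcases D.ht with h | h
    · rw [h, mul_one]; exact .inl e1
    · right
      rw [← e1]
      calc _ = k * (D.c : G) ^ i.val * p * (D.t * D.x2 * D.t⁻¹) * (k * (D.c : G) ^ i.val * p)⁻¹ := by group
        _ = _ := by rw [h.2.1]; group
  obtain ⟨z, hz, h⟩ := k
  have mz := conj_z hm hz
  have h3 : D.x2⁻¹ * D.x2⁻¹ = D.x2 := by
    rw [← mul_inv_rev, inv_eq_iff_mul_eq_one, ← pow_three', D.exp _ (x2Q D)]
  refine nz D.p2 (h3 ▸ ?_)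
  rcases h with h | h
  · have : D.x2⁻¹ = z * (z * D.x2) := by
      calc _ = m * (m * D.x2 * m⁻¹) * m⁻¹ := by rw [← e]; group
        _ = m * (z * D.x2) * m⁻¹ := by rw [h]
        _ = (m * z * m⁻¹) * (m * D.x2 * m⁻¹) := by group
        _ = _ := by rw [mz, h]
    rw [show D.x2⁻¹ * D.x2⁻¹ = z * z by nth_rw 1 [this]; group]
    exact mul_mem hz hz
  · have : D.x2⁻¹ = z * D.x2 * z⁻¹ := by
      calc _ = m * (m * D.x2 * m⁻¹) * m⁻¹ := by rw [← e]; group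
        _ = m * (z * D.x2)⁻¹ * m⁻¹ := by rw [h]
        _ = (m * D.x2 * m⁻¹)⁻¹ * (m * z * m⁻¹)⁻¹ := by group
        _ = _ := by rw [mz, h, inv_inv]
    rw [show D.x2⁻¹ * D.x2⁻¹ = 1 by nth_rw 1 [this]; rw [← zc xa hz]; group]
    exact one_mem _

theorem not_fine {p g : G} {f : Cv → Cv} {v : Cv} (hp : p * D.x1 * p⁻¹ = D.c ∨ p * D.x1 * p⁻¹ = (D.c : G)⁻¹)
    (hv : p * a * p⁻¹ = jv (D.c : G) D.x1 D.x2 a v) (hg : Acts (D.c : G) D.x1 D.x2 a g f) : ¬ Fine f v := by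
  rintro ⟨h1, h2⟩
  have b := bs D
  obtain ⟨k, hk, e⟩ := exists_sq D
  have e1 : g * D.c * g⁻¹ = D.x2 ∨ g * D.c * g⁻¹ = D.x2⁻¹ := by
    have := hg (1, 0, 0, 0)
    rw [jv_1] at this
    rcases h1 with h | h <;> rw [h] at this
    · exact .inl (this.trans jv_3)
    · exact .inr (by rw [this, b.neg, jv_3])
  have e2 : g * p * a * (g * p)⁻¹ = a ∨ g * p * a * (g * p)⁻¹ = a⁻¹ := by
    have : g * p * a * (g * p)⁻¹ = jv (D.c : G) D.x1 D.x2 a (f v) := by rw [← hg v, ← hv]; group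
    rcases h2 with h | h <;> rw [h] at this
    · exact .inl (this.trans jv_4)
    · exact .inr (by rw [this, b.neg, jv_4])
  have e3 : g * p * D.x1 * (g * p)⁻¹ = D.x2 ∨ g * p * D.x1 * (g * p)⁻¹ = D.x2⁻¹ := by
    rw [show g * p * D.x1 * (g * p)⁻¹ = g * (p * D.x1 * p⁻¹) * g⁻¹ by group]
    rcases hp with h | h <;> rw [h]
    · exact e1
    · rw [← conj_inv]
      exact e1.symm.imp (fun h => by rw [h, inv_inv]) fun h => by rw [h]
  generalize g * p = n at e2 e3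
  have c1 : Commute (n * k * n⁻¹) (n * a * n⁻¹) := (show Commute k a from ca ⟨k, D.fac.R_le hk⟩).conj n
  have e4 : n * k * n⁻¹ * (n * k * n⁻¹) * (n * D.x1 * n⁻¹) * (n * k * n⁻¹ * (n * k * n⁻¹))⁻¹ = (n * D.x1 * n⁻¹)⁻¹ := by
    rw [conj_mul, e, conj_inv (a := D.x1), ← D.fac.tx]; group
  refine sq_ne D (m := n * k * n⁻¹) ?_ ?_
  · rcases e2 with h | h <;> rw [h] at c1
    exacts [c1, Commute.inv_right_iff.1 c1]
  · rcases e3 with h | h <;> rw [h] at e4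
    · exact e4
    · rw [← inv_inj, conj_inv, e4]

end C1

open Cfsg.Agent.F4L in
theorem Lc.rho {a : G} (D : Lc a) : ∃ (D' : Lc a) (ρ : G), D'.Rho ρ := by
  obtain ⟨D, p, h0, pn, e2⟩ := C1.exists_p D
  have b := C1.bs D
  obtain ⟨r, hr⟩ : ∃ r, r = p * D.r * p⁻¹ := ⟨_, rfl⟩
  have rc : r * D.c * r⁻¹ = (D.c : G)⁻¹ := by
    have e3 : r * (p * D.x1 * p⁻¹) * r⁻¹ = (p * D.x1 * p⁻¹)⁻¹ := by
      rw [hr, conj_inv (a := D.x1), ← D.fac.tx]; group
    rcases e2 with e2 | e2 <;> rw [e2] at e3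
    · exact e3
    · rw [← inv_inj, conj_inv, e3]
  have oc : orderOf (D.c : G) = 3 := orderOf_eq_prime D.c3 fun e =>
    absurd (b.inj (v := (1, 0, 0, 0)) (w := 0) (by rw [jv_1, jv_zero, e])) (by decide)
  have k : ∀ w ∈ [(D.c : G), D.x1, D.x2, a], ∃ i : ZMod 3, r * w * r⁻¹ = D.c ^ i.val * w := fun w hw => by
    refine (exists_val oc ?_).imp fun i hi => mul_inv_eq_iff_eq_mul.1 hi
    obtain ⟨u, hu⟩ := b.surj (conj_mem_of_mem_norm (inv_mem pn) (mem_clos hw))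
    have e4 : D.r * jv (D.c : G) D.x1 D.x2 a u * D.r⁻¹ * (jv (D.c : G) D.x1 D.x2 a u)⁻¹ = D.x1 ^ u.2.1.val := by
      rw [C1.aT1 D u, ← b.neg, ← b.add, cT1_sub, b.smul, jv_2]
    have e5 : r * w * r⁻¹ * w⁻¹ = (p * D.x1 * p⁻¹) ^ u.2.1.val := by
      rw [conj_pow, ← e4, ← hu, hr]; group
    rw [e5]
    refine pow_mem ?_ _
    rcases e2 with e2 | e2 <;> rw [e2]
    exacts [mem_zpowers _, inv_mem (mem_zpowers _)]
  obtain ⟨j, hj⟩ := k D.x1 (by simp)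
  obtain ⟨l, hl⟩ := k D.x2 (by simp)
  obtain ⟨i, hi⟩ := k a (by simp)
  have ac : Acts (D.c : G) D.x1 D.x2 a r (cR i j l) :=
    b.acts (by rw [rc, jv_c, pow_val_neg b.c3, ZMod.val_one, pow_one]) (by rw [hj]; simp [jv, ZMod.val_one])
      (by rw [hl]; simp [jv, ZMod.val_one]) (by rw [hi]; simp [jv, ZMod.val_one])
  have hZ := fun v => Bool.eq_iff_iff.2 (((C1.ze_iff D h0 _).symm.trans (ac.ze v)).trans (C1.ze_iff D h0 v))
  obtain ⟨rfl, rfl⟩ := cR_key _ _ i j l hZ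
  rw [ZMod.val_zero, pow_zero, one_mul] at hj hl
  have : ∀ i : ZMod 3, i = 0 ∨ i = 1 ∨ i = -1 := by decide
  rcases this i with rfl | rfl | rfl
  · rw [ZMod.val_zero, pow_zero, one_mul] at hi
    have m : r ∈ centralizer (clos [a, D.x1, D.x2] : Set G) := fun x hx => (commute_clos (by
      simp only [List.forall_mem_cons, List.not_mem_nil, false_imp_iff, implies_true, and_true]
      exact ⟨mul_inv_eq_iff_eq_mul.1 hi, mul_inv_eq_iff_eq_mul.1 hj, mul_inv_eq_iff_eq_mul.1 hl⟩) x hx).symm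
    exact absurd (b.inj ((ac (1, 0, 0, 0)).symm.trans (b.acts_id (D.J_eq ▸ m) _))) (by decide)
  · obtain ⟨v, hv⟩ := b.surj (conj_mem_of_mem_norm pn (jv_4 (c := (D.c : G)) ▸ jv_mem (0, 0, 0, 1)))
    have h1 : cR 1 0 0 v = v := b.inj (by
      rw [← ac v, ← hv, hr]
      calc _ = p * (D.r * a * D.r⁻¹) * p⁻¹ := by group
        _ = _ := by rw [C1.ra D]; group)
    have y1 := C1.aY1 D
    have y2 := C1.aY2 D
    rcases C1.fine_key _ _ hZ v h1 ((C1.ze_iff D h0 v).1 (hv ▸ LB.ze_cj (ze_refl a) p)) with h | h | h | h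
    · exact absurd h (C1.not_fine D e2 hv (ac.mul (y2.mul (y1.mul (ac.mul ((C1.aT1 D).mul y2))))))
    · exact absurd h (C1.not_fine D e2 hv (ac.mul (y2.mul (y1.mul (ac.mul y2)))))
    · exact absurd h (C1.not_fine D e2 hv (ac.mul (y2.mul (ac.mul y2))))
    · exact absurd h (C1.not_fine D e2 hv (y2.mul (ac.mul y2)))
  · rw [pow_val_neg b.c3, ZMod.val_one, pow_one] at hi
    have c2 : (D.c : G)⁻¹ * (D.c : G)⁻¹ = D.c := by
      rw [← mul_inv_rev, inv_eq_iff_mul_eq_one, ← pow_three', b.c3]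
    have a2 : a⁻¹ * a⁻¹ = a := by rw [← mul_inv_rev, inv_eq_iff_mul_eq_one, ← pow_three', b.a3]
    refine ⟨C1.shift D (mem_zpowers a), r, ?_, hj, hl, ?_⟩
    · change r * (D.c * a) * r⁻¹ = D.c * a
      rw [← conj_mul, rc, hi, ← mul_assoc, c2]
    · change r * a * r⁻¹ = a⁻¹ * (D.c * a)⁻¹
      rw [hi, mul_inv_rev, ← mul_assoc, a2, b.ca.inv_left.eq]

end Cfsg.Agent.Tr8
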