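import Mathlib
import Cfsg.Agent.Tr8.Defs

/-! The letters (PLAN section LocC2). -/

set_option autoImplicit false
set_option linter.unusedSectionVars false
set_option maxRecDepth 100000

namespace Cfsg.Agent.Tr8

open Cfsg.Agent.Spor Cfsg.Agent.Rec Cfsg.Agent.Inv.Fz Cfsg.Agent.T16 Cfsg.Agent.T3 Cfsg.Agent.T3.LB Subgroup
open Cfsg.Agent.F4L
open scoped commutatorElement

universe u

variable {G : Type u} [Group G] [Finite G]

/-- The reflection in `c a⁻¹`. -/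
def oP : Cv → Cv := lin4 (1, 0, 0, 0) (0, 1, 0, 0) (0, 0, 1, 0) (-1, 0, 0, -1)
/-- The transposition of the last two letters. -/
def oM : Cv → Cv := (cY2' ∘ oP) ∘ cY2
/-- The inversion. -/
def oW : Cv → Cv := ((cT1 ∘ ((cY2 ∘ oP) ∘ cY2')) ∘ oM) ∘ oP

theorem oW_spec : ∀ v : Cv, oW v = -v := by decide +kernel

theorem oY_key : ∀ v : Cv, cT1 v + -v = 0 → v + cY2 v + cY2 (cY2 v) = 0 → v.1 = 0 ∧ v.2.1 = 0 := by decide +kernel

theorem o_xz {P : Subgroup G} {a x y : G} (h : P27 P a x y) : x ∉ zpowers a := fun hx => h.es.z_ne_one (by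
  rw [← h.xy]; exact commutatorElement_eq_one_iff_mul_comm.2 (h.es.commute_of_mem_zpowers h.hy hx).symm.eq)

theorem o_vx {P : Subgroup G} {a x y : G} (h : P27 P a x y) : y * x * y⁻¹ = x * a⁻¹ := by
  have xa : Commute x a := h.es.commute_of_mem_zpowers h.hx (mem_zpowers a)
  calc _ = x * (x⁻¹ * ⁅x, y⁆⁻¹ * x) := by rw [commutatorElement_def]; group
    _ = _ := by rw [h.xy, mul_assoc, ← xa.inv_right.eq]; group

namespace Lc

variable {a : G} (D : Lc a)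

theorem o_p1 : P27 D.P1 a D.x1 D.y1 :=
  ⟨D.sp.es1, D.fac.card, D.fac.P_eq ▸ mem_clos (by simp), D.fac.P_eq ▸ mem_clos (by simp), D.fac.xy⟩

theorem o_ca (g : centralizer ({a} : Set G)) : (g : G) * a = a * g := mem_cen.1 g.2

theorem o_x1Q : D.x1 ∈ Q3 a := D.sp.le1 D.o_p1.hx
theorem o_y1Q : D.y1 ∈ Q3 a := D.sp.le1 D.o_p1.hy
theorem o_x2Q : D.x2 ∈ Q3 a := D.sp.le2 D.p2.hx
theorem o_y2Q : D.y2 ∈ Q3 a := D.sp.le2 D.p2.hy

/-- The involution of `R`. -/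
def oT : centralizer ({a} : Set G) := ⟨D.r, D.fac.R_le D.fac.t_mem⟩

theorem o_ra : D.r * a = a * D.r := o_ca D.oT

theorem o_neg : D.ψ D.oT = -1 := by
  have e : ∀ w : G, w ^ 3 = 1 → w ^ (-1 : ZMod 3).val = w⁻¹ := fun w h => by rw [pow_val_neg h, ZMod.val_one, pow_one]
  obtain ⟨-, e1, e2⟩ := om_co D.o_p1 (D.fac.act D.oT).1
  obtain ⟨-, e3, -⟩ := om_co D.o_p1 (D.fac.act D.oT).2
  obtain ⟨-, e5, e6⟩ := om_co D.o_p1 (w := D.r * D.x1 * D.r⁻¹) (i := -1) (j := 0) (by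
    rw [e _ (D.exp _ D.o_x1Q), D.fac.tx]; simp)
  obtain ⟨-, e7, -⟩ := om_co D.o_p1 (w := D.r * D.y1 * D.r⁻¹) (i := 0) (j := -1) (by
    rw [e _ (D.exp _ D.o_y1Q), D.fac.ty]; simp)
  exact s_neg _ (e1.symm.trans e5) (e2.symm.trans e6) (e3.symm.trans e7)

theorem o_r4 {k : centralizer ({a} : Set G)} (hk : (k : G) ∈ D.R) : D.ψ k ^ 4 = 1 ∧ (k : G) ^ 4 = 1 := by
  have h8 : (k : G) ^ 8 = 1 := congrArg Subtype.val (D.fac.cardR ▸ pow_card_eq_one' (x := (⟨k, hk⟩ : D.R)))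
  have h4 := s_eight (D.ψ k) (by rw [← map_pow, show k ^ 8 = 1 from Subtype.ext h8, map_one])
  exact ⟨h4, congrArg Subtype.val (D.fac.inj (k ^ 4) (pow_mem hk 4) (by rw [map_pow, h4]))⟩

theorem o_surj {m : S3} (hm : m ^ 4 = 1) : ∃ k : centralizer ({a} : Set G), (k : G) ∈ D.R ∧ D.ψ k = m := by
  let f : D.R → {m : S3 // m ^ 4 = 1} := fun r => ⟨D.ψ ⟨r, D.fac.R_le r.2⟩, (D.o_r4 r.2).1⟩
  have inj : Function.Injective f := fun r s e => by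
    have := D.fac.inj (⟨r, D.fac.R_le r.2⟩ * ⟨s, D.fac.R_le s.2⟩⁻¹) (mul_mem r.2 (inv_mem s.2))
      (by rw [map_mul, map_inv, mul_inv_eq_one]; exact congrArg Subtype.val e)
    exact Subtype.ext (congrArg (fun w : centralizer ({a} : Set G) => (w : G)) (mul_inv_eq_one.1 this))
  have bij := (Nat.bijective_iff_injective_and_card f).2 ⟨inj, by
    rw [D.fac.cardR, Nat.card_eq_fintype_card, Fintype.card_subtype, s_card]⟩
  obtain ⟨r, hr⟩ := bij.2 ⟨m, hm⟩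
  exact ⟨_, r.2, congrArg Subtype.val hr⟩

theorem o_eqR {r s : centralizer ({a} : Set G)} (hr : (r : G) ∈ D.R) (hs : (s : G) ∈ D.R) (h : D.ψ r = D.ψ s) :
    (r : G) = s :=
  congrArg Subtype.val (mul_inv_eq_one.1 (D.fac.inj (r * s⁻¹) (mul_mem hr (inv_mem hs))
    (by rw [map_mul, map_inv, h, mul_inv_cancel])))

theorem o_rt {k : G} (hk : k ∈ D.R) : k * D.r = D.r * k :=
  (D.o_eqR (r := ⟨k, D.fac.R_le hk⟩ * D.oT) (s := D.oT * ⟨k, D.fac.R_le hk⟩) (mul_mem hk D.fac.t_mem)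
    (mul_mem D.fac.t_mem hk) (by rw [map_mul, map_mul, D.o_neg]; simp) :)

theorem o_fixz {p : G} (hp : p ∈ D.P1) (h : D.r * p = p * D.r) : p ∈ zpowers a := by
  have h1 := D.o_p1.iz D.o_ra D.fac.tx D.fac.ty hp
  rw [Iz, h, mul_inv_cancel_right, show p * p = p ^ 3 * p⁻¹ by rw [pow_three]; group, D.exp _ (D.sp.le1 hp),
    one_mul] at h1
  exact inv_mem_iff.1 h1

theorem o_cP2 : ((D.c : G)⁻¹) ∈ normalizer (D.P2 : Set G) := by
  refine D.p2.norm (show Commute (D.c : G) a from o_ca D.c).inv_left.eq ?_ ?_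
  · rw [(show Commute (D.c : G) D.x2 from D.cx2).inv_left.eq, mul_inv_cancel_right]; exact D.p2.hx
  · have : (D.c : G)⁻¹ * D.y2 * (D.c : G)⁻¹⁻¹ = D.x2 * a * D.y2 := by
      calc _ = (D.c : G)⁻¹ * (D.y2 * D.c * D.y2⁻¹) * D.y2 := by group
        _ = _ := by rw [D.yc]; group
    rw [this]
    exact mul_mem (mul_mem D.p2.hx (D.p2.es.zpowers_le (mem_zpowers a))) D.p2.hy

theorem o_nR {k : G} (hk : k ∈ D.R) : D.c * k * (D.c : G)⁻¹ ∈ D.R := by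
  let k' : centralizer ({a} : Set G) := ⟨k, D.fac.R_le hk⟩
  obtain ⟨s, hs, e⟩ := D.o_surj (m := D.ψ (D.c * k' * D.c⁻¹)) (by
    rw [map_mul, map_mul, map_inv, conj_pow, (D.o_r4 (k := k') hk).1]; group)
  have c2 : ∀ p ∈ D.P2, D.c * k * (D.c : G)⁻¹ * (s : G)⁻¹ * p = p * (D.c * k * (D.c : G)⁻¹ * (s : G)⁻¹) := fun p hp => by
    have h1 : Commute (D.c * k * (D.c : G)⁻¹) p := by
      have := D.comm k hk _ (conj_mem_of_mem_norm D.o_cP2 hp)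
      calc D.c * k * (D.c : G)⁻¹ * p = D.c * (k * ((D.c : G)⁻¹ * p * (D.c : G)⁻¹⁻¹)) * (D.c : G)⁻¹ := by group
        _ = _ := by rw [this]; group
    exact (h1.mul_left (show Commute (s : G) p from D.comm s hs p hp).inv_left).eq
  have hQ : D.c * k * (D.c : G)⁻¹ * (s : G)⁻¹ ∈ Q3 a := by
    refine (D.ker (D.c * k' * D.c⁻¹ * s⁻¹) (by rw [map_mul, map_inv, e, mul_inv_cancel])).resolve_right fun h => ?_
    have h1 : D.c * k * (D.c : G)⁻¹ * (s : G)⁻¹ * D.x2 * (D.c * k * (D.c : G)⁻¹ * (s : G)⁻¹)⁻¹ * D.x2 ∈ zpowers a :=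
      h _ D.p2.hx
    rw [c2 _ D.p2.hx, mul_inv_cancel_right, show D.x2 * D.x2 = D.x2 ^ 3 * D.x2⁻¹ by rw [pow_three]; group,
      D.exp _ D.o_x2Q, one_mul] at h1
    exact o_xz D.p2 (inv_mem_iff.1 h1)
  have hz : D.c * k * (D.c : G)⁻¹ * (s : G)⁻¹ ∈ zpowers a := D.o_fixz ((D.sp.m1 _).2 ⟨hQ, c2⟩)
    ((((show Commute (D.c : G) D.r from D.cr).mul_left (D.o_rt hk)).mul_left
      (show Commute (D.c : G) D.r from D.cr).inv_left).mul_left (show Commute (s : G) D.r from D.o_rt hs).inv_left).symm.eq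
  have h4 := (show Commute (D.c * k * (D.c : G)⁻¹ * (s : G)⁻¹) s from (zc (o_ca s) hz).symm).mul_pow 4
  rw [inv_mul_cancel_right, conj_pow, show k ^ 4 = 1 from (D.o_r4 (k := k') hk).2, (D.o_r4 hs).2, mul_one, mul_one,
    mul_inv_cancel, pow_succ, D.ex.esz.pow_eq_one_of_mem_zpowers hz, one_mul] at h4
  exact mul_inv_eq_one.1 h4.symm ▸ hs

theorem o_vc : D.y1 * D.c * D.y1⁻¹ = D.c * D.x1⁻¹ * a⁻¹ := by
  have h1 := (D.fac.act D.c).2
  rw [D.pc] at h1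
  have h2 : D.c * D.y1 * (D.c : G)⁻¹ * (D.x1 * D.y1)⁻¹ ∈ zpowers a := by simpa [tv, ZMod.val_one] using h1
  have e : D.c * D.y1 * (D.c : G)⁻¹ = a * D.x1 * D.y1 := by
    refine eq_of_inv D.ex D.o_ra (D.ex.comm_a (mul_mem (mul_mem D.ex.mem D.o_x1Q) D.o_y1Q)) ?_ ?_ ?_
    · calc _ = D.r * a * D.r⁻¹ * (D.r * D.x1 * D.r⁻¹) * (D.r * D.y1 * D.r⁻¹) := by group
        _ = a * (D.y1⁻¹ * D.x1⁻¹) * (D.x1 * D.y1 * D.x1⁻¹ * D.y1⁻¹) := by rw [D.fac.tx, D.fac.ty, D.o_ra]; group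
        _ = D.y1⁻¹ * D.x1⁻¹ * a ^ 3 * a⁻¹ := by
          rw [D.fac.xy, ← D.ex.comm_a (mul_mem (inv_mem D.o_y1Q) (inv_mem D.o_x1Q)), pow_three]; group
        _ = _ := by rw [D.ex.esz.z_pow]; group
    · calc _ = D.r * D.c * D.y1 * (D.r * D.c)⁻¹ := by group
        _ = D.c * (D.r * D.y1 * D.r⁻¹) * (D.c : G)⁻¹ := by rw [← D.cr]; group
        _ = _ := by rw [D.fac.ty]; group
    · convert mul_mem h2 (inv_mem (mem_zpowers a)) using 1; group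
  calc _ = (a * D.x1)⁻¹ * (a * D.x1 * D.y1) * D.c * D.y1⁻¹ := by group
    _ = (a * D.x1)⁻¹ * D.c := by rw [← e]; group
    _ = _ := by
      rw [← ((show Commute (D.c : G) a from o_ca D.c).mul_right
        (show Commute (D.c : G) D.x1 from D.cx1)).inv_right.eq]; group

theorem o_bs : Bs4 (D.c : G) D.x1 D.x2 a :=
  ⟨D.cx1, D.cx2, o_ca D.c, D.sp.comm D.o_p1.hx D.p2.hx, D.ex.comm_a D.o_x1Q, D.ex.comm_a D.o_x2Q, D.c3,
    D.exp _ D.o_x1Q, D.exp _ D.o_x2Q, D.ex.esz.z_pow, D.card⟩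

theorem o_cent : centralizer (clos [(D.c : G), D.x1, D.x2, a] : Set G) ≤ clos [(D.c : G), D.x1, D.x2, a] := by
  nth_rw 2 [← D.J_eq]
  exact centralizer_le (clos_le.2 fun x hx => mem_clos (by simp at hx ⊢; tauto) : clos [a, D.x1, D.x2] ≤ _)

theorem o_aY1 : Acts (D.c : G) D.x1 D.x2 a D.y1 cY1 := by
  have b := D.o_bs
  refine b.acts ?_ ?_ (.trans ?_ jv_3.symm) (.trans ?_ jv_4.symm)
  · rw [D.o_vc]
    simp only [jv, pow_val_neg b.x3, pow_val_neg b.a3, ZMod.val_one, ZMod.val_zero, pow_one, pow_zero, mul_one]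
  · rw [o_vx D.o_p1]
    simp only [jv, pow_val_neg b.a3, ZMod.val_one, ZMod.val_zero, pow_one, pow_zero, mul_one, one_mul]
  · rw [D.sp.comm D.o_p1.hy D.p2.hx]; group
  · rw [D.ex.comm_a D.o_y1Q]; group

theorem o_aY2 : Acts (D.c : G) D.x1 D.x2 a D.y2 cY2 := by
  have b := D.o_bs
  refine b.acts ?_ (.trans ?_ jv_2.symm) ?_ (.trans ?_ jv_4.symm)
  · rw [D.yc]
    simp only [jv, ZMod.val_one, ZMod.val_zero, pow_one, pow_zero, mul_one]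
  · rw [← D.sp.comm D.o_p1.hx D.p2.hy]; group
  · rw [o_vx D.p2]
    simp only [jv, pow_val_neg b.a3, ZMod.val_one, ZMod.val_zero, pow_one, pow_zero, mul_one, one_mul]
  · rw [D.ex.comm_a D.o_y2Q]; group

theorem o_aR : Acts (D.c : G) D.x1 D.x2 a D.r cT1 := by
  have b := D.o_bs
  refine b.acts (.trans ?_ jv_1.symm) ?_ (.trans ?_ jv_3.symm) (.trans ?_ jv_4.symm)
  · rw [← D.cr]; group
  · rw [D.fac.tx]
    simp only [jv, pow_val_neg b.x3, ZMod.val_one, ZMod.val_zero, pow_one, pow_zero, mul_one, one_mul]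
  · rw [D.comm _ D.fac.t_mem _ D.p2.hx]; group
  · rw [D.o_ra]; group

theorem o_aT : D.t = 1 ∨ (D.t * D.t = 1 ∧ Acts (D.c : G) D.x1 D.x2 a D.t cT2) := by
  have b := D.o_bs
  refine D.ht.imp_right fun h => ⟨h.1, b.acts (.trans ?_ jv_1.symm) (.trans ?_ jv_2.symm) ?_ (.trans ?_ jv_4.symm)⟩
  · rw [D.tc]; group
  · rw [D.tP _ (mem_sup_left D.o_p1.hx)]; group
  · rw [h.2.1]
    simp only [jv, pow_val_neg b.y3, ZMod.val_one, ZMod.val_zero, pow_one, pow_zero, mul_one, one_mul]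
  · rw [D.ta]; group

theorem o_aP {ρ : G} (h : D.Rho ρ) : Acts (D.c : G) D.x1 D.x2 a ρ oP := by
  have b := D.o_bs
  refine b.acts (h.1.trans jv_1.symm) (h.2.1.trans jv_2.symm) (h.2.2.1.trans jv_3.symm) ?_
  rw [h.2.2.2, ← b.ca.inv_inv.eq]
  simp only [jv, pow_val_neg b.c3, pow_val_neg b.a3, ZMod.val_one, ZMod.val_zero, pow_one, pow_zero, mul_one]

/-- The inversion commuting with `r` and `t`. -/
theorem o_w {ρ : G} (h : D.Rho ρ) :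
    ∃ w, Iv3 (clos [(D.c : G), D.x1, D.x2, a]) w ∧ D.r * w = w * D.r ∧ D.t * w = w * D.t := by
  have b := D.o_bs
  have ap := D.o_aP h
  have ai := D.o_aY2.inv cY2_inv
  have aw : Acts (D.c : G) D.x1 D.x2 a _ oW :=
    ((D.o_aR.mul ((D.o_aY2.mul ap).mul ai)).mul ((ai.mul ap).mul D.o_aY2)).mul ap
  have w0 : Iv3 (clos [(D.c : G), D.x1, D.x2, a]) _ := ⟨b.comm, b.exp, D.o_cent, fun x hx => by
    obtain ⟨v, rfl⟩ := b.surj hx
    exact (aw v).trans (by rw [oW_spec, b.neg])⟩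
  obtain ⟨w1, h1, e1, -⟩ := w0.chg (b.norm D.o_aR) D.fac.t2
  rcases D.o_aT with e | ⟨t2, at2⟩
  · exact ⟨w1, h1, e1, by rw [e, one_mul, mul_one]⟩
  · obtain ⟨w, hw, e2, e3⟩ := h1.chg (b.norm at2) t2
    exact ⟨w, hw, e3 _ e1 (D.tP _ (mem_sup_right D.fac.t_mem)).symm, e2⟩

theorem o_y1 {w : G} (hw : Iv3 (clos [(D.c : G), D.x1, D.x2, a]) w) (t1 : D.r * w = w * D.r) :
    ∃ n : ℕ, (D.c : G) ^ n * D.y1 * ((D.c : G) ^ n)⁻¹ * w = w * ((D.c : G) ^ n * D.y1 * ((D.c : G) ^ n)⁻¹) := by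
  have b := D.o_bs
  obtain ⟨u, hu, e⟩ := hw.adj (b.norm D.o_aY1)
  obtain ⟨v, rfl⟩ := b.surj hu
  have e1 : jv (D.c : G) D.x1 D.x2 a v * D.y1 * (D.r * (jv (D.c : G) D.x1 D.x2 a v * D.y1) * D.r⁻¹) =
      jv (D.c : G) D.x1 D.x2 a (v + cY1 (cT1 v)) := by
    rw [b.add, ← D.o_aY1, ← D.o_aR, ← D.fac.ty]; group
  have c1 : Commute D.r w := t1
  have e2 := hw.fpf (e1 ▸ jv_mem _) ((show Commute _ w from e).mul_left ((c1.mul_left e).mul_left c1.inv_left))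
  have e3 := cY1_key v (b.inj (by rw [← e1, e2, jv_zero]))
  obtain ⟨k, hk⟩ : ∃ k, k = v.2.1 := ⟨_, rfl⟩
  rw [← hk] at e3
  have e4 : jv (D.c : G) D.x1 D.x2 a v * D.y1 = (D.c : G) ^ k.val * D.y1 * ((D.c : G) ^ k.val)⁻¹ := by
    rw [e3, b.add, ← D.o_aY1, b.neg, jv_c]; group
  exact ⟨k.val, e4 ▸ e⟩

theorem o_y2 {w : G} (hw : Iv3 (clos [(D.c : G), D.x1, D.x2, a]) w) (t1 : D.r * w = w * D.r) :
    ∃ y, P27 D.P2 a D.x2 y ∧ Acts (D.c : G) D.x1 D.x2 a y cY2 ∧ y * w = w * y := by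
  have b := D.o_bs
  obtain ⟨u, hu, e⟩ := hw.adj (b.norm D.o_aY2)
  obtain ⟨v, rfl⟩ := b.surj hu
  have c1 : Commute D.r w := t1
  have c2 : Commute (jv (D.c : G) D.x1 D.x2 a v * D.y2) w := e
  have e1 : D.r * (jv (D.c : G) D.x1 D.x2 a v * D.y2) * D.r⁻¹ * (jv (D.c : G) D.x1 D.x2 a v * D.y2)⁻¹ =
      jv (D.c : G) D.x1 D.x2 a (cT1 v + -v) := by
    rw [b.add, b.neg, ← D.o_aR]
    calc _ = D.r * jv (D.c : G) D.x1 D.x2 a v * D.r⁻¹ * (D.r * D.y2 * D.r⁻¹ * D.y2⁻¹) *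
        (jv (D.c : G) D.x1 D.x2 a v)⁻¹ := by group
      _ = _ := by rw [D.comm _ D.fac.t_mem _ D.p2.hy]; group
  have e2 := hw.fpf (e1 ▸ jv_mem _) (((c1.mul_left c2).mul_left c1.inv_left).mul_left c2.inv_left)
  have e3 : (jv (D.c : G) D.x1 D.x2 a v * D.y2) ^ 3 = jv (D.c : G) D.x1 D.x2 a (v + cY2 v + cY2 (cY2 v)) := by
    rw [b.add, b.add, ← D.o_aY2 (cY2 v), ← D.o_aY2 v]
    have y3 := D.exp _ D.o_y2Q
    generalize jv (D.c : G) D.x1 D.x2 a v = j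
    calc _ = j * (D.y2 * j * D.y2⁻¹) * (D.y2 * (D.y2 * j * D.y2⁻¹) * D.y2⁻¹) * D.y2 ^ 3 := by
          rw [pow_three, pow_three]; group
      _ = _ := by rw [y3, mul_one]
  have e4 := hw.fpf (e3 ▸ jv_mem _) (c2.pow_left 3)
  obtain ⟨k1, k2⟩ := oY_key v (b.inj (by rw [← e1, e2, jv_zero])) (b.inj (by rw [← e3, e4, jv_zero]))
  have m : jv (D.c : G) D.x1 D.x2 a v ∈ D.P2 := by
    rw [jv, k1, k2, ZMod.val_zero, pow_zero, pow_zero, one_mul, one_mul]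
    exact mul_mem (pow_mem D.p2.hx _) (pow_mem (D.p2.es.zpowers_le (mem_zpowers a)) _)
  refine ⟨_, ⟨D.p2.es, D.p2.card, D.p2.hx, mul_mem m D.p2.hy, ?_⟩, (b.acts_id hu).mul D.o_aY2, e⟩
  have h1 := b.comm _ hu D.x2 (mem_clos (by simp))
  have h2 := b.comm _ hu a (mem_clos (by simp))
  have h3 := D.p2.xy
  rw [commutatorElement_def] at h3 ⊢
  generalize jv (D.c : G) D.x1 D.x2 a v = j at h1 h2 ⊢
  calc _ = D.x2 * j * (D.y2 * D.x2⁻¹ * D.y2⁻¹) * j⁻¹ := by group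
    _ = j * (D.x2 * D.y2 * D.x2⁻¹ * D.y2⁻¹) * j⁻¹ := by rw [← h1]; group
    _ = a := by rw [h3, h2]; group

/-- The element of order four. -/
theorem o_q (n : ℕ) : ∃ q ∈ D.R, q * q = D.r ∧ q * D.x1 * q⁻¹ = (D.c : G) ^ n * D.y1 * ((D.c : G) ^ n)⁻¹ ∧
    q * (D.c * q * (D.c : G)⁻¹) * q⁻¹ = (D.c * q * (D.c : G)⁻¹)⁻¹ ∧
    D.c * (D.c * q * (D.c : G)⁻¹) * (D.c : G)⁻¹ = q * (D.c * q * (D.c : G)⁻¹) := by
  induction n with
  | zero =>
    obtain ⟨q, hq, e⟩ := D.o_surj ww_rel.1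
    have hq' := D.o_nR hq
    refine ⟨q, hq, D.o_eqR (r := q * q) (s := D.oT) (mul_mem hq hq) D.fac.t_mem (by rw [map_mul, e, D.o_neg, ww_rel.2.1]),
      ?_, ?_, ?_⟩
    · rw [pow_zero, one_mul, inv_one, mul_one]
      refine eq_of_inv D.ex D.o_ra (D.ex.comm_a D.o_y1Q) D.fac.ty ?_ ?_
      · calc _ = D.r * q * D.x1 * (D.r * q)⁻¹ := by group
          _ = q * (D.r * D.x1 * D.r⁻¹) * (q : G)⁻¹ := by rw [← D.o_rt hq]; group
          _ = _ := by rw [D.fac.tx]; group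
      · have := (D.fac.act q).1
        rw [e] at this
        simpa [ww, ZMod.val_one] using this
    · exact D.o_eqR (r := q * (D.c * q * D.c⁻¹) * q⁻¹) (s := (D.c * q * D.c⁻¹)⁻¹)
        (mul_mem (mul_mem hq hq') (inv_mem hq)) (inv_mem hq') (by simp only [map_mul, map_inv, e, D.pc, ww_rel.2.2.1])
    · exact D.o_eqR (r := D.c * (D.c * q * D.c⁻¹) * D.c⁻¹) (s := q * (D.c * q * D.c⁻¹)) (D.o_nR hq') (mul_mem hq hq')
        (by simp only [map_mul, map_inv, e, D.pc, ww_rel.2.2.2])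
  | succ n ih =>
    obtain ⟨q, hq, e1, e2, e3, e4⟩ := ih
    refine ⟨_, D.o_nR hq, ?_, ?_, ?_, ?_⟩
    · rw [conj_mul, e1, D.cr, mul_inv_cancel_right]
    · calc _ = D.c * (q * ((D.c : G)⁻¹ * D.x1 * D.c) * q⁻¹) * (D.c : G)⁻¹ := by group
        _ = _ := by rw [mul_assoc (D.c : G)⁻¹, ← D.cx1, inv_mul_cancel_left, e2, pow_succ']; group
    · calc _ = D.c * (q * (D.c * q * (D.c : G)⁻¹) * q⁻¹) * (D.c : G)⁻¹ := by group
        _ = _ := by rw [e3]; simp only [mul_inv_rev, inv_inv, mul_assoc]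
    · calc _ = D.c * (q * (D.c * q * (D.c : G)⁻¹)) * (D.c : G)⁻¹ := by rw [← e4]
        _ = _ := by group

theorem o_lo {ρ : G} (h : D.Rho ρ) : Nonempty (Lo G) := by
  have b := D.o_bs
  obtain ⟨w, hw, t1, t2⟩ := D.o_w h
  obtain ⟨n, hn⟩ := D.o_y1 hw t1
  obtain ⟨y, py, ay, hy⟩ := D.o_y2 hw t1
  obtain ⟨q, hq, q1, q2, q3, q4⟩ := D.o_q n
  obtain ⟨v, hv⟩ : ∃ v, v = (D.c : G) ^ n * D.y1 * ((D.c : G) ^ n)⁻¹ := ⟨_, rfl⟩
  rw [← hv] at hn q2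
  have mc : (D.c : G) ^ n ∈ clos [(D.c : G), D.x1, D.x2, a] := pow_mem (mem_clos (by simp)) n
  have av : Acts (D.c : G) D.x1 D.x2 a v cY1 :=
    hv ▸ ((b.acts_id mc).mul D.o_aY1).mul (b.acts_id (inv_mem mc))
  have qa : q * a = a * q := mem_cen.1 (D.fac.R_le hq)
  have pv : P27 D.P1 a D.x1 v := by
    have n1 : q ∈ normalizer (D.P1 : Set G) := mem_normalizer_of_conj_mem fun p hp =>
      (D.sp.m1 _).2 ⟨conj_mem_of_mem_norm (norm_Q3 qa) (D.sp.le1 hp), fun z hz =>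
        ((((show Commute q z from D.comm q hq z hz).mul_left (D.sp.comm hp hz))).mul_left
          (show Commute q z from D.comm q hq z hz).inv_left).eq⟩
    refine ⟨D.sp.es1, D.fac.card, D.o_p1.hx, q2 ▸ conj_mem_of_mem_norm n1 D.o_p1.hx, ?_⟩
    have h1 := b.comm _ mc D.x1 (mem_clos (by simp))
    have h2 := b.comm _ mc a (mem_clos (by simp))
    rw [commutatorElement_def, hv]
    generalize (D.c : G) ^ n = j at h1 h2 ⊢
    calc _ = D.x1 * j * D.y1 * (D.x1 * j)⁻¹ * j * D.y1⁻¹ * j⁻¹ := by group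
      _ = j * (D.x1 * D.y1 * D.x1⁻¹ * D.y1⁻¹) * j⁻¹ := by
        nth_rw 1 [← h1]
        rw [← h1]; group
      _ = a := by rw [D.fac.xy, h2]; group
  have am : Acts (D.c : G) D.x1 D.x2 a _ oM := ((D.o_aY2.inv cY2_inv).mul (D.o_aP h)).mul D.o_aY2
  obtain ⟨u, hu, e⟩ := hw.adj (b.norm am)
  have aw : Acts (D.c : G) D.x1 D.x2 a w fun v => -v := fun v => by rw [hw.inv _ (jv_mem v), b.neg]
  have aT := D.o_aT
  obtain ⟨j, hj⟩ : ∃ j, j = jv (D.c : G) D.x1 D.x2 a := ⟨_, rfl⟩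
  have add : ∀ v w, j v * j w = j (v + w) := fun v w => hj ▸ (b.add v w).symm
  have neg : ∀ v, (j v)⁻¹ = j (-v) := fun v => hj ▸ (b.neg v).symm
  have eJ : clos [j (1, -1, 0, -1), j (1, 1, 0, -1), j (1, 0, 0, 0), j (0, 0, 1, 0)] = clos [(D.c : G), D.x1, D.x2, a] := by
    have m := nth_mem_clos [j (1, -1, 0, -1), j (1, 1, 0, -1), j (1, 0, 0, 0), j (0, 0, 1, 0)]
    refine le_antisymm (clos_le.2 ?_) (clos_le.2 ?_) <;>
      simp only [List.forall_mem_cons, List.not_mem_nil, false_imp_iff, implies_true, and_true]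
    · exact hj ▸ ⟨jv_mem _, jv_mem _, jv_mem _, jv_mem _⟩
    · refine ⟨mem_eq (hj ▸ jv_1.symm) (m 2), mem_eq ?_ (mul_mem (m 0) (inv_mem (m 1))), mem_eq (hj ▸ jv_3.symm) (m 3),
        mem_eq ?_ (mul_mem (mul_mem (m 0) (m 1)) (m 2))⟩ <;> simp only [nth_zero, nth_succ, neg, add] <;> rw [hj]
      exacts [jv_2.symm, jv_4.symm]
  have c1 : Commute D.r w := t1
  have pre : Pz (j (1, -1, 0, -1)) (j (1, 1, 0, -1)) (j (1, 0, 0, 0)) (j (0, 0, 1, 0)) D.r (D.r * v)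
      (u * (D.y2⁻¹ * ρ * D.y2)) y D.t w := by
    refine ⟨eJ ▸ b.comm, eJ ▸ b.exp, eJ ▸ b.card, eJ ▸ D.o_cent, ?_, ?_, ?_, ?_, aT.imp_right fun k => ?_, ?_⟩
    · exact hj ▸ D.o_aR.ac (by decide +kernel)
    · exact hj ▸ (D.o_aR.mul av).ac (by decide +kernel)
    · exact hj ▸ ((b.acts_id hu).mul am).ac (by decide +kernel)
    · simp only [add, neg]; exact hj ▸ ay.ac (by decide +kernel)
    · simp only [neg]; exact hj ▸ k.2.ac (by decide +kernel)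
    · simp only [neg]; exact hj ▸ aw.ac (by decide +kernel)
  obtain ⟨N, h3, h4, hz, hx, h5, h6, h7, h8, hJ⟩ : ∃ N : Nz G, N.e3 = D.c ∧ N.e4 = D.x2 ∧ N.z = a ∧ N.u = D.x1 ∧
      N.a1 = D.r ∧ N.v = v ∧ N.y = y ∧ N.t = D.t ∧ N.J = clos [(D.c : G), D.x1, D.x2, a] := by
    refine ⟨⟨_, _, _, _, _, _, _, _, _, _, pre, t1, c1.mul_left hn, e, hy, t2⟩, hj ▸ jv_1, hj ▸ jv_3, ?_, ?_, rfl, ?_,
      rfl, rfl, eJ⟩
    · simp only [Nz.z, add]; rw [hj]; exact jv_4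
    · simp only [Nz.u, add, neg]; rw [hj]; exact jv_2
    · simp only [Nz.v]; rw [← mul_assoc, D.fac.t2, one_mul]
  have car : N.f.CaR q := by
    refine ⟨?_, ?_, ?_, ?_, ?_⟩
    · exact q1.trans h5.symm
    · rw [N.f_a, hz]; exact qa
    · change q * N.u * q⁻¹ = N.v
      rw [hx, h6]; exact q2
    · change q * (N.e3 * q * N.e3⁻¹) * q⁻¹ = (N.e3 * q * N.e3⁻¹)⁻¹
      rw [h3]; exact q3
    · change N.e3 * (N.e3 * q * N.e3⁻¹) * N.e3⁻¹ = q * (N.e3 * q * N.e3⁻¹)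
      rw [h3]; exact q4
  have eR : N.f.Q1 q = D.R := by
    obtain ⟨C, hC⟩ := car.cod
    refine eq_of_le_of_card_ge (clos_le.2 ?_) (by rw [(Fr.gQ6 hC).2, D.fac.cardR])
    simp only [List.forall_mem_cons, List.not_mem_nil, false_imp_iff, implies_true, and_true]
    exact ⟨hq, by rw [h3]; exact D.o_nR hq⟩
  have eQ : Q3 a = N.Q := by
    rw [Nz.Q, hz, hx, h6, h4, h7, ← D.sp.sup]
    refine le_antisymm (sup_le ?_ ?_) (clos_le.2 ?_)
    · rw [pv.eq_clos]; exact clos_le.2 fun x hx => mem_clos (by simp at hx ⊢; tauto)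
    · rw [py.eq_clos]; exact clos_le.2 fun x hx => mem_clos (by simp at hx ⊢; tauto)
    · simp only [List.forall_mem_cons, List.not_mem_nil, false_imp_iff, implies_true, and_true]
      exact ⟨mem_sup_left (pv.es.zpowers_le (mem_zpowers a)), mem_sup_left pv.hx, mem_sup_left pv.hy,
        mem_sup_right py.hx, mem_sup_right py.hy⟩
  have eS : Q3 a ⊔ clos [(D.c : G), D.x1, D.x2, a] = N.S := by
    rw [eQ, ← hJ]
    have m := nth_mem_clos [N.e1, N.e2, N.e3, N.e4, N.v, N.y]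
    refine le_antisymm (sup_le (clos_le.2 ?_) (clos_le.2 ?_)) (clos_le.2 ?_) <;>
      simp only [List.forall_mem_cons, List.not_mem_nil, false_imp_iff, implies_true, and_true]
    · exact ⟨mul_mem (mul_mem (m 0) (m 1)) (m 2), mul_mem (m 0) (inv_mem (m 1)), m 4, m 3, m 5⟩
    · exact ⟨m 0, m 1, m 2, m 3⟩
    · exact ⟨mem_sup_right (mem_clos (by simp)), mem_sup_right (mem_clos (by simp)), mem_sup_right (mem_clos (by simp)),
        mem_sup_right (mem_clos (by simp)), mem_sup_left (mem_clos (by simp)), mem_sup_left (mem_clos (by simp))⟩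
  refine ⟨⟨N, q, car, hz ▸ D.ex, hz ▸ eQ, ?_, ?_, ?_, fun g hg => ?_, ?_, ?_, eS ▸ D.syl, ?_⟩⟩
  · rw [h4]; exact D.comm q hq _ D.p2.hx
  · rw [h7]; exact D.comm q hq _ py.hy
  · rw [h8]; exact (D.tP q (mem_sup_right hq)).symm
  · rw [hz] at hg
    obtain ⟨k, hk, i, p, hp, e⟩ := D.dec g hg
    refine ⟨k, eR ▸ hk, (D.c : G) ^ i.val * p,
      eS ▸ mul_mem (mem_sup_right (pow_mem (mem_clos (by simp)) _)) (mem_sup_left hp), ?_⟩
    rw [h8, ← mul_assoc]; exact e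
  · rw [hz, hx]; exact fun e => o_xz D.o_p1 (D.nP _ (Or.inl D.o_p1.hx) e)
  · rw [hz, h4]; exact fun e => o_xz D.p2 (D.nP _ (Or.inr D.p2.hx) e)
  · rw [hJ, ← eS]; exact D.wc

end Lc

theorem Lc.lo {a ρ : G} (D : Lc a) (h : D.Rho ρ) : Nonempty (Lo G) := D.o_lo h

end Cfsg.Agent.Tr8
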