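import Mathlib
import Cfsg.Agent.Tr8.Rt
import Cfsg.Agent.Tr8.Mk
import Cfsg.Agent.F4T.Pr
import Cfsg.Agent.Inv.SecRank

/-! `t` is not conjugate into `E` (PLAN section Te). -/

set_option autoImplicit false
set_option synthInstance.maxSize 100000
set_option synthInstance.maxHeartbeats 1000000
set_option linter.unusedSectionVars false
set_option maxRecDepth 100000

namespace Cfsg.Agent.Tr8

open Cfsg.Agent.Spor Cfsg.Agent.Rec Cfsg.Agent.Inv.Fz Cfsg.Agent.T16 Cfsg.Agent.T3 Cfsg.Agent.T3.LB Subgroup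

universe u

variable {G : Type u} [Group G] [Finite G]

theorem te_one {X Y : Subgroup G} (hX : (Nat.card X).Coprime 3) {k : ℕ} (hY : Nat.card Y = 3 ^ k) {x : G}
    (h1 : x ∈ X) (h2 : x ∈ Y) : x = 1 :=
  orderOf_eq_one_iff.1 (Nat.eq_one_of_dvd_coprimes (hX.pow_right k) (X.orderOf_dvd_natCard h1)
    (hY ▸ Y.orderOf_dvd_natCard h2))

theorem te_comm {X Y : Subgroup G} (hX : (Nat.card X).Coprime 3) {k : ℕ} (hY : Nat.card Y = 3 ^ k) {x y : G}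
    (h1 : x ∈ X) (h2 : y ∈ Y) (h3 : x ∈ normalizer (Y : Set G)) (h4 : y ∈ normalizer (X : Set G)) : x * y = y * x := by
  have h5 : x * y * x⁻¹ * y⁻¹ = 1 := te_one hX hY
    (by rw [show x * y * x⁻¹ * y⁻¹ = x * (y * x⁻¹ * y⁻¹) by group]
        exact mul_mem h1 (conj_mem_of_mem_norm h4 (inv_mem h1)))
    (mul_mem (conj_mem_of_mem_norm h3 h2) (inv_mem h2))
  exact mul_inv_eq_iff_eq_mul.1 (mul_inv_eq_one.1 h5)

theorem te_q8 {f : Fr G} {q : G} (h : f.CaR q) : f.Q1 q ≤ f.CC q ∧ f.S ≤ f.CC q ∧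
    ∀ k ∈ f.Q1 q, (k = 1 ∨ k = 1 * f.t) ∧ k * k = 1 ∨ (k = q ∨ k = q * f.t) ∧ k * k = f.t ∨
      (k = f.c3 * q * f.c3⁻¹ ∨ k = f.c3 * q * f.c3⁻¹ * f.t) ∧ k * k = f.t ∨
      (k = q * (f.c3 * q * f.c3⁻¹) ∨ k = q * (f.c3 * q * f.c3⁻¹) * f.t) ∧ k * k = f.t := by
  obtain ⟨C, hC⟩ := h.cod
  exact (Fr.hL6 hC).decide hC (by decide +kernel)

namespace Lo

variable (s : Lo G)

theorem te_J0 : s.J0 ≤ s.J := clos_le.2 fun x hx => mem_clos (by simp at hx ⊢; tauto)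

theorem te_nj (ht : s.t ≠ 1) {X : Subgroup G} (h1 : X ≤ centralizer {s.t}) (h2 : (Nat.card X).Coprime 3)
    (h3 : s.J0 ≤ normalizer (X : Set G)) {k : G} (hk : k ∈ X) (hn : k ∈ normalizer (s.J : Set G)) :
    k ∈ zpowers s.t := by
  have a : (∀ w ∈ s.W0, w * s.e1 = s.e1 * w → w * s.e2 = s.e2 * w → w * s.e3 = s.e3 * w → w = 1) ∧
      (∀ j ∈ s.J, j * s.e1 = s.e1 * j ∧ j * s.e2 = s.e2 * j ∧ j * s.e3 = s.e3 * j ∧ (j * j = 1 → j = 1)) ∧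
      s.t * s.e1 = s.e1 * s.t ∧ s.t * s.e2 = s.e2 * s.t ∧ s.t * s.e3 = s.e3 * s.t :=
    s.hL.decide (s.repB ht) (by decide +kernel)
  obtain ⟨a1, a2, a3, a4, a5⟩ := a
  have m := nth_mem_clos [s.e1, s.e2, s.e3]
  have hJ : Nat.card s.J = 3 ^ 4 := s.gJ.2
  have c : ∀ x ∈ s.J0, k ∈ centralizer {x} := fun x hx => mem_cen.2 (te_comm h2 hJ hk (s.te_J0 hx) hn (h3 hx))
  have c1 : k ∈ centralizer {s.e1} := c _ (m 0)
  have c2 : k ∈ centralizer {s.e2} := c _ (m 1)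
  have c3 : k ∈ centralizer {s.e3} := c _ (m 2)
  obtain ⟨j, hj, w, hw, e | e⟩ := s.nj hn
  · obtain ⟨b1, b2, b3, -⟩ := a2 j hj
    rw [e] at c1 c2 c3
    have h4 := a1 w hw (mem_cen.1 ((mul_mem_cancel_left (mem_cen.2 b1)).1 c1))
      (mem_cen.1 ((mul_mem_cancel_left (mem_cen.2 b2)).1 c2)) (mem_cen.1 ((mul_mem_cancel_left (mem_cen.2 b3)).1 c3))
    rw [h4, mul_one] at e
    rw [te_one h2 hJ hk (e ▸ hj)]
    exact one_mem _
  · obtain ⟨b1, b2, b3, b4⟩ := a2 j hj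
    rw [e] at c1 c2 c3
    have h4 := a1 w hw
      (mem_cen.1 ((mul_mem_cancel_left (mem_cen.2 b1)).1 ((mul_mem_cancel_right (mem_cen.2 a3)).1 c1)))
      (mem_cen.1 ((mul_mem_cancel_left (mem_cen.2 b2)).1 ((mul_mem_cancel_right (mem_cen.2 a4)).1 c2)))
      (mem_cen.1 ((mul_mem_cancel_left (mem_cen.2 b3)).1 ((mul_mem_cancel_right (mem_cen.2 a5)).1 c3)))
    rw [h4, mul_one] at e
    have h5 : j * s.t = s.t * j := mem_cen.1 ((mul_mem_cancel_right (mem_cen.2 rfl)).1 (e ▸ h1 hk))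
    have h6 : k * k = j * j := by
      rw [e, mul_assoc, ← mul_assoc s.t, ← h5, mul_assoc, s.sqs.2.2.2.1, mul_one]
    rw [e, b4 (te_one h2 hJ (h6 ▸ mul_mem hk hk) (mul_mem hj hj)), one_mul]
    exact mem_zpowers _

theorem te_sc (ht : s.t ≠ 1) : Sc (centralizer {s.t}) (zpowers s.t) ⊥ s.f s.q := by
  have a : (s.e1 * s.t = s.t * s.e1 ∧ s.e2 * s.t = s.t * s.e2 ∧ s.e3 * s.t = s.t * s.e3 ∧ s.v * s.t = s.t * s.v ∧
      s.a1 * s.t = s.t * s.a1) ∧ (∀ x ∈ s.S, x * s.t = s.t * x → x ∈ s.S0) ∧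
      (∀ x ∈ s.S1, x ∈ s.J0 ∧ x ^ 3 = 1 ∧ (x = 1 ∨ x = s.z ∨ x = s.z⁻¹ ∨ x ∈ s.Lg) ∧ ∀ y ∈ s.S1, x * y = y * x) ∧
      s.u ∈ s.Lg ∧ s.u ∈ s.Q ∧ s.u ∈ s.J0 := s.hL.decide (s.repB ht) (by decide +kernel)
  obtain ⟨a1, a2, a3, a4, a5, a6⟩ := a
  obtain ⟨b1, b2, -⟩ := te_q8 s.car
  refine ⟨⟨⟨zpowers_le.2 (mem_cen.2 rfl), fun g hg => GT.PG.mem_normalizer_zpowers ?_, ?_⟩, bot_le,
    fun z hz => ?_, fun z hz => ?_, clos_le.2 ?_, inf_bot_eq _, fun X h1 h2 h3 => ?_⟩, s.car, mem_cen.2 s.qt,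
    fun g hg e => ?_⟩
  · rw [mem_cen'.1 hg]; exact mem_zpowers _
  · rw [card_zpowers_of_sq ht s.sqs.2.2.2.1]; norm_num
  · simp [mem_bot.1 hz]
  · simp [mem_bot.1 hz]
  · simpa only [List.forall_mem_cons, List.not_mem_nil, false_imp_iff, implies_true, and_true, mem_cen] using a1
  · have h4 : ∀ k ∈ X, k * s.z = s.z * k → k ∈ zpowers s.t := fun k hk e => by
      have h5 : k ∈ normalizer (s.Q : Set G) := by
        rw [← cj_eq_iff, ← s.Q_eq, ← Q3_cj, mem_cen'.1 (mem_cen.2 e)]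
      exact s.te_nj ht h1 h2 h3 hk (s.cen_root ht a4 (mem_cen.2 (te_comm h2 (k := 5) s.gQ.2 hk a5 h5 (h3 a6))))
    refine le_of_nine s.gS1.2 (fun x hx => (a3 x hx).2.1) (fun x hx => (a3 x hx).2.2.2)
      (fun x hx => h3 (a3 x hx).1) h2 fun x hx h5 k hk e => ?_
    rcases (a3 x hx).2.2.1 with h6 | h6 | h6 | h6
    · exact absurd h6 h5
    · exact h4 k hk (h6 ▸ e)
    · exact h4 k hk (Commute.inv_right_iff.1 (h6 ▸ e))
    · exact s.te_nj ht h1 h2 h3 hk (s.cen_root ht h6 (mem_cen.2 e))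
  · have h1 : g * s.z = s.z * g := mul_inv_eq_iff_eq_mul.1 (mul_inv_eq_one.1 (mem_bot.1 e))
    have h2 : ∀ k ∈ s.R, ∀ x ∈ s.S, k * x ∈ centralizer {s.t} → k * x ∈ s.f.CC s.q := fun k hk x hx e =>
      mul_mem (b1 hk) (b2 (a2 x hx (mem_cen.1 ((mul_mem_cancel_left (mem_cen.2 (s.cRt k hk))).1 e))))
    obtain ⟨k, hk, x, hx, rfl | rfl⟩ := s.cz g h1
    · exact mem_sup_left (mem_sup_left (h2 k hk x hx hg))
    · exact mem_sup_left (mul_mem (mem_sup_left (h2 k hk x hx ((mul_mem_cancel_right (mem_cen.2 rfl)).1 hg)))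
        (mem_sup_right (mem_zpowers _)))

theorem te_mv (ht : s.t ≠ 1) : Mv (centralizer {s.t}) ⊥ s.f := by
  have a : s.s3 * s.t = s.t * s.s3 ∧ (∀ x ∈ s.J0, s.s3 * x * s.s3⁻¹ ∈ s.J0) ∧ s.s3 * s.z * s.s3⁻¹ ∉ s.S1 ∧
      s.z ∈ s.S1 := s.hL.decide (s.repB ht) (by decide +kernel)
  refine ⟨s.s3, mem_cen.2 a.1, ?_, fun e => a.2.2.1 ?_⟩
  · rw [sup_bot_eq]; exact mem_normalizer_of_conj_mem a.2.1
  · rw [sup_bot_eq] at e; exact zpowers_le.2 a.2.2.2 e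

theorem te_card (ht : s.t ≠ 1) : ¬ 2048 ∣ Nat.card (centralizer ({s.t} : Set G)) := by
  have h1 : zpowers s.t ⊔ ⊥ ≤ centralizer ({s.t} : Set G) := sup_le (s.te_sc ht).sec.le bot_le
  have h2 : Nat.card (zpowers s.t ⊔ ⊥ : Subgroup G) = 2 := by
    rw [sup_bot_eq, card_zpowers_of_sq ht s.sqs.2.2.2.1]
  rcases (s.te_sc ht).iso (s.te_mv ht) (ZMod 3) (ZMod.card 3) with ⟨h, -⟩ | ⟨h, -⟩ | ⟨h, -⟩ <;>
    rw [F4L.pr_top h h1, h2]
  · rw [F4L.pr_psp]; norm_num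
  · rw [F4L.pr_aut]; norm_num
  · rw [Sp6.card_sp]; norm_num

theorem te_rho : ∃ ρ : Fin 4 → Fin 4 → G, ∀ i, ∀ x ∈ s.Rn i, ∃ c, (x = ρ i c ∨ x = ρ i c * s.r) ∧
    x * x = if c = 0 then 1 else s.r := by
  obtain ⟨-, -, h⟩ := te_q8 s.car
  refine ⟨fun i c => s.sn i * (![1, s.q, s.e3 * s.q * s.e3⁻¹, s.q * (s.e3 * s.q * s.e3⁻¹)] c) * (s.sn i)⁻¹, fun i x hx => ?_⟩
  obtain ⟨k, hk, rfl⟩ : ∃ k ∈ s.R, x = s.sn i * k * (s.sn i)⁻¹ := ⟨_, mem_cj.1 hx, by group⟩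
  have h1 : s.sn i * s.r * (s.sn i)⁻¹ = s.r := mem_cen'.1 (s.WK_le (s.sn_mem i)).1
  have h2 : ∀ (y : G) (c : Fin 4), (k = y ∨ k = y * s.r) → k * k = (if c = 0 then 1 else s.r) →
      (s.sn i * k * (s.sn i)⁻¹ = s.sn i * y * (s.sn i)⁻¹ ∨ s.sn i * k * (s.sn i)⁻¹ = s.sn i * y * (s.sn i)⁻¹ * s.r) ∧
      s.sn i * k * (s.sn i)⁻¹ * (s.sn i * k * (s.sn i)⁻¹) = if c = 0 then 1 else s.r := fun y c e1 e2 => by
    refine ⟨e1.imp (fun e => by rw [e]) fun e => by rw [e, ← conj_mul, h1], ?_⟩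
    rw [conj_mul, e2]
    split_ifs
    exacts [by simp, h1]
  rcases h k hk with e | e | e | e
  exacts [⟨0, h2 _ 0 e.1 e.2⟩, ⟨1, h2 _ 1 e.1 e.2⟩, ⟨2, h2 _ 2 e.1 e.2⟩, ⟨3, h2 _ 3 e.1 e.2⟩]

namespace Ek

variable {s} (h : s.Ek)
include h

theorem te_cen {x : Fin 4 → G} (hx : ∀ i, x i ∈ s.Rn i) (j : Fin 4) {y : G} (hy : y ∈ s.Rn j) :
    x 0 * x 1 * x 2 * x 3 ∈ centralizer ({y} : Set G) ↔ x j ∈ centralizer ({y} : Set G) := by
  have c : ∀ i, i ≠ j → x i ∈ centralizer ({y} : Set G) := fun i hi => mem_cen.2 (h.comm i j hi _ (hx i) _ hy)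
  fin_cases j
  · rw [mul_mem_cancel_right (c 3 (by decide)), mul_mem_cancel_right (c 2 (by decide)),
      mul_mem_cancel_right (c 1 (by decide))]
    rfl
  · rw [mul_mem_cancel_right (c 3 (by decide)), mul_mem_cancel_right (c 2 (by decide)),
      mul_mem_cancel_left (c 0 (by decide))]
    rfl
  · rw [mul_mem_cancel_right (c 3 (by decide)), mul_mem_cancel_left (mul_mem (c 0 (by decide)) (c 1 (by decide)))]
    rfl
  · rw [mul_mem_cancel_left (mul_mem (mul_mem (c 0 (by decide)) (c 1 (by decide))) (c 2 (by decide)))]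
    rfl

/-- Coordinates of an involution of `E`. -/
theorem te_co : ∃ P : (Fin 4 → Fin 4) → G, ∀ w ∈ s.E, w * w = 1 → ∃ c, (w = P c ∨ w = P c * s.r) ∧
    ((c 0 = 0 ↔ c 1 = 0) ↔ (c 2 = 0 ↔ c 3 = 0)) ∧ ∀ j, c j = 0 ↔ s.Rn j ≤ centralizer {w} := by
  obtain ⟨ρ, hρ⟩ := s.te_rho
  refine ⟨fun c => ρ 0 (c 0) * ρ 1 (c 1) * ρ 2 (c 2) * ρ 3 (c 3), fun w hw h2 => ?_⟩
  obtain ⟨x, hx, rfl⟩ := h.dec hw
  choose c h3 h4 using fun i => hρ i (x i) (hx i)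
  have r2 := h.es.z_sq
  have r1 := h.es.z_ne
  have cr : ∀ i, Commute s.r (x i) := fun i => (s.esRn i).z_comm _ (hx i)
  have k : ∀ {a a' b b' : G}, Commute s.r b → (a = a' ∨ a = a' * s.r) → (b = b' ∨ b = b' * s.r) →
      a * b = a' * b' ∨ a * b = a' * b' * s.r := fun {a a' b b'} hb e1 e2 => by
    have hb' : s.r * b' = b' * s.r := by
      rcases e2 with rfl | rfl
      exacts [hb, mul_right_cancel (b := s.r) (by rw [mul_assoc, hb])]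
    rcases e1 with rfl | rfl <;> rcases e2 with rfl | rfl
    · exact .inl rfl
    · exact .inr (mul_assoc _ _ _).symm
    · exact .inr (by rw [mul_assoc, hb', mul_assoc])
    · exact .inl (by rw [mul_assoc, ← mul_assoc s.r, hb', mul_assoc, r2, mul_one])
  refine ⟨c, k (cr 3) (k (cr 2) (k (cr 1) (h3 0) (h3 1)) (h3 2)) (h3 3), ?_, fun j => ⟨fun e y hy => ?_, fun e => ?_⟩⟩
  · have cm : ∀ i j, i ≠ j → Commute (x i) (x j) := fun i j e => h.comm i j e _ (hx i) _ (hx j)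
    rw [← pow_two, (((cm 0 3 (by decide)).mul_left (cm 1 3 (by decide))).mul_left (cm 2 3 (by decide))).mul_pow,
      ((cm 0 2 (by decide)).mul_left (cm 1 2 (by decide))).mul_pow, (cm 0 1 (by decide)).mul_pow] at h2
    simp only [pow_two, h4] at h2
    by_cases e0 : c 0 = 0 <;> by_cases e1 : c 1 = 0 <;> by_cases e2 : c 2 = 0 <;> by_cases e3 : c 3 = 0 <;>
      simp [e0, e1, e2, e3, r1, r2] at h2 ⊢
  · refine mem_cen.2 (mem_cen.1 ((h.te_cen hx j hy).2 (mem_cen.2 ?_))).symm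
    have h5 := h4 j
    obtain ⟨k, hk, e1⟩ : ∃ k ∈ s.R, x j = s.sn j * k * (s.sn j)⁻¹ := ⟨_, mem_cj.1 (hx j), by group⟩
    rw [if_pos e, e1, conj_mul, conj_eq_one_iff] at h5
    rcases s.invR k hk h5 with rfl | rfl
    · rw [e1]; simp
    · rw [e1, mem_cen'.1 (s.WK_le (s.sn_mem j)).1]
      exact (s.esRn j).z_comm y hy
  · by_contra h5
    have h6 := h4 j
    rw [if_neg h5] at h6
    rcases (s.esRn j).center _ (hx j) fun y hy => mem_cen.1 ((h.te_cen hx j hy).1 (mem_cen.2 (mem_cen.1 (e hy)).symm))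
      with e1 | e1 <;> rw [e1] at h6
    exacts [r1 (by simpa using h6.symm), r1 (h6.symm.trans r2)]

theorem te_inv {v m : G} (hv : v ∈ s.E) (hm : m ∈ s.M) (h1 : ∃ i, s.Rn i ≤ centralizer {v}) :
    ∃ j, s.Rn j ≤ centralizer {m * v * m⁻¹} := by
  obtain ⟨e, he, n, hn, rfl⟩ := h.mem_M hm
  obtain ⟨i, h1⟩ := h1
  obtain ⟨j, h2⟩ := s.perm hn i
  have h3 : s.Rn j ≤ centralizer {n * v * n⁻¹} := by
    rw [← h2, ← cj_centralizer_singleton]; exact cj_mono h1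
  refine ⟨j, fun y hy => mem_cen.2 ?_⟩
  rw [show e * n * v * (e * n)⁻¹ = e * (n * v * n⁻¹) * e⁻¹ by group]
  have h4 : Commute y (n * v * n⁻¹) := mem_cen.1 (h3 hy)
  rcases h.es.comm e he _ (conj_mem_of_mem_norm (h.nE hn) hv) with e1 | e1 <;> rw [e1]
  · rw [mul_inv_cancel_right]; exact h4
  · rw [mul_assoc s.r, mul_inv_cancel_right]
    exact (show Commute y s.r from ((s.esRn j).z_comm y hy).symm).mul_right h4

theorem te_le {v : G} (hv : v ∈ s.E) (h2 : v * v = 1) : (centralizer {v}).relIndex s.M ≤ 162 := by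
  classical
  obtain ⟨P, hP⟩ := h.te_co
  have key : ∀ S : Finset (Fin 4 → Fin 4), (∀ m ∈ s.M, ∃ c ∈ S, m * v * m⁻¹ = P c ∨ m * v * m⁻¹ = P c * s.r) →
      (centralizer {v}).relIndex s.M ≤ S.card + S.card := fun S hS => by
    refine (Inv.Sec.relIndex_le_ncard (fun m => m * v * m⁻¹)
      (T := ((S.image P ∪ S.image fun c => P c * s.r : Finset G) : Set G)) (Finset.finite_toSet _) (fun m hm => ?_)
      fun a _ b _ e => Inv.Sec.fib_conj e).trans ?_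
    · obtain ⟨c, hc, e | e⟩ := hS m hm
      exacts [Finset.mem_union_left _ (Finset.mem_image.2 ⟨c, hc, e.symm⟩),
        Finset.mem_union_right _ (Finset.mem_image.2 ⟨c, hc, e.symm⟩)]
    · rw [Set.ncard_coe_finset]
      exact (Finset.card_union_le _ _).trans (add_le_add Finset.card_image_le Finset.card_image_le)
  have h3 := fun m (hm : m ∈ s.M) => hP (m * v * m⁻¹) (conj_mem_of_mem_norm (h.M_norm hm) hv)
    (by rw [conj_mul, h2]; simp)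
  by_cases h1 : ∃ i, s.Rn i ≤ centralizer {v}
  · refine (key (Finset.univ.filter fun c => ((c 0 = 0 ↔ c 1 = 0) ↔ (c 2 = 0 ↔ c 3 = 0)) ∧ ∃ j, c j = 0)
      fun m hm => ?_).trans (by decide +kernel)
    obtain ⟨c, e1, e2, e3⟩ := h3 m hm
    exact ⟨c, Finset.mem_filter.2 ⟨Finset.mem_univ _, e2, (h.te_inv hv hm h1).imp fun j => (e3 j).2⟩, e1⟩
  · refine (key (Finset.univ.filter fun c => ∀ j, c j ≠ 0) fun m hm => ?_).trans (by decide +kernel)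
    obtain ⟨c, e1, -, e3⟩ := h3 m hm
    refine ⟨c, Finset.mem_filter.2 ⟨Finset.mem_univ _, fun j e => h1 ?_⟩, e1⟩
    simpa [mul_assoc] using h.te_inv (conj_mem_of_mem_norm (h.M_norm hm) hv) (inv_mem hm) ⟨j, (e3 j).1 e⟩

theorem te_fix {x w : G} (hx : x ∈ s.T) (h1 : x ∈ s.Lg ∨ x ∈ s.Om) (hw : w ∈ s.E) (h2 : w * w = 1)
    (h3 : Commute x w) : w = 1 ∨ w = s.r := by
  have a : ∀ x ∈ s.T, x ∈ s.Lg ∨ x ∈ s.Om → ∃ y ∈ s.T, (y = x ∨ y = x⁻¹) ∧ (y = s.k1 ∨ y = s.k2 ∨ y = s.k3 ∨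
      y = 1 * s.z * 1⁻¹ ∨ y = s.s1 * s.z * s.s1⁻¹ ∨ y = s.m * s.z * s.m⁻¹ ∨ y = s.s3 * s.z * s.s3⁻¹) :=
    s.hL.decide s.rep0 (by decide +kernel)
  obtain ⟨y, -, e1, e2⟩ := a x hx h1
  have h4 : y * w = w * y := by
    rcases e1 with rfl | rfl
    exacts [h3, h3.inv_left]
  have h5 : ∀ i, y = s.zn i → w = 1 ∨ w = s.r := fun i e => by
    obtain ⟨k, hk, rfl⟩ : ∃ k ∈ s.R, w = s.sn i * k * (s.sn i)⁻¹ := ⟨_, mem_cj.1 (h.cz i w hw (e ▸ h4.symm)), by group⟩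
    rw [conj_mul, conj_eq_one_iff] at h2
    rcases s.invR k hk h2 with rfl | rfl
    exacts [.inl (by simp), .inr (mem_cen'.1 (s.WK_le (s.sn_mem i)).1)]
  rcases e2 with e | e | e | e | e | e | e
  exacts [h.fpf.1 w hw (e ▸ h4), h.fpf.2.1 w hw (e ▸ h4), h.fpf.2.2 w hw (e ▸ h4), h5 0 e, h5 1 e, h5 2 e, h5 3 e]

theorem te_nine {v : G} (hv : v ∈ s.E) (h2 : v * v = 1) (h1 : v ≠ 1) (hr : v ≠ s.r) :
    ¬ 9 ∣ Nat.card (centralizer {v} ⊓ s.M : Subgroup G) := fun h9 => by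
  classical
  obtain ⟨B0, hB0⟩ := Sylow.exists_subgroup_card_pow_prime 3 (n := 2) h9
  have hB : Nat.card (B0.map (centralizer {v} ⊓ s.M : Subgroup G).subtype) = 3 ^ 2 := by
    rwa [card_map_of_injective (subtype_injective _)]
  have hl := map_subtype_le B0
  obtain ⟨g, hg, h3⟩ := (s.sylT.mono (s.T_le.trans le_sup_right) s.M_le).exists_cj_le (IsPGroup.of_card hB)
    (hl.trans inf_le_right)
  have h4 := cj_mono (g := g) (hl.trans inf_le_left)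
  rw [cj_centralizer_singleton] at h4
  rw [← card_cj g] at hB
  generalize cj g _ = B at h3 h4 hB
  have h5 : ∀ x ∈ B, ¬ (x ∈ s.Lg ∨ x ∈ s.Om) := fun x hx e => by
    rcases h.te_fix (h3 hx) e (conj_mem_of_mem_norm (h.M_norm hg) hv) (by rw [conj_mul, h2]; simp) (mem_cen.1 (h4 hx))
      with e1 | e1
    · exact h1 (conj_eq_one_iff.1 e1)
    · exact hr (by simpa using e1.trans (mem_cen'.1 (s.M_le hg)).symm)
  have a : ∀ a ∈ s.T, ∀ b ∈ s.T, a * b = b * a → a ≠ 1 → b ≠ 1 → b ≠ a → b ≠ a⁻¹ → (a ∈ s.Lg ∨ a ∈ s.Om) ∨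
      (b ∈ s.Lg ∨ b ∈ s.Om) ∨ (a * b ∈ s.Lg ∨ a * b ∈ s.Om) ∨ (a * b⁻¹ ∈ s.Lg ∨ a * b⁻¹ ∈ s.Om) :=
    s.hL.decide s.rep0 (by decide +kernel)
  have h6 : ∀ S : Finset G, S.card ≤ 3 → ∃ b ∈ B, b ∉ S := fun S hS => by
    by_contra h7
    push Not at h7
    have := Set.ncard_le_ncard (s := (B : Set G)) (t := S) h7
    rw [Set.ncard_coe_finset, ← Nat.card_coe_set_eq] at this
    exact absurd (hB.ge.trans (this.trans hS)) (by norm_num)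
  obtain ⟨x, hx, e1⟩ := h6 {1} (by simp)
  obtain ⟨y, hy, e2⟩ := h6 {1, x, x⁻¹} Finset.card_le_three
  simp only [Finset.mem_insert, Finset.mem_singleton, not_or] at e1 e2
  have h8 : x * y = y * x :=
    congrArg Subtype.val ((IsPGroup.isMulCommutative_of_card_eq_prime_sq hB).is_comm.comm ⟨x, hx⟩ ⟨y, hy⟩)
  rcases a x (h3 hx) y (h3 hy) h8 e1 e2.1 e2.2.1 e2.2.2 with e | e | e | e
  exacts [h5 _ hx e, h5 _ hy e, h5 _ (mul_mem hx hy) e, h5 _ (mul_mem hx (inv_mem hy)) e]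

end Ek

end Lo

theorem Lo.Ek.te {s : Lo G} (h : s.Ek) : s.Te := by
  refine or_iff_not_imp_left.2 fun ht v hv hc => s.te_card ht ?_
  obtain ⟨g, rfl⟩ := isConj_iff.1 hc
  rw [← card_cj g, cj_centralizer_singleton]
  have h1 : g * s.t * g⁻¹ ≠ 1 := fun e => ht (conj_eq_one_iff.1 e)
  have h2 : g * s.t * g⁻¹ * (g * s.t * g⁻¹) = 1 := by rw [conj_mul, s.sqs.2.2.2.1]; simp
  generalize g * s.t * g⁻¹ = v at hv h1 h2
  have hM : Nat.card s.M = 663552 := by rw [h.card_M, (s.card_NK.resolve_left fun e => ht e.2).1]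
  by_cases hr : v = s.r
  · rw [hr]
    exact Dvd.dvd.trans (by rw [hM]; norm_num) (card_dvd_of_le s.M_le)
  · refine Dvd.dvd.trans ?_ (card_dvd_of_le (inf_le_left (b := s.M)))
    have h3 := h.te_nine hv h2 h1 hr
    have h4 := h.te_le hv h2
    have h5 : (centralizer {v}).relIndex s.M * Nat.card (centralizer {v} ⊓ s.M : Subgroup G) = 663552 := by
      rw [← hM, ← inf_relIndex_right, mul_comm]
      exact Inv.Fz.card_mul_relIndex inf_le_right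
    generalize (centralizer {v}).relIndex s.M = n at h4 h5
    interval_cases n <;> omega

end Cfsg.Agent.Tr8
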