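import Mathlib
import Cfsg.Agent.Tr8.Mk
import Cfsg.Agent.GT.TransferCocycle
import Cfsg.Agent.Rec.Loc
import Cfsg.Agent.Cl.QuadSimGrp

/-! Transfer (PLAN section Tf). -/

set_option autoImplicit false
set_option synthInstance.maxSize 100000
set_option synthInstance.maxHeartbeats 1000000
set_option linter.unusedSectionVars false
set_option maxRecDepth 100000

namespace Cfsg.Agent.Tr8

open Cfsg.Agent.Spor Cfsg.Agent.Rec Cfsg.Agent.Inv.Fz Cfsg.Agent.T16 Cfsg.Agent.T3 Cfsg.Agent.T3.LB Subgroup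

universe u

variable {G : Type u} [Group G] [Finite G]

theorem Lo.tf_rel (s : Lo G) :
    s.k1 ^ 3 = 1 ∧ s.k2 ^ 3 = 1 ∧ s.k3 ^ 3 = 1 ∧ s.y ^ 3 = 1 ∧ (s.a1 * s.a2) ^ 3 = 1 ∧ (s.a2 * s.m) ^ 3 = 1 :=
  s.hL.decide s.rep0 (by decide +kernel)

/-- `K₀` lies in the kernel of every homomorphism to the group of order two. -/
theorem Lo.K0_le_ker (s : Lo G) (τ : G →* Multiplicative (ZMod 2)) : s.K0 ≤ τ.ker := by
  obtain ⟨r1, r2, r3, r4, r5, r6⟩ := s.tf_rel
  have h3 : ∀ x : G, x ^ 3 = 1 → τ x = 1 := fun x hx => by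
    have : τ x ^ 3 = 1 := by rw [← map_pow, hx, map_one]
    revert this
    generalize τ x = a
    revert a
    decide
  have cjg : ∀ g x : G, τ (g * x * g⁻¹) = τ x := fun g x => by
    rw [map_mul, map_mul, map_inv, mul_inv_cancel_comm]
  have hq : τ s.q = 1 := by
    have := congrArg τ s.car.cq
    rw [cjg, map_mul τ s.q, cjg] at this
    exact (mul_eq_left.1 this.symm)
  have ha1 : τ s.a1 = 1 := by
    have := congrArg τ s.car.q2
    rw [map_mul, hq, one_mul] at this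
    exact this.symm
  have ha2 : τ s.a2 = 1 := by
    have := h3 _ r5
    rwa [map_mul, ha1, one_mul] at this
  have hm : τ s.m = 1 := by
    have := h3 _ r6
    rwa [map_mul, ha2, one_mul] at this
  have hR : s.R ≤ τ.ker := clos_le.2 (by
    simp only [List.forall_mem_cons, List.not_mem_nil, false_imp_iff, implies_true, and_true, MonoidHom.mem_ker]
    exact ⟨hq, (cjg _ _).trans hq⟩)
  have hRn : ∀ i, s.Rn i ≤ τ.ker := fun i => cj_le_iff.2 fun x hx => (cjg _ _).trans (hR hx)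
  refine sup_le (sup_le (sup_le (sup_le (hRn 0) (hRn 1)) (hRn 2)) (hRn 3)) (sup_le (clos_le.2 ?_) (clos_le.2 ?_)) <;>
    simp only [List.forall_mem_cons, List.not_mem_nil, false_imp_iff, implies_true, and_true, MonoidHom.mem_ker]
  exacts [⟨h3 _ r1, h3 _ r2, h3 _ r3⟩, ⟨ha1, h3 _ r4, hm⟩]

/-- The centraliser of `r` has odd index. -/
theorem Lo.Ek.odd_index {s : Lo G} (h : s.Ek) : ¬ 2 ∣ s.K.index := by
  obtain ⟨P, hP, hEP⟩ := exists_isSylIn (p := 2) h.es.isPGroup s.E_le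
  have h1 : IsSylIn 2 P ⊤ := isSylIn_of_center hP (hEP h.es.z_mem) h.es.z_ne fun x hx hc =>
    have hxE : x ∈ s.E := h.cen fun y hy => (hc y (hEP hy)).symm
    h.es.center x hxE fun y hy => hc y (hEP hy)
  have h2 := h1.not_dvd_relIndex
  rw [relIndex_top_right] at h2
  exact fun h3 => h2 (h3.trans (index_dvd_of_le hP.le))

/-- A 2-subgroup of `M` centralising a free element has order at most `2^9`. -/
theorem Lo.Ek.fre_small {s : Lo G} (h : s.Ek) (ht : s.t ≠ 1) {i : G} (hi : i ∈ s.M) (hf : s.Fre i) {C : Subgroup G}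
    (hC : C ≤ s.M) (hc : ∀ x ∈ C, x * i = i * x) : Nat.card C ≠ 2 ^ 10 := fun hn => by
  have h1 : Nat.card (C ⊓ s.E : Subgroup G) ≤ 32 :=
    h.fre_card hi hf inf_le_right fun x hx => Or.inl (by rw [hc x hx.1]; group)
  have EM : s.E ≤ s.M := le_sup_left
  have : (s.E.subgroupOf s.M).Normal := (normal_subgroupOf_iff_le_normalizer EM).2 h.M_norm
  have h2 : s.E.relIndex s.M = 1296 := by
    have := (s.E.subgroupOf s.M).index_mul_card
    rw [Nat.card_congr (subgroupOfEquivOfLe EM).toEquiv, h.card, h.card_M,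
      (s.card_NK.resolve_left fun k => ht k.2).1] at this
    rw [relIndex]
    omega
  have h3 : s.E.relIndex C ∣ 1296 := by
    rw [← h2, ← relIndex_subgroupOf hC]
    exact relIndex_dvd_index_of_normal _ _
  have h4 := (s.E.subgroupOf C).index_mul_card
  rw [← inf_subgroupOf_left, Nat.card_congr (subgroupOfEquivOfLe (inf_le_left : C ⊓ s.E ≤ C)).toEquiv,
    inf_subgroupOf_left, hn] at h4
  have h5 : s.E.relIndex C ∣ 16 := by
    have := Nat.dvd_gcd h3 (Dvd.intro _ h4)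
    simpa using this
  have h6 := Nat.le_of_dvd (by norm_num) h5
  rw [relIndex] at h6
  have := Nat.mul_le_mul h6 h1
  omega

theorem Lo.Ek.tf {s : Lo G} (h : s.Ek) (hK : s.K = s.M) (ht : s.Te) :
    ∃ H : Subgroup G, H.Normal ∧ (H.index = 1 ∨ H.index = 2) ∧ H ⊓ s.K = s.K0 ∧ H ⊔ s.K = ⊤ := by
  have KK : s.K0 ≤ s.K := hK ▸ h.K0_le
  have cov : ∀ g ∈ s.K, g ∈ s.K0 ∨ g * s.t ∈ s.K0 := fun g hg => h.K0_cov (hK ▸ hg)
  by_cases t1 : s.t = 1
  · refine ⟨⊤, inferInstance, Or.inl index_top, ?_, top_sup_eq _⟩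
    rw [top_inf_eq]
    exact le_antisymm (fun g hg => (cov g hg).elim id fun k => by rwa [t1, mul_one] at k) KK
  have tK : s.t ∈ s.K := s.t_mem.1
  have tn := h.t_not t1
  have t2 : s.t * s.t = 1 := s.sqs.2.2.2.1
  have hi : (s.K0.subgroupOf s.K).index = 2 := by
    refine index_eq_two_iff.2 ⟨⟨s.t, tK⟩, fun b => ?_⟩
    simp only [mem_subgroupOf, coe_mul]
    by_cases hb : (b : G) ∈ s.K0
    · exact Or.inr ⟨hb, fun k => tn ((mul_mem_cancel_left hb).1 k)⟩
    · exact Or.inl ⟨(cov b b.2).resolve_left hb, hb⟩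
  have := normal_of_index_eq_two hi
  obtain ⟨φ, -, hφ⟩ := Cl.quad_hom_two hi
  have hτ : MonoidHom.transfer φ s.t ≠ 1 := fun hτ => by
    obtain ⟨C, hC, hc, hn⟩ := h.two_ten t1
    obtain ⟨g, g1, g2, g3⟩ := GT.Tr.thompson_transfer φ h.odd_index (by decide) (by rw [pow_two, t2]) hτ
      (IsPGroup.of_card hn) hc
    have i0 : g⁻¹ * s.t * g ∈ s.K0 := mem_subgroupOf.1 (hφ ▸ g2 : (⟨_, g1⟩ : s.K) ∈ s.K0.subgroupOf s.K)
    have i2 : g⁻¹ * s.t * g * (g⁻¹ * s.t * g) = 1 := by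
      calc _ = g⁻¹ * (s.t * s.t) * g := by group
        _ = 1 := by rw [t2]; group
    rcases h.inv_cases (h.K0_le i0) (i2 ▸ one_mem _) with k | k | k
    · exact (ht.resolve_left t1) _ k (isConj_iff.2 ⟨g⁻¹, by rw [inv_inv]⟩)
    · refine h.fre_small t1 (h.K0_le i0) k (C := cj g⁻¹ C) (cj_le_iff.2 fun x hx => ?_) ?_ ((card_cj _ _).trans hn)
      · rw [inv_inv, ← hK]
        exact g3 x hx
      · rintro _ ⟨x, hx, rfl⟩
        calc _ = g⁻¹ * (x * s.t) * g := by simp [mul_assoc]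
          _ = _ := by rw [hc x hx]; simp [mul_assoc]
    · exact k.2.1 i0
  have hH := s.K0_le_ker (MonoidHom.transfer φ)
  have i2 : (MonoidHom.transfer φ).ker.index = 2 := by
    have h1 : (MonoidHom.transfer φ).ker.index ∣ 2 := by
      rw [index_ker]
      simpa using card_subgroup_dvd_card (MonoidHom.transfer φ).range
    exact ((Nat.dvd_prime Nat.prime_two).1 h1).resolve_left fun k => hτ (by
      have : s.t ∈ (MonoidHom.transfer φ).ker := index_eq_one.1 k ▸ mem_top _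
      exact this)
  refine ⟨_, inferInstance, Or.inr i2, le_antisymm (fun g hg => (cov g hg.2).resolve_right fun k => hτ ?_)
    (le_inf hH KK), eq_top_iff.2 fun g _ => ?_⟩
  · exact (mul_mem_cancel_left (mem_inf.1 hg).1).1 (hH k)
  · by_cases hg : g ∈ (MonoidHom.transfer φ).ker
    · exact mem_sup_left hg
    · have := mul_mem_sup ((mul_mem_iff_of_index_two i2).2 (iff_of_false hg hτ)) (inv_mem tK)
      rwa [mul_inv_cancel_right] at this

end Cfsg.Agent.Tr8
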